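import Cfsg.Agent.Lib.FSet.A2

/-! Package A1 of plans/FSET1.md: in case A any two groups `N c` have a common Sylow subgroup. -/

set_option autoImplicit false
set_option Elab.async false
set_option linter.unusedSectionVars false

namespace CfsgLib.FSet

open Subgroup Cfsg CfsgLib.Tech CfsgLib.Gold

universe u v

variable {G : Type u} {Ω : Type v} [Group G] [Finite G] [Finite Ω] [MulAction G Ω]
  {N : Ω → Subgroup G}
  {a b : Ω} {T T' : Subgroup G}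

theorem CA.a1_inf (H : Hyp N) (hA : CA N) (hab : a ≠ b) (h : Fr (N a) T)
    (hf : ∀ t ∈ T, t • b = b) (h' : Fr (N b) T') (hf' : ∀ t ∈ T', t • a = a)
    (hn : ∀ v ∈ T, v ∈ T' → v = 1) {c d : Ω} (hcd : c ≠ d) {v : G} (hc : v ∈ N c) (hd : v ∈ N d)
    (h2 : El2 v) : v = 1 := by
  by_contra h1
  obtain ⟨g, rfl, rfl⟩ := H.two c d a b hcd hab
  have h3 : g * v * g⁻¹ ≠ 1 := fun e => h1 (by simpa using e)
  have h4 : El2 (g * v * g⁻¹) :=
    El2.of_mem (isPGroup_cj g h2.pgroup) (conj_mem_cj.2 (mem_zpowers v))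
  have h5 := H.conj_mem hc g
  have h6 := H.conj_mem hd g
  exact h3 (hn _ (h.mem_of_norm h5 (H.le_norm h hab.symm hf h5 (H.fix _ _ h6)) h4)
    (h'.mem_of_norm h6 (H.le_norm h' hab hf' h6 (H.fix _ _ h5)) h4))

theorem CA.a1_cent (H : Hyp N) (hA : CA N) (hab : a ≠ b) (h : Fr (N a) T)
    (hf : ∀ t ∈ T, t • b = b) (h' : Fr (N b) T') (hf' : ∀ t ∈ T', t • a = a)
    (hn : ∀ v ∈ T, v ∈ T' → v = 1) {c d : Ω} {w : G} (hc : w ∈ CC (N c)) (hd : w ∈ N d)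
    (h2 : El2 w) : w = 1 := by
  by_cases e : d = c
  · exact bt_eq_one (H.ben c) (e ▸ hd) hc
  · obtain ⟨x, hx, hm⟩ := H.moves e
    exact hA.a1_inf H hab h hf h' hf' hn hm (H.l3 hd hc hx) hd h2

theorem CA.a1 (H : Hyp N) (hA : CA N) (hab : a ≠ b) (h : Fr (N a) T) (hf : ∀ t ∈ T, t • b = b)
    (h' : Fr (N b) T') (hf' : ∀ t ∈ T', t • a = a) : ∃ v ∈ T, v ∈ T' ∧ v ≠ 1 := by
  by_contra hn
  push Not at hn
  have hn' : ∀ v ∈ T, v ∈ T' → v = 1 := hn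
  have C : ∀ {c d : Ω} {w : G}, w ∈ CC (N c) → w ∈ N d → El2 w → w = 1 :=
    fun h1 h2 h3 => hA.a1_cent H hab h hf h' hf' hn' h1 h2 h3
  have n1 : ∀ x ∈ T', x ∈ NN T := fun x hx =>
    H.norm_of_fix h hab.symm hf (hf' x hx) (H.fix_of_fr h' hx)
  have n2 : ∀ x ∈ T, x ∈ NN T' := fun x hx =>
    H.norm_of_fix h' hab hf' (hf x hx) (H.fix_of_fr h hx)
  have cm : ∀ x ∈ T, ∀ y ∈ T', x * y = y * x := fun x hx y hy => by
    have e := hn' (x * y * x⁻¹ * y⁻¹) (by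
      rw [mul_assoc, mul_assoc, ← mul_assoc y]
      exact mul_mem hx (conj_mem_of_mem_normalizer (n1 y hy) (inv_mem hx)))
      (mul_mem (conj_mem_of_mem_normalizer (n2 x hx) hy) (inv_mem hy))
    rwa [mul_inv_eq_one, mul_inv_eq_iff_eq_mul] at e
  obtain ⟨t, ht, t1⟩ := h'.a2_exists_ne
  obtain ⟨u, hu, hw⟩ := h.cent (H.norm (hf' t ht.1)) (mem_CC.2 fun x hx => cm x hx t ht.1)
  have u1 : u ≠ 1 := fun e => t1 (C (by simpa [e] using hw) (h'.le ht.1) (El2.of_mem h'.two ht.1))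
  obtain ⟨s, hs, hw'⟩ := h'.cent (H.norm (hf u hu.1)) (mem_CC.2 fun x hx => (cm u hu.1 x hx).symm)
  have s1 : s ≠ 1 := fun e => u1 (C (by simpa [e] using hw') (h.le hu.1) (El2.of_mem h.two hu.1))
  have key : u⁻¹ * t = 1 := by
    by_cases e : s⁻¹ * t = 1
    · have hwb : u⁻¹ * t ∈ CC (N b) := by
        have := inv_mem hw'
        rwa [mul_inv_rev, inv_inv, inv_mul_eq_one.1 e] at this
      obtain ⟨k, hk⟩ := h.exists_sg
      have kb : k • b ≠ b := fun e' => u1 (hk.eq_one hu (by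
        have h1 := H.norm_of_fix h' hab hf' e' (H.fix a k hk.mem)
        have h2 := mem_CC.1 hw k hk.mem
        have h3 : k * t * k⁻¹ * t⁻¹ = k * u * k⁻¹ * u⁻¹ := by
          calc k * t * k⁻¹ * t⁻¹ = k * u * k⁻¹ * (k * (u⁻¹ * t)) * k⁻¹ * t⁻¹ := by group
            _ = k * u * k⁻¹ * u⁻¹ := by rw [h2]; group
        have h4 := hn' (k * u * k⁻¹ * u⁻¹)
          (mul_mem (conj_mem_of_mem_normalizer hk.norm hu.1) (inv_mem hu.1))
          (h3 ▸ mul_mem (conj_mem_of_mem_normalizer h1 ht.1) (inv_mem ht.1))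
        rwa [mul_inv_eq_one, mul_inv_eq_iff_eq_mul] at h4))
      have X : ∀ z ∈ N a, CC (N a) ⊓ CC (N b) ≤ CC (N (z • b)) := fun z hz x hx => by
        have := H.conj_mem_CC hx.2 z
        rwa [mem_CC.1 hx.1 z hz, mul_inv_cancel_right] at this
      have Y : ∀ z ∈ N a, z * u⁻¹ * z⁻¹ * (u⁻¹ * t)⁻¹ ∈ N (z • b) := fun z hz => by
        have h1 := mem_CC.1 (inv_mem hw) _ (inv_mem hz)
        have h2 := mem_CC.1 (inv_mem hw) _ (inv_mem (h.le hu.1))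
        have h3 : z * u⁻¹ * z⁻¹ * (u⁻¹ * t)⁻¹ = z * t⁻¹ * z⁻¹ := by
          calc z * u⁻¹ * z⁻¹ * (u⁻¹ * t)⁻¹ = z * (u⁻¹ * (u⁻¹ * t)⁻¹) * z⁻¹ := by
                rw [mul_assoc (z * u⁻¹), h1]; group
            _ = z * t⁻¹ * z⁻¹ := by rw [h2]; group
        rw [h3]
        exact H.conj_mem (h'.le (inv_mem ht.1)) z
      refine H.geo hab ⟨hw, hwb⟩ fun e he => ?_
      have ea : e ≠ a := fun e' => he (e' ▸ inf_le_left)
      obtain ⟨S, hS, hfS⟩ := hA.exT H ea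
      obtain ⟨y, hy, rfl⟩ := h.exists_cj hS
      refine ⟨y • b, (y * k) • b, y * u⁻¹ * y⁻¹, y * k * u⁻¹ * (y * k)⁻¹, fun e' => kb ?_, X y hy,
        X _ (mul_mem hy hk.mem), hfS _ (conj_mem_cj.2 (inv_mem hu.1)), hfS _ ?_, Y y hy,
        Y _ (mul_mem hy hk.mem)⟩
      · rw [mul_smul] at e'
        exact (MulAction.injective y e').symm
      · have := (conj_mem_cj (g := y)).2 (conj_mem_of_mem_normalizer hk.norm (inv_mem hu.1))
        convert this using 1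
        group
    · have hst : s⁻¹ * t ∈ ZZ T' := mul_mem (inv_mem hs) ht
      obtain ⟨y, hy, e'⟩ := inv_conj h'.ben (s := s⁻¹) (t := s⁻¹ * t)
        ⟨h'.le (inv_mem hs.1), (h'.mem_ZZ.1 (inv_mem hs)).2, inv_ne_one.2 s1⟩
        ⟨h'.le hst.1, (h'.mem_ZZ.1 hst).2, e⟩
      have h1 := mem_CC.1 (inv_mem hw') y hy
      have h2 : y * u⁻¹ * y⁻¹ = u⁻¹ * t := by
        calc y * u⁻¹ * y⁻¹ = y * (s⁻¹ * u)⁻¹ * s⁻¹ * y⁻¹ := by group
          _ = (s⁻¹ * u)⁻¹ * (y * s⁻¹ * y⁻¹) := by rw [h1]; group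
          _ = u⁻¹ * t := by rw [e']; group
      refine C hw (h2 ▸ H.conj_mem (h.le (inv_mem hu.1)) y) (h2 ▸ ?_)
      exact El2.of_mem (isPGroup_cj y h.two) (conj_mem_cj.2 (inv_mem hu.1))
  exact u1 (hn' u hu.1 (inv_mul_eq_one.1 key ▸ ht.1))

theorem CA.ls (H : Hyp N) (hA : CA N) : LS N := by
  intro c d hcd
  obtain ⟨S, hS, hf⟩ := hA.exT H hcd.symm
  obtain ⟨S', hS', hf'⟩ := hA.exT H hcd
  obtain ⟨v, hv, hv', h1⟩ := hA.a1 H hcd hS hf hS' hf'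
  exact ⟨S, hS, hA.a2 H hcd hS hf hS' hf' hv hv' h1 ▸ hS'⟩

end CfsgLib.FSet
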