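import Cfsg.Agent.Lib.FSet.FrA
import Cfsg.Agent.Lib.Holt.Aut

/-! Package FRB of plans/FSET1.md: the action of `N_N(T)` on `Z(T)` and `T/Z(T)`. -/

set_option autoImplicit false
set_option linter.unusedSectionVars false

namespace CfsgLib.FSet

open Subgroup Cfsg CfsgLib.Tech CfsgLib.Gold

universe u v

variable {G : Type u} [Group G] [Finite G] {N T : Subgroup G} {k : G}

theorem frb_cz {t v : G} (ht : t ∈ T) (hv : v ∈ ZZ T) : t * v * t⁻¹ = v := by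
  rw [(mem_ZZ.1 hv).2 t ht, mul_inv_cancel_right]

theorem frb_cjZ {g v : G} (hg : g ∈ NN T) (hv : v ∈ ZZ T) : g * v * g⁻¹ ∈ ZZ T :=
  conj_mem_of_mem_normalizer (NN_le_ZZ T hg) hv

theorem frb_cjZ' {g v : G} (hg : g ∈ NN T) (hv : v ∈ ZZ T) : g⁻¹ * v * g ∈ ZZ T :=
  conj_mem_of_mem_normalizer' (NN_le_ZZ T hg) hv

theorem Fr.twoZ (h : Fr N T) : IsPGroup 2 (ZZ T) := h.two.to_le (ZZ_le T)

theorem Fr.sqZ (h : Fr N T) {v : G} (hv : v ∈ ZZ T) : v * v = 1 := (h.mem_ZZ.1 hv).2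

theorem Sg.trans (h : Fr N T) (hs : Sg N T k) {v w : G} (hv : v ∈ ZZ T) (hv1 : v ≠ 1)
    (hw : w ∈ ZZ T) (hw1 : w ≠ 1) : ∃ j : ℕ, k ^ j * v * (k ^ j)⁻¹ = w :=
  hs.sing.bot_trans h.twoZ hv hv1 hw hw1

theorem Sg.eq_one (hs : Sg N T k) {v : G} (hv : v ∈ ZZ T) (e : k * v = v * k) : v = 1 :=
  mem_bot.1 (hs.sing.cent.le ⟨hv, mem_centralizer_singleton_iff.2 e.symm⟩)

theorem frb_act (hs : Sg N T k) {y : G} (hy : y ∈ N) (hn : y ∈ NN T) :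
    ∃ i : ℕ, ∀ v ∈ ZZ T, y * v * y⁻¹ = k ^ i * v * (k ^ i)⁻¹ := by
  obtain ⟨t, ht, i, rfl⟩ := hs.gen y hy hn
  refine ⟨i, fun v hv => ?_⟩
  rw [← frb_cz ht (frb_cjZ (pow_mem hs.norm i) hv)]
  group

theorem Sg.ns (h : Fr N T) (hs : Sg N T k) {j : G} (hj : j ∈ NN N) (hn : j ∈ NN T) :
    Holt.NS (ZZ T) k j :=
  frb_act hs (conj_mem_of_mem_normalizer hj hs.mem) (mul_mem (mul_mem hn hs.norm) (inv_mem hn))

theorem frb_free (h : Fr N T) (hs : Sg N T k) {v : G} (hv : v ∈ ZZ T) (h1 : v ≠ 1) {j : ℕ}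
    (e : k ^ j * v * (k ^ j)⁻¹ = v) {w : G} (hw : w ∈ ZZ T) : k ^ j * w * (k ^ j)⁻¹ = w :=
  hs.sing.bot_free h.twoZ (α := fun a => k ^ j * a * (k ^ j)⁻¹) (β := fun a => a) (by simp) rfl
    (fun a _ => by group) (fun _ _ => rfl) hv h1 e hw

theorem Sg.pow_cent_iff (h : Fr N T) (hs : Sg N T k) {v : G} (hv : v ∈ ZZ T) (h1 : v ≠ 1) (j : ℕ) :
    k ^ j * v = v * k ^ j ↔ Nat.card (ZZ T) - 1 ∣ j := by
  rw [← orderOf_sing hs.sing h.twoZ, Nat.add_sub_cancel, orderOf_dvd_iff_pow_eq_one, ← map_pow, Holt.nh_eq_one]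
  exact ⟨fun e w hw => mul_inv_eq_iff_eq_mul.1 (frb_free h hs hv h1 (mul_inv_eq_iff_eq_mul.2 e) hw), fun e => e v hv⟩

theorem Fr.freeU (h : Fr N T) {y : G} (hy : y ∈ N) (hn : y ∈ NN T) {v : G} (hv : v ∈ ZZ T)
    (h1 : v ≠ 1) (e : y * v = v * y) : ∀ w ∈ ZZ T, y * w = w * y := fun w hw => by
  obtain ⟨k, hs⟩ := h.exists_sg
  obtain ⟨i, hi⟩ := frb_act hs hy hn
  exact mul_inv_eq_iff_eq_mul.1 ((hi w hw).trans
    (frb_free h hs hv h1 ((hi v hv).symm.trans (mul_inv_eq_iff_eq_mul.2 e)) hw))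

theorem Fr.sq_surj (h : Fr N T) (hne : ZZ T ≠ T) {u : G} (hu : u ∈ ZZ T) :
    ∃ x ∈ T, x * x = u := by
  by_cases h1 : u = 1
  · exact ⟨1, one_mem _, by rw [h1, mul_one]⟩
  obtain ⟨k, hs⟩ := h.exists_sg
  obtain ⟨x, hx, hn⟩ := SetLike.exists_of_lt (lt_of_le_of_ne (ZZ_le T) hne)
  obtain ⟨j, e⟩ := hs.trans h (h.sq_mem hx) (fun e => hn (h.mem_ZZ.2 ⟨hx, e⟩)) hu h1
  exact ⟨_, conj_mem_of_mem_normalizer (pow_mem hs.norm j) hx, by rw [← e]; group⟩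

theorem Fr.exists_fixSub (h : Fr N T) {s : G} (hn : s ∈ NN T) :
    ∃ W : Subgroup G, ∀ x, x ∈ W ↔ x ∈ T ∧ s * x * s⁻¹ * x⁻¹ ∈ ZZ T :=
  ⟨{ carrier := {x | x ∈ T ∧ s * x * s⁻¹ * x⁻¹ ∈ ZZ T}
     one_mem' := ⟨one_mem _, by simp⟩
     mul_mem' := fun {x y} hx hy => ⟨mul_mem hx.1 hy.1, by
       convert mul_mem hx.2 (frb_cjZ (le_normalizer hx.1) hy.2) using 1
       group⟩
     inv_mem' := fun {x} hx => ⟨inv_mem hx.1, by
       convert frb_cjZ' (le_normalizer hx.1) (inv_mem hx.2) using 1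
       group⟩ }, fun _ => Iff.rfl⟩

theorem frb_le {s : G} (hn : s ∈ NN T) {W : Subgroup G} (hW : ∀ x, x ∈ W ↔ x ∈ T ∧ s * x * s⁻¹ * x⁻¹ ∈ ZZ T) :
    ZZ T ≤ W ∧ W ≤ T :=
  ⟨fun u hu => (hW u).2 ⟨ZZ_le T hu, mul_mem (frb_cjZ hn hu) (inv_mem hu)⟩, fun x hx => ((hW x).1 hx).1⟩

theorem frb_normW (h : Fr N T) {s b : G} (hs : s ∈ NN T) {W : Subgroup G}
    (hW : ∀ x, x ∈ W ↔ x ∈ T ∧ s * x * s⁻¹ * x⁻¹ ∈ ZZ T) (hb : b ∈ NN T) (c : b⁻¹ * s * b * s⁻¹ ∈ T) : b ∈ NN W :=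
  mem_normalizer_of_forall fun x hx => by
    obtain ⟨h1, h2⟩ := (hW x).1 hx
    refine (hW _).2 ⟨conj_mem_of_mem_normalizer hb h1, ?_⟩
    convert frb_cjZ hb (mul_mem (h.comm_mem c (conj_mem_of_mem_normalizer hs h1)) h2) using 1
    group

theorem frb_centU (h : Fr N T) (hne : ZZ T ≠ T) {g : G} (e : ∀ t ∈ T, g * t * g⁻¹ * t⁻¹ ∈ ZZ T) :
    ∀ v ∈ ZZ T, g * v = v * g := fun v hv => by
  obtain ⟨x, hx, rfl⟩ := h.sq_surj hne hv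
  refine mul_inv_eq_iff_eq_mul.1 ?_
  calc g * (x * x) * g⁻¹ = g * x * g⁻¹ * x⁻¹ * (x * (g * x * g⁻¹ * x⁻¹) * x⁻¹) * (x * x) := by group
    _ = x * x := by rw [frb_cz hx (e x hx), h.sqZ (e x hx), one_mul]

theorem Fr.freeV (h : Fr N T) {y : G} (hy : y ∈ N) (hn : y ∈ NN T) (hT : y ∉ T) {x : G}
    (hx : x ∈ T) (e : y * x * y⁻¹ * x⁻¹ ∈ ZZ T) : x ∈ ZZ T := by
  by_cases hne : ZZ T = T
  · rwa [hne]
  obtain ⟨W, hW⟩ := h.exists_fixSub hn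
  obtain ⟨k, hs⟩ := h.exists_sg
  rcases h.irr (frb_le hn hW).1 (frb_le hn hW).2 (fun b hb hb' => frb_normW h hn hW hb' (by
    obtain ⟨t, ht, i, rfl⟩ := hs.gen b hb hb'
    obtain ⟨t', ht', j, rfl⟩ := hs.gen y hy hn
    convert mul_mem (conj_mem_of_mem_normalizer' (pow_mem hs.norm i) (mul_mem (mul_mem (inv_mem ht) ht')
      (conj_mem_of_mem_normalizer (pow_mem hs.norm j) ht))) (inv_mem ht') using 1
    group)) with e' | e'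
  · exact e' ▸ (hW x).2 ⟨hx, e⟩
  · have k1 : ∀ t ∈ T, y * t * y⁻¹ * t⁻¹ ∈ ZZ T := fun t ht => ((hW t).1 (e'.ge ht)).2
    obtain ⟨t, ht, c⟩ := h.inner (le_normalizer hy) k1 (frb_centU h hne k1)
    exact absurd (inv_mul_eq_one.1 (bt_eq_one h.ben (mul_mem (inv_mem (h.le ht)) hy) c) ▸ ht) hT

/-- a `2`-element normalizing `T` has a fixed point on `T / W` -/
theorem exists_fix_quot {T W P : Subgroup G} (hT : IsPGroup 2 T) (hP : IsPGroup 2 P) (hW : W < T)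
    (h1 : P ≤ NN T) (h2 : P ≤ NN W) :
    ∃ x ∈ T, x ∉ W ∧ x ∈ NN W ∧ ∀ a ∈ P, x * a * x⁻¹ * a⁻¹ ∈ W := by
  have : Fact (Nat.Prime 2) := ⟨Nat.prime_two⟩
  obtain ⟨x₀, hx₀, hn₀⟩ := SetLike.exists_of_lt (lt_inf_normalizer_of_lt hT hW)
  have hPX : P ≤ NN (T ⊓ NN W) := fun a ha => mem_normalizer_of_forall fun x hx => mem_inf.2
    ⟨conj_mem_of_mem_normalizer (h1 ha) hx.1, mul_mem (mul_mem (h2 ha) (mem_inf.1 hx).2) (inv_mem (h2 ha))⟩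
  have hY := hP.to_sup_of_normal_right' (hT.to_inf_left (K := NN W)) hPX
  obtain ⟨f, hf⟩ : ∃ f : NN W →* NN W ⧸ W.subgroupOf (NN W), ∀ x, f x = 1 ↔ (x : G) ∈ W :=
    ⟨QuotientGroup.mk' _, fun x => QuotientGroup.eq_one_iff x⟩
  obtain ⟨_, ⟨x, hx, rfl⟩, x2, e⟩ := exists_mem_center_of_normalized ((hY.comap_subtype (K := NN W)).map f)
    (N := ((T ⊓ NN W).subgroupOf (NN W)).map f) (map_mono (comap_mono le_sup_right)) (by
      rintro _ ⟨y, hy, rfl⟩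
      refine mem_normalizer_of_forall ?_
      rintro _ ⟨x, hx, rfl⟩
      exact ⟨y * x * y⁻¹, conj_mem_of_mem_normalizer (H := T ⊓ NN W) (sup_le hPX le_normalizer hy) hx, by simp⟩)
    fun e => hn₀ ((hf ⟨x₀, hx₀.2⟩).1 (mem_bot.1 (e.le (mem_map_of_mem f hx₀))))
  refine ⟨x, hx.1, fun c => ?_, x.2, fun a ha => (hf (x * ⟨a, h2 ha⟩ * x⁻¹ * (⟨a, h2 ha⟩ : NN W)⁻¹)).1 ?_⟩
  · rw [(hf x).2 c, orderOf_one] at x2
    omega
  · rw [map_mul, map_mul, map_mul, ← e _ (mem_map_of_mem f (mem_sup_left ha : a ∈ P ⊔ T ⊓ NN W))]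
    simp

theorem Fr.ktrick (h : Fr N T) (hs : Sg N T k) {x : G} (hx : x ∈ NN N) (hn : x ∈ NN T)
    (h2 : El2 x) (e : x * k * x⁻¹ * k⁻¹ ∈ T) : ∃ t ∈ T, t⁻¹ * x ∈ CC N := by
  have a := Holt.asing (fun _ => h.sqZ) hs.sing
  obtain ⟨m, hm⟩ := h2
  have c : ∀ v ∈ ZZ T, Commute x v := (Holt.nh_eq_one (x := ⟨x, NN_le_ZZ T hn⟩)).1 (a.eq_one (a.mem (by
      rw [Commute, SemiconjBy, ← mul_inv_eq_one, mul_inv_rev, ← mul_assoc, ← map_inv, ← map_inv, ← map_mul, ← map_mul,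
        ← map_mul]
      exact Holt.nh_eq_one.2 fun v hv => (FSet.mem_ZZ.1 hv).2 _ e)) (k := m) (by
    rw [← map_pow, show (⟨x, NN_le_ZZ T hn⟩ : NN (ZZ T)) ^ 2 ^ m = 1 from Subtype.ext hm, map_one]))
  obtain ⟨W, hW⟩ := h.exists_fixSub hn
  refine h.inner hx (fun t ht => ((hW t).1 ?_).2) c
  by_cases hne : ZZ T = T
  · exact (frb_le hn hW).1 (hne.ge ht)
  refine ((h.irr (frb_le hn hW).1 (frb_le hn hW).2 fun b hb hb' => ?_).resolve_left fun e' => ?_).ge ht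
  · obtain ⟨t, ht, i, rfl⟩ := hs.gen b hb hb'
    refine mul_mem (frb_normW h hn hW (le_normalizer ht) ?_) (pow_mem (frb_normW h hn hW hs.norm ?_) i)
    · simpa only [mul_assoc] using mul_mem (inv_mem ht) (conj_mem_of_mem_normalizer hn ht)
    · convert conj_mem_of_mem_normalizer' hs.norm e using 1
      group
  · obtain ⟨y, hy, hy', -, c⟩ := exists_fix_quot h.two (El2.pgroup ⟨m, hm⟩) (lt_of_le_of_ne (ZZ_le T) hne)
      (zpowers_le.2 hn) (zpowers_le.2 (NN_le_ZZ T hn))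
    exact hy' (e'.le ((hW y).2 ⟨hy, by simpa [mul_assoc] using inv_mem (c x (mem_zpowers x))⟩))

/-- an involution on the elementary abelian group `T / Z(T)` -/
theorem Fr.card_fix (h : Fr N T) {s : G} (hn : s ∈ NN T)
    (h2 : ∀ x ∈ T, s * s * x * (s * s)⁻¹ * x⁻¹ ∈ ZZ T) {W : Subgroup G}
    (hW : ∀ x, x ∈ W ↔ x ∈ T ∧ s * x * s⁻¹ * x⁻¹ ∈ ZZ T) :
    Nat.card T * Nat.card (ZZ T) ≤ Nat.card W ^ 2 ∧
      (Nat.card W ^ 2 ≤ Nat.card T * Nat.card (ZZ T) →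
        ∀ x ∈ W, ∃ y ∈ T, x⁻¹ * (y⁻¹ * (s * y * s⁻¹)) ∈ ZZ T) := by
  obtain ⟨l1, l2⟩ := frb_le hn hW
  have : ((ZZ T).subgroupOf T).Normal := ⟨fun u hu t => frb_cjZ (le_normalizer t.2) hu⟩
  have dT : ∀ x : T, (x : G)⁻¹ * (s * x * s⁻¹) ∈ T := fun x =>
    mul_mem (inv_mem x.2) (conj_mem_of_mem_normalizer hn x.2)
  obtain ⟨ψ, hψ⟩ : ∃ ψ : T →* T ⧸ (ZZ T).subgroupOf T, ∀ x, ψ x = QuotientGroup.mk' _ ⟨_, dT x⟩ :=
    ⟨MonoidHom.mk' (fun x => QuotientGroup.mk' _ ⟨_, dT x⟩) fun x y => by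
      rw [← map_mul]
      refine QuotientGroup.eq.2 (mem_subgroupOf.2 ?_)
      convert frb_cjZ' (le_normalizer (dT y)) (h.comm_mem (inv_mem y.2) (inv_mem (dT x))) using 1
      simp only [coe_mul, InvMemClass.coe_inv]
      group, fun _ => rfl⟩
  have hk : ψ.ker = W.subgroupOf T := by
    ext x
    rw [MonoidHom.mem_ker, hψ, QuotientGroup.mk'_apply, QuotientGroup.eq_one_iff, mem_subgroupOf, mem_subgroupOf, hW]
    refine ⟨fun e => ⟨x.2, ?_⟩, fun e => ?_⟩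
    · convert frb_cjZ (le_normalizer x.2) e using 1
      group
    · convert frb_cjZ' (le_normalizer x.2) e.2 using 1
      group
  have hr : ψ.range ≤ (W.subgroupOf T).map (QuotientGroup.mk' _) := by
    rintro _ ⟨x, rfl⟩
    refine ⟨_, (hW _).2 ⟨dT x, ?_⟩, (hψ x).symm⟩
    have y := conj_mem_of_mem_normalizer hn x.2
    convert mul_mem (frb_cjZ' (le_normalizer y) (h2 x x.2)) (h.sq_mem (mul_mem (inv_mem y) x.2)) using 1
    simp only [coe_subtype]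
    group
  have c1 : Nat.card W * Nat.card ψ.range = Nat.card T := by rw [← fra_card l2, ← hk, ← index_ker, card_mul_index]
  have c2 := Core.card_map_mk'_mul_card_inf (W.subgroupOf T) ((ZZ T).subgroupOf T)
  rw [inf_eq_right.2 (subgroupOf_mono T l1), fra_card (ZZ_le T), fra_card l2] at c2
  refine ⟨?_, fun c x hx => ?_⟩
  · rw [← c1, sq, mul_assoc]
    exact Nat.mul_le_mul_left _ (c2 ▸ Nat.mul_le_mul_right _ (card_le_of_le hr))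
  · rw [← c1, sq, mul_assoc] at c
    have c3 := Nat.le_of_mul_le_mul_left c Nat.card_pos
    rw [← c2] at c3
    obtain ⟨y, e⟩ := (eq_of_le_of_card_ge hr (Nat.le_of_mul_le_mul_right c3 Nat.card_pos)).ge
      (mem_map_of_mem _ (show (⟨x, l2 hx⟩ : T) ∈ W.subgroupOf T from hx))
    exact ⟨y, y.2, mem_subgroupOf.1 (QuotientGroup.eq.1 (e.symm.trans (hψ y)))⟩

end CfsgLib.FSet
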