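import Cfsg.Agent.Lib.FSet.Geo
import Cfsg.Agent.Lib.FSet.FrB

/-! Package A2 of plans/FSET1.md: case A, the Sylow subgroups fixing a second point. -/

set_option autoImplicit false
set_option Elab.async false
set_option linter.unusedSectionVars false

namespace CfsgLib.FSet

open Subgroup Cfsg CfsgLib.Tech CfsgLib.Gold

universe u v

variable {G : Type u} {Ω : Type v} [Group G] [Finite G] [Finite Ω] [MulAction G Ω]
  {N : Ω → Subgroup G}
  {a b c d : Ω} {T T' : Subgroup G}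

theorem a2_fix_cj (hf : ∀ t ∈ T, t • b = b) (g : G) : ∀ t ∈ cj g T, t • g • b = g • b :=
  fun t ht => by
    have := hf _ (mem_cj.1 ht)
    rwa [mul_smul, mul_smul, inv_smul_eq_iff] at this

theorem Fr.a2_exists_ne {M : Subgroup G} (h : Fr M T) : ∃ v ∈ ZZ T, v ≠ 1 := by
  by_contra hn
  push Not at hn
  have h1 := h.four_le
  rw [(eq_bot_iff_forall _).2 hn, card_bot] at h1
  omega

theorem CA.exT (H : Hyp N) (hA : CA N) (h : d ≠ c) :
    ∃ S : Subgroup G, Fr (N c) S ∧ ∀ t ∈ S, t • d = d := by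
  obtain ⟨a, b, T, hab, hT, hf⟩ := hA
  obtain ⟨g, rfl, rfl⟩ := H.two a b c d hab h.symm
  exact ⟨_, H.fr_smul hT g, a2_fix_cj hf g⟩

theorem Hyp.le_norm (H : Hyp N) (h : Fr (N c) T) (hd : d ≠ c) (hf : ∀ t ∈ T, t • d = d) {y : G}
    (hy : y ∈ N c) (e : y • d = d) : y ∈ NN T := by
  rcases h.le_norm_or (Y := N c ⊓ MulAction.stabilizer G d)
    (fun t ht => ⟨h.le ht, hf t ht⟩) inf_le_left with e' | e'
  · exact e' ⟨hy, e⟩
  · obtain ⟨x, hx, hm⟩ := H.moves hd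
    rw [← e'] at hx
    exact (hm hx.2).elim

theorem Hyp.eq_of_fix (H : Hyp N) (h : Fr (N c) T) (hd : d ≠ c) (hf : ∀ t ∈ T, t • d = d)
    (h' : Fr (N c) T') {v : G} (hv : v ∈ T') (h1 : v ≠ 1) (e : v • d = d) : T' = T := by
  exact h'.eq_of_norm h hv h1 (H.le_norm h hd hf (h'.le hv) e)

theorem Hyp.norm_of_fix (H : Hyp N) (h : Fr (N c) T) (hd : d ≠ c) (hf : ∀ t ∈ T, t • d = d) {g : G}
    (e1 : g • c = c) (e2 : g • d = d) : g ∈ NN T := by
  obtain ⟨v, hv, h1⟩ := h.a2_exists_ne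
  refine mem_normalizer_iff_cj.2 (H.eq_of_fix h hd hf (h.cj_norm (H.norm e1))
    (conj_mem_cj.2 hv.1) (fun e => h1 (by simpa using e)) ?_)
  have := a2_fix_cj hf g _ (conj_mem_cj.2 hv.1)
  rwa [e2] at this

theorem CA.fix (H : Hyp N) (hA : CA N) (h : Fr (N c) T) {t : G} (ht : t ∈ T) (h1 : t ≠ 1)
    (e : t • d = d) : ∀ x ∈ T, x • d = d := by
  by_cases hd : d = c
  · subst hd
    exact fun x hx => H.fix_of_fr h hx
  · obtain ⟨S, hS, hf⟩ := hA.exT H hd
    rw [H.eq_of_fix hS hd hf h ht h1 e]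
    exact hf

theorem CA.eq_one (H : Hyp N) (hA : CA N) (h : Fr (N a) T) {w : G} (hw : w ∈ CC (N a))
    (hf : ∀ e : Ω, (∀ t ∈ T, t • e = e) → w • e = e) : w = 1 := by
  refine H.faith w fun e => ?_
  by_cases he : e = a
  · subst he
    exact H.cent_fix hw
  · obtain ⟨S, hS, hfS⟩ := hA.exT H he
    obtain ⟨y, hy, rfl⟩ := h.exists_cj hS
    have h1 := hf (y⁻¹ • e) fun t ht => by
      rw [eq_inv_smul_iff, smul_smul, smul_smul]
      exact hfS _ (conj_mem_cj.2 ht)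
    rw [eq_inv_smul_iff, smul_smul, smul_smul, mem_CC.1 hw y hy, mul_inv_cancel_right] at h1
    exact h1

theorem CA.a2 (H : Hyp N) (hA : CA N) (hab : a ≠ b) (h : Fr (N a) T) (hf : ∀ t ∈ T, t • b = b)
    (h' : Fr (N b) T') (hf' : ∀ t ∈ T', t • a = a) {v : G} (hv : v ∈ T) (hv' : v ∈ T')
    (h1 : v ≠ 1) : T = T' := by
  have F : ∀ e : Ω, (∀ t ∈ T, t • e = e) → ∀ t ∈ T', t • e = e := fun e he =>
    hA.fix H h' hv' h1 (he v hv)
  obtain ⟨k, hk⟩ := h.exists_sg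
  have ka : k • a = a := H.fix a k hk.mem
  have K : ∀ g ∈ NN T, ∀ t ∈ T', t • g • b = g • b := fun g hg => F _ (by
    have := a2_fix_cj hf g
    rwa [mem_normalizer_iff_cj.1 hg] at this)
  have hne : a ≠ k • b := fun e => hab (by
    rw [← ka] at e
    exact MulAction.injective k e)
  have h2 : T' ≤ NN (cj k T') := fun x hx =>
    H.norm_of_fix (H.fr_smul h' k) hne (by
      have := a2_fix_cj hf' k
      rwa [ka] at this) (K k hk.norm x hx) (hf' x hx)
  have h3 : IsPGroup 2 ↥(T' ⊔ cj k T') :=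
    IsPGroup.to_sup_of_normal_right' h'.two (isPGroup_cj k h'.two) h2
  have hle : T' ≤ T := fun x hx => by
    have xa := H.norm (hf' x hx)
    have z1 : x * k * x⁻¹ * k⁻¹ ∈ N a :=
      mul_mem (conj_mem_of_mem_normalizer xa hk.mem) (inv_mem hk.mem)
    have z2 : x * k * x⁻¹ * k⁻¹ ∈ T' ⊔ cj k T' := by
      rw [mul_assoc, mul_assoc, ← mul_assoc k]
      exact mul_mem (mem_sup_left hx) (mem_sup_right (conj_mem_cj.2 (inv_mem hx)))
    have z3 : (x * k * x⁻¹ * k⁻¹) • b = b := by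
      rw [mul_smul, mul_smul, mul_smul, K _ (inv_mem hk.norm) _ (inv_mem hx), smul_inv_smul]
      exact H.fix_of_fr h' hx
    obtain ⟨t, ht, hc⟩ := h.ktrick hk xa
      (H.norm_of_fix h hab.symm hf (hf' x hx) (H.fix_of_fr h' hx)) (El2.of_mem h'.two hx)
      (h.mem_of_norm z1 (H.le_norm h hab.symm hf z1 z3) (El2.of_mem h3 z2))
    have h4 := hA.eq_one H h hc fun e he => by
      rw [mul_smul, F e he x hx, he _ (inv_mem ht)]
    rw [← inv_mul_eq_one.1 h4]
    exact ht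
  exact (eq_of_le_of_card_ge hle (H.card_eq h h').1.le).symm

end CfsgLib.FSet
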