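import Cfsg.Agent.Lib.FSet.A2

/-! Package A3A of plans/FSET1.md: the lines. -/

set_option autoImplicit false
set_option Elab.async false
set_option linter.unusedSectionVars false

namespace CfsgLib.FSet

open Subgroup Cfsg CfsgLib.Tech CfsgLib.Gold

universe u v

variable {G : Type u} {Ω : Type v} [Group G] [Finite G] [Finite Ω] [MulAction G Ω]
  {N : Ω → Subgroup G}
  {a b c d : Ω} {T S : Subgroup G}

theorem mem_Pt : c ∈ Pt N T ↔ Fr (N c) T := Iff.rfl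

theorem LS.ca (hL : LS N) (H : Hyp N) (a : Ω) : CA N := by
  obtain ⟨b, hb⟩ := H.exists_ne a
  obtain ⟨T, h1, h2⟩ := hL a b hb.symm
  exact ⟨a, b, T, hb.symm, h1, fun t ht => H.fix_of_fr h2 ht⟩

theorem LS.pt_of_fix (hL : LS N) (H : Hyp N) (h : Fr (N a) T) {t : G} (ht : t ∈ T) (h1 : t ≠ 1)
    (e : t • c = c) : Fr (N c) T := by
  by_cases hc : c = a
  · exact hc ▸ h
  · obtain ⟨S, h2, h3⟩ := hL a c (Ne.symm hc)
    rw [H.eq_of_fix h2 hc (fun t ht => H.fix_of_fr h3 ht) h ht h1 e]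
    exact h3

theorem Hyp.eq_of_two (H : Hyp N) (hcd : c ≠ d) (h1 : Fr (N c) T) (h2 : Fr (N d) T)
    (h3 : Fr (N c) S) (h4 : Fr (N d) S) : T = S := by
  obtain ⟨v, hv, e⟩ := h1.a2_exists_ne
  exact H.eq_of_fix h3 hcd.symm (fun t ht => H.fix_of_fr h4 ht) h1 hv.1 e (H.fix_of_fr h2 hv.1)

theorem LS.exists_pt (hL : LS N) (H : Hyp N) (h : Fr (N a) T) : ∃ e : Ω, e ≠ a ∧ Fr (N e) T := by
  obtain ⟨b, hb⟩ := H.exists_ne a
  obtain ⟨S, h1, h2⟩ := hL a b hb.symm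
  obtain ⟨y, hy, rfl⟩ := h1.exists_cj h
  refine ⟨y • b, fun e => hb (MulAction.injective y ?_), H.fr_smul h2 y⟩
  exact e.trans (H.fix a y hy).symm

theorem Hyp.exists_off (H : Hyp N) (h : Fr (N a) T) : ∃ e : Ω, ¬ Fr (N e) T := by
  obtain ⟨v, hv, e⟩ := h.a2_exists_ne
  by_contra hn
  push Not at hn
  exact e (H.faith v fun c => H.fix_of_fr (hn c) hv.1)

theorem LS.eq_of_mem (hL : LS N) (H : Hyp N) (h : Fr (N a) T) (h' : Fr (N b) S) {v : G}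
    (hv : v ∈ T) (hv' : v ∈ S) (h1 : v ≠ 1) : T = S := by
  exact h.eq_of_mem (hL.pt_of_fix H h' hv' h1 (H.fix_of_fr h hv)) hv hv' h1

theorem Hyp.pt_smul (H : Hyp N) {g : G} (hg : g ∈ NN T) : Fr (N (g • c)) T ↔ Fr (N c) T := by
  refine ⟨fun h => ?_, fun h => ?_⟩
  · have := H.fr_smul h g⁻¹
    rwa [inv_smul_smul, mem_normalizer_iff_cj.1 (inv_mem hg)] at this
  · have := H.fr_smul h g
    rwa [mem_normalizer_iff_cj.1 hg] at this

theorem Hyp.norm_of_two (H : Hyp N) (hcd : c ≠ d) (h1 : Fr (N c) T) (h2 : Fr (N d) T) {g : G}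
    (h3 : Fr (N (g • c)) T) (h4 : Fr (N (g • d)) T) : g ∈ NN T := by
  exact mem_normalizer_iff_cj.2 (H.eq_of_two (fun e => hcd (MulAction.injective g e))
    (H.fr_smul h1 g) (H.fr_smul h2 g) h3 h4)

theorem Hyp.two_tr (H : Hyp N) (hab : a ≠ b) (hcd : c ≠ d) (h1 : Fr (N a) T) (h2 : Fr (N b) T)
    (h3 : Fr (N c) T) (h4 : Fr (N d) T) : ∃ g ∈ NN T, g • a = c ∧ g • b = d := by
  obtain ⟨g, rfl, rfl⟩ := H.two a b c d hab hcd
  exact ⟨g, H.norm_of_two hab h1 h2 h3 h4, rfl, rfl⟩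

theorem LS.norm_of_conj (hL : LS N) (H : Hyp N) (h : Fr (N a) T) {t g : G} (ht : t ∈ T) (h1 : t ≠ 1)
    (e : g * t * g⁻¹ ∈ T) : g ∈ NN T := by
  exact mem_normalizer_iff_cj.2 (hL.eq_of_mem H (H.fr_smul h g) h (conj_mem_cj.2 ht) e
    fun e => h1 (by simpa using e))

theorem Hyp.disj (H : Hyp N) (hne : T ≠ S) {t : G} (ht : t ∈ T) (h1 : t ≠ 1) (hn : t ∈ NN S)
    (h : Fr (N c) T) : ¬ Fr (N c) S := by
  exact fun h2 => hne (h.eq_of_norm h2 ht h1 hn)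

theorem LS.miss (hL : LS N) (H : Hyp N) (h : Fr (N a) T) {x : G} (hx : x ∈ T) (h1 : x ≠ 1)
    (hc : ¬ Fr (N c) T) (h2 : Fr (N c) S) (h3 : Fr (N (x • c)) S) (hd : Fr (N d) T) :
    ¬ Fr (N d) S := by
  intro h4
  have h5 := H.fr_smul h4 x
  rw [H.fix_of_fr hd hx] at h5
  have h6 : x • c ≠ d := fun e => hc ((H.pt_smul (le_normalizer hx)).1 (e ▸ hd))
  exact H.disj (fun e : T = S => hc (e ▸ h2)) hx h1
    (mem_normalizer_iff_cj.2 (H.eq_of_two h6 (H.fr_smul h2 x) h5 h3 h4)) hd h4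

theorem LS.line_of_inv (hL : LS N) (H : Hyp N) (h : Fr (N a) T) {u : G} (hu : u ∈ T)
    (h2 : u * u = 1) (h1 : u ≠ 1) (hc : ¬ Fr (N c) T) :
    ∃ R : Subgroup G, Fr (N c) R ∧ Fr (N (u • c)) R ∧ u ∈ NN R ∧ T ≠ R := by
  have h3 : c ≠ u • c := fun e => hc (hL.pt_of_fix H h hu h1 e.symm)
  obtain ⟨R, h4, h5⟩ := hL _ _ h3
  refine ⟨R, h4, h5, H.norm_of_two h3 h4 h5 h5 ?_, fun e => hc (e ▸ h4)⟩
  rwa [smul_smul, h2, one_smul]

/-- two lines through `c` fixed by the same element of `T` -/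
theorem LS.eq_of_norm (hL : LS N) (H : Hyp N) (h : Fr (N a) T) (hc : ¬ Fr (N c) T)
    {R : Subgroup G} (h2 : Fr (N c) S) (h3 : Fr (N c) R) {t : G} (ht : t ∈ T) (h1 : t ≠ 1)
    (hS : t ∈ NN S) (hR : t ∈ NN R) : S = R := by
  exact H.eq_of_two (fun e => hc (hL.pt_of_fix H h ht h1 e.symm)) h2 ((H.pt_smul hS).2 h2) h3
    ((H.pt_smul hR).2 h3)

theorem LS.comm (hL : LS N) (H : Hyp N) (h : Fr (N a) T) (h' : Fr (N c) S) (hne : T ≠ S) {x y : G}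
    (hx : x ∈ T) (hx' : x ∈ NN S) (hy : y ∈ S) (hy' : y ∈ NN T) : Commute x y := by
  by_contra hn
  refine hne (hL.eq_of_mem H h h' (v := x * y * x⁻¹ * y⁻¹) ?_
    (mul_mem (conj_mem_of_mem_normalizer hx' hy) (inv_mem hy)) fun e => hn ?_)
  · rw [mul_assoc, mul_assoc, ← mul_assoc y]
    exact mul_mem hx (conj_mem_of_mem_normalizer hy' (inv_mem hx))
  · rw [mul_inv_eq_one, mul_inv_eq_iff_eq_mul] at e
    exact e

theorem LS.cent_bot (hL : LS N) (H : Hyp N) (h : Fr (N a) T) {w : G} (hw : w ∈ CC (N a))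
    (hf : ∀ e : Ω, Fr (N e) T → w • e = e) : w = 1 := by
  obtain ⟨v, hv, e⟩ := h.a2_exists_ne
  exact (hL.ca H a).eq_one H h hw fun c hc => hf c (hL.pt_of_fix H h hv.1 e (hc v hv.1))

end CfsgLib.FSet
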