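import Cfsg.Agent.Lib.FSet.A3a

/-! Package A3B of plans/FSET1.md: the parameters of the linear space. -/

set_option autoImplicit false
set_option linter.unusedSectionVars false

namespace CfsgLib.FSet

open Subgroup Cfsg CfsgLib.Tech CfsgLib.Gold

universe u v

variable {G : Type u} {Ω : Type v} [Group G] [Finite G] [Finite Ω] [MulAction G Ω]
  {N : Ω → Subgroup G}
  {a b c d : Ω} {T S : Subgroup G}

theorem a3b_one (hL : LS N) (H : Hyp N) (hcd : c ≠ d) :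
    {S : Subgroup G | S ∈ {S : Subgroup G | Fr (N c) S} ∧ Fr (N d) S}.ncard = 1 := by
  obtain ⟨S, h1, h2⟩ := hL c d hcd
  exact Set.ncard_eq_one.2 ⟨S, Set.eq_singleton_iff_unique_mem.2 ⟨⟨h1, h2⟩, fun R k => H.eq_of_two hcd k.1 k.2 h1 h2⟩⟩

theorem Hyp.ncard_eq (H : Hyp N) (h : Fr (N a) T) (h' : Fr (N b) S) :
    (Pt N T).ncard = (Pt N S).ncard := by
  have k : ∀ {a b : Ω} {T S : Subgroup G}, Fr (N a) T → Fr (N b) S → (Pt N T).ncard ≤ (Pt N S).ncard := fun h h' => by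
    obtain ⟨g, -, rfl⟩ := H.exists_cj h h'
    exact Set.ncard_le_ncard_of_injOn (g • ·) (fun c hc => H.fr_smul hc g) (MulAction.injective g).injOn
  exact le_antisymm (k h h') (k h' h)

theorem LS.two_le (hL : LS N) (H : Hyp N) (h : Fr (N a) T) : 2 ≤ (Pt N T).ncard := by
  obtain ⟨e, he, k⟩ := hL.exists_pt H h
  exact (Set.one_lt_ncard (Set.toFinite _)).2 ⟨e, k, a, h, he⟩

theorem LS.card_pts (hL : LS N) (H : Hyp N) (h : Fr (N a) T) :
    Nat.card Ω = (Nat.card T + 1) * ((Pt N T).ncard - 1) + 1 := by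
  have k := ncard_mul_eq (s := {a}ᶜ) (t := {S : Subgroup G | Fr (N a) S}) (Set.toFinite _) (Set.toFinite _)
    (fun e S => Fr (N e) S) (m := 1) (n := (Pt N T).ncard - 1) (fun e he => a3b_one hL H (Ne.symm he)) fun S hS => by
      rw [H.ncard_eq h hS, ← Set.ncard_sdiff_singleton_of_mem (show a ∈ Pt N S from hS)]
      exact congrArg _ (Set.ext fun e => and_comm)
  have := Set.ncard_add_ncard_compl {a}
  rw [h.ncard] at k
  rw [Set.ncard_singleton] at this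
  omega

/-- the lines through `c` missing `T` -/
theorem LS.ncard_par (hL : LS N) (H : Hyp N) (h : Fr (N a) T) (hc : ¬ Fr (N c) T) :
    {R : Subgroup G | Fr (N c) R ∧ ∀ e : Ω, Fr (N e) T → ¬ Fr (N e) R}.ncard + (Pt N T).ncard =
      Nat.card T + 1 := by
  obtain ⟨R, hR⟩ := H.exists_fr c
  have k := ncard_mul_eq (s := Pt N T) (t := {R : Subgroup G | Fr (N c) R ∧ ∃ e, Fr (N e) T ∧ Fr (N e) R})
    (Set.toFinite _) (Set.toFinite _) (fun e S => Fr (N e) S) (m := 1) (n := 1) (fun e he => by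
      rw [← a3b_one hL H (show c ≠ e from fun k => hc (k ▸ he))]
      exact congrArg _ (Set.ext fun S => ⟨fun k => ⟨k.1.1, k.2⟩, fun k => ⟨⟨k.1, e, he, k.2⟩, k.2⟩⟩))
    fun S ⟨h1, e, h2, h3⟩ => Set.ncard_eq_one.2 ⟨e, Set.eq_singleton_iff_unique_mem.2 ⟨⟨h2, h3⟩, fun d k =>
      by_contra fun n => hc (H.eq_of_two n k.1 h2 k.2 h3 ▸ h1)⟩⟩
  rw [mul_one, mul_one] at k
  rw [k, (H.card_eq h hR).1, ← hR.ncard, ← Set.ncard_union_eq]
  · refine congrArg _ (Set.ext fun S => ⟨fun k => k.elim (·.1) (·.1), fun k => ?_⟩)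
    exact or_iff_not_imp_right.2 fun n => ⟨k, fun e h2 h3 => n ⟨k, e, h2, h3⟩⟩
  · exact Set.disjoint_left.2 fun S h1 ⟨_, e, h2, h3⟩ => h1.2 e h2 h3

theorem LS.ncard_le (hL : LS N) (H : Hyp N) (h : Fr (N a) T) : (Pt N T).ncard ≤ Nat.card T := by
  obtain ⟨c, hc⟩ := H.exists_off h
  obtain ⟨u, hu, u1⟩ := (bot_or_exists_ne_one (ZZ T)).resolve_left fun e => by
    have := h.four_le
    rw [e, card_bot] at this
    omega
  obtain ⟨R, h1, h2, -⟩ := hL.line_of_inv H h (ZZ_le T hu) (h.mem_ZZ.1 hu).2 u1 hc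
  have := hL.ncard_par H h hc
  have := (Set.ncard_pos (s := {R : Subgroup G | Fr (N c) R ∧ ∀ e : Ω, Fr (N e) T → ¬ Fr (N e) R})).2
    ⟨R, h1, fun e => hL.miss H h (ZZ_le T hu) u1 hc h1 h2⟩
  omega

theorem LS.card_dvd (hL : LS N) (H : Hyp N) (h : Fr (N a) T) (h' : Fr (N c) S) (hne : T ≠ S) :
    Nat.card ↥(T ⊓ NN S) ∣ (Pt N T).ncard := by
  rw [H.ncard_eq h h']
  refine dvd_ncard_of_stab (T ⊓ NN S) (s := Pt N S) (Set.toFinite _) (fun g hg e he => (H.pt_smul hg.2).2 he) fun e he => ?_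
  rw [show T ⊓ NN S ⊓ MulAction.stabilizer G e = ⊥ from eq_bot_iff.2 fun t ht => by_contra fun n =>
    H.disj hne ht.1.1 n ht.1.2 (hL.pt_of_fix H h ht.1.1 n ht.2) he, card_bot, one_mul]

theorem LS.pair (hL : LS N) (H : Hyp N) (h : Fr (N a) T) (h' : Fr (N c) S) (hne : T ≠ S)
    (hnt : ∃ t ∈ T, t ∈ NN S ∧ t ≠ 1) (hlt : (Pt N T).ncard < Nat.card T) :
    Pair (N a) T (N c) S := by
  have two := hL.two_le H h
  have ce := H.card_eq h h'
  refine ⟨h, h', ce.1, ce.2.1, fun x hx hx' y hy hy' => hL.comm H h h' hne hx hx' hy hy',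
    fun y hy _ y1 x _ e => hL.norm_of_conj H h' hy y1 (by rwa [e.eq, mul_inv_cancel_right]),
    fun x hx _ x1 y _ e => hL.norm_of_conj H h hx x1 (by rwa [← e.eq, mul_inv_cancel_right]),
    fun e => ?_, fun e => ?_, hnt, ?_⟩
  · have := hL.card_dvd H h h' hne
    rw [inf_eq_left.2 e] at this
    exact absurd (Nat.le_of_dvd (by omega) this) (by omega)
  · have := hL.card_dvd H h' h hne.symm
    rw [inf_eq_left.2 e, ← H.ncard_eq h h'] at this
    exact absurd (Nat.le_of_dvd (by omega) this) (by omega)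
  · obtain ⟨t, ht, tS, t1⟩ := hnt
    obtain ⟨x, hx, x1, -, e⟩ := exists_fix_quot (W := ⊥) (P := zpowers t) h'.two (h.two.to_le (zpowers_le.2 ht))
      (bot_lt_iff_ne_bot.2 fun e => by
        have := (h'.four_le.trans (card_le_of_le (ZZ_le S)))
        rw [e, card_bot] at this
        omega) (zpowers_le.2 tS) fun g _ => mem_normalizer_of_forall (by simp)
    exact ⟨x, hx, hL.norm_of_conj H h ht t1 (by rwa [mul_inv_eq_one.1 (mem_bot.1 (e t (mem_zpowers t)))]), x1⟩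

end CfsgLib.FSet
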