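import Cfsg.Agent.Lib.FSet.Geo
import Cfsg.Agent.S4252
import Cfsg.Agent.S0035
import Cfsg.Agent.S0700

/-! Package RN of plans/FSET1.md: regular normal subgroups and the socle. -/

set_option autoImplicit false
set_option linter.unusedSectionVars false

namespace CfsgLib.FSet

open Subgroup Cfsg CfsgLib.Tech CfsgLib.Gold

universe u v

variable {G : Type u} {Ω : Type v} [Group G] [Finite G] [Finite Ω] [MulAction G Ω]
  {N : Ω → Subgroup G}

theorem Hyp.tr_of_normal (H : Hyp N) (D : Subgroup G) (hD : D.Normal) (h1 : D ≠ ⊥) (c d : Ω) :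
    ∃ x ∈ D, x • c = d := by
  obtain ⟨x, hx, x1⟩ := (bot_or_exists_ne_one D).resolve_left h1
  obtain ⟨e, he⟩ := not_forall.1 (mt (H.faith x) x1)
  by_cases hcd : c = d
  · exact ⟨1, one_mem _, by rw [one_smul, hcd]⟩
  obtain ⟨g, g1, g2⟩ := H.two e (x • e) c d (Ne.symm he) hcd
  exact ⟨_, hD.conj_mem x hx g, by rw [← g1, ← g2, mul_smul, mul_smul, inv_smul_smul]⟩

theorem Hyp.rns_of_normal (H : Hyp N) (D : Subgroup G) (hD : D.Normal) (h1 : D ≠ ⊥)
    (h2 : ∀ a b : Ω, a ≠ b → ∀ g ∈ D, g • a = a → g • b = b → g = 1) : RNS G Ω := by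
  by_cases hr : ∀ x : Ω, ∀ r ∈ D, r • x = x → r = 1
  · exact ⟨D, hD, H.tr_of_normal D hD h1, hr⟩
  push Not at hr
  obtain ⟨a, g, hg, ga, g1⟩ := hr
  obtain ⟨b, hb⟩ := H.exists_ne a
  have := Fintype.ofFinite Ω
  have tr : ∀ c d : Ω, ∃ x : D, x • c = d := fun c d => by
    obtain ⟨x, hx, e⟩ := H.tr_of_normal D hD h1 c d
    exact ⟨⟨x, hx⟩, e⟩
  obtain ⟨f1, f2⟩ := Cfsg.Agent.S4252.result (G := D) (Fintype.one_lt_card_iff.2 ⟨b, a, hb⟩) tr
    ⟨⟨g, hg⟩, by simpa using g1, a, ga⟩ (fun x x1 c d e1 e2 => by_contra fun n =>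
      x1 (Subtype.ext (h2 c d n x x.2 e1 e2))) a
  obtain ⟨K, k1, -, k2⟩ := Cfsg.Agent.S0035.result _ f1
  have m : ∀ x, x ∈ K.map D.subtype ↔ x ∈ D ∧ (x = 1 ∨ ∀ c : Ω, x • c ≠ c) := fun x => by
    have k : ∀ y : D, y ∈ K ↔ ((y : G) = 1 ∨ ∀ c : Ω, (y : G) • c ≠ c) := fun y => by
      rw [← SetLike.mem_coe, k1, f2]; exact or_congr_left Subtype.ext_iff
    exact ⟨by rintro ⟨y, hy, rfl⟩; exact ⟨y.2, (k y).1 hy⟩, fun e => ⟨⟨x, e.1⟩, (k _).2 e.2, rfl⟩⟩
  have hn : (K.map D.subtype).Normal := ⟨fun x hx y => (m _).2 ⟨hD.conj_mem x ((m x).1 hx).1 y,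
    ((m x).1 hx).2.imp (fun e => by simp [e]) fun e c k => e (y⁻¹ • c) (by
      rwa [mul_smul, mul_smul, ← eq_inv_smul_iff] at k)⟩⟩
  refine ⟨_, hn, H.tr_of_normal _ hn fun e => ?_, fun c r hr e => ((m r).1 hr).2.resolve_right fun k => k c e⟩
  obtain ⟨x, hx⟩ := tr a b
  have := k2.sup_eq_top
  rw [(map_eq_bot_iff_of_injective _ D.subtype_injective).1 e, bot_sup_eq] at this
  exact hb (hx.symm.trans (this.ge (mem_top x)))

theorem Hyp.exists_socle (H : Hyp N) (a : Ω) (hn : ¬ RNS G Ω) :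
    ∃ M : Subgroup G, M.Normal ∧ IsSimpleGroup M ∧ ¬ IsMulCommutative M ∧ CC M = ⊥ ∧
      ∀ c d : Ω, ∃ m ∈ M, m • c = d := by
  classical
  obtain ⟨b, hb⟩ := H.exists_ne a
  obtain ⟨g, hg⟩ := H.tr a b
  obtain ⟨M, -, ⟨hM, M1⟩, mn⟩ := exists_minimal_le_of_wellFoundedLT (fun M : Subgroup G => M.Normal ∧ M ≠ ⊥) ⊤
    ⟨inferInstance, fun e => hb (by rw [← hg, mem_bot.1 (e.le (mem_top g)), one_smul])⟩
  have tr := H.tr_of_normal M hM M1
  have hc : CC M = ⊥ := by_contra fun e => hn ⟨CC M, inferInstance, H.tr_of_normal _ inferInstance e,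
    fun x r hr k => H.faith r fun y => by
      obtain ⟨m, hm, rfl⟩ := tr x y
      rw [← mul_smul, ← hr m hm, mul_smul, k]⟩
  have nc : ¬ IsMulCommutative M := fun e => M1 (le_bot_iff.1 (hc ▸ le_centralizer M))
  refine ⟨M, hM, ?_, nc, hc, tr⟩
  have := Fintype.ofFinite Ω
  let e := MonoidHom.ofInjective (f := MulAction.toPermHom G Ω)
    ((injective_iff_map_eq_one _).2 fun x k => H.faith x fun c => congrFun (congrArg (⇑) k) c)
  have := hM.map e.toMonoidHom e.surjective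
  let e' := M.equivMapOfInjective e.toMonoidHom e.injective
  refine (Cfsg.Agent.S0700.result (MulAction.toPermHom G Ω).range (MulAction.is_two_pretransitive_iff.2
    fun {a b c d} h1 h2 => (H.two a b c d h1 h2).elim fun g k => ⟨e g, k⟩) (M.map e.toMonoidHom)
    (fun k => M1 ((map_eq_bot_iff_of_injective _ e.injective).1 k)) fun P hP le => ?_).elim (fun k => ?_) fun k => ?_
  · have l : P.comap e.toMonoidHom ≤ M := (comap_mono le).trans (comap_map_eq_self_of_injective e.injective M).le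
    refine or_iff_not_imp_left.2 fun n => le_antisymm le (map_le_iff_le_comap.2 (mn ⟨hP.comap _, fun k => n ?_⟩ l))
    rw [← map_comap_eq_self_of_surjective (f := e.toMonoidHom) e.surjective P, k, Subgroup.map_bot]
  · exact absurd ⟨⟨fun x y => e'.injective (by rw [map_mul, map_mul, k.1.is_comm.comm])⟩⟩ nc
  · have := k.1
    exact e'.isSimpleGroup

end CfsgLib.FSet
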