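import Cfsg.Agent.Lib.FSet.A3b
import Cfsg.Agent.Lib.FSet.Rn

/-! Package A4 of plans/FSET1.md: the affine plane. -/

set_option autoImplicit false
set_option linter.unusedSectionVars false

namespace CfsgLib.FSet

open Subgroup Cfsg CfsgLib.Tech CfsgLib.Gold

universe u v

variable {G : Type u} {Ω : Type v} [Group G] [Finite G] [Finite Ω] [MulAction G Ω]
  {N : Ω → Subgroup G}

namespace A4

/-- the lines `R`, `S` have no common point -/
def Dj (N : Ω → Subgroup G) (R S : Subgroup G) : Prop := ∀ e : Ω, Fr (N e) R → ¬ Fr (N e) S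

/-- parallel lines -/
def Par (N : Ω → Subgroup G) (R S : Subgroup G) : Prop := R = S ∨ Dj N R S

/-- the affine plane -/
structure AP (N : Ω → Subgroup G) : Prop where
  hL : LS N
  H : Hyp N
  he : ∀ c R, Fr (N c) R → (Pt N R).ncard = Nat.card R

variable {a b c d : Ω} {R S T : Subgroup G} {g : G}

theorem Dj.symm (h : Dj N R S) : Dj N S R := fun e h1 h2 => h e h2 h1

theorem Par.symm (h : Par N R S) : Par N S R := h.imp Eq.symm Dj.symm

theorem Par.eq (h : Par N R S) (h1 : Fr (N c) R) (h2 : Fr (N c) S) : R = S := h.resolve_right fun k => k c h1 h2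

namespace AP

variable (A : AP N)
include A

theorem one (h : Fr (N a) T) (hc : ¬ Fr (N c) T) : ∃ R, {R : Subgroup G | Fr (N c) R ∧ Dj N T R} = {R} := by
  have := A.hL.ncard_par A.H h hc
  rw [A.he a T h, add_comm, add_right_inj] at this
  exact Set.ncard_eq_one.1 this

theorem ex (h : Fr (N a) T) (c : Ω) : ∃ R, Fr (N c) R ∧ Par N T R := by
  by_cases hc : Fr (N c) T
  · exact ⟨T, hc, .inl rfl⟩
  obtain ⟨R, e⟩ := A.one h hc
  exact ⟨R, (e.ge rfl).1, .inr (e.ge rfl).2⟩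

theorem uq (h : Fr (N a) T) (h1 : Fr (N c) R) (h2 : Fr (N c) S) (p1 : Par N T R) (p2 : Par N T S) : R = S := by
  by_cases hc : Fr (N c) T
  · rw [← p1.eq hc h1, p2.eq hc h2]
  obtain ⟨P, e⟩ := A.one h hc
  exact (e.le ⟨h1, p1.resolve_left fun k => hc (k ▸ h1)⟩).trans (e.le ⟨h2, p2.resolve_left fun k => hc (k ▸ h2)⟩).symm

theorem trans (h : Fr (N a) T) (p1 : Par N R T) (p2 : Par N T S) : Par N R S :=
  or_iff_not_imp_left.2 fun n _ h1 h2 => n (A.uq h h1 h2 p1.symm p2)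

theorem cjp (p : Par N R S) (g : G) : Par N (cj g R) (cj g S) := p.imp (congrArg _) fun k e h1 h2 =>
  k (g⁻¹ • e) (by simpa only [cj_inv_cj] using A.H.fr_smul h1 g⁻¹) (by simpa only [cj_inv_cj] using A.H.fr_smul h2 g⁻¹)

theorem norm (h : Fr (N a) R) (h' : Fr (N c) S) (p : Dj N R S) : R ≤ NN S := fun x hx => by
  rcases eq_or_ne x 1 with rfl | x1
  · exact one_mem _
  have hc : ¬ Fr (N c) R := fun k => p c k h'
  obtain ⟨L, l1, l2⟩ := A.hL c (x • c) fun e => hc (A.hL.pt_of_fix A.H h hx x1 e.symm)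
  have q : Par N R L := .inr fun e => A.hL.miss A.H h hx x1 hc l1 l2
  have q' := A.cjp (.inr p) x
  rw [mem_normalizer_iff_cj.1 (le_normalizer hx)] at q'
  exact mem_normalizer_iff_cj.2 ((A.uq h (A.H.fr_smul h' x) l2 q' q).trans (A.uq h l1 h' q (.inr p)))

theorem comm (h : Fr (N a) R) (h' : Fr (N c) S) (p : Dj N R S) {x y : G} (hx : x ∈ R) (hy : y ∈ S) : Commute x y :=
  A.hL.comm A.H h h' (fun e => p a h (e ▸ h)) hx (A.norm h h' p hx) hy (A.norm h' h p.symm hy)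

/-- the dilatations -/
def D : Subgroup G where
  carrier := {g | ∀ c R, Fr (N c) R → Par N (cj g R) R}
  one_mem' _ R _ := .inl (cj_one R)
  mul_mem' {g k} hg hk c R h := by
    rw [Tech.cj_mul]
    exact A.trans (A.H.fr_smul h k) (hg _ _ (A.H.fr_smul h k)) (hk c R h)
  inv_mem' {g} hg c R h := by simpa only [cj_cj_inv] using (hg _ _ (A.H.fr_smul h g⁻¹)).symm

theorem normal : A.D.Normal := ⟨fun g hg x c R h => by
  simpa only [Tech.cj_mul, cj_cj_inv] using A.cjp (hg _ _ (A.H.fr_smul h x⁻¹)) x⟩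

theorem fixl (hg : g ∈ A.D) (e : g • a = a) (h : Fr (N a) R) (h' : Fr (N c) R) : Fr (N (g • c)) R :=
  (hg a R h).eq (e ▸ A.H.fr_smul h g :) h ▸ A.H.fr_smul h' g

theorem fixc (hab : a ≠ b) (hg : g ∈ A.D) (e1 : g • a = a) (e2 : g • b = b) (h1 : Fr (N a) R) (h2 : Fr (N b) R)
    (hc : ¬ Fr (N c) R) : g • c = c := by
  obtain ⟨L, l1, l2⟩ := A.hL a c fun e => hc (e ▸ h1)
  obtain ⟨M, m1, m2⟩ := A.hL b c fun e => hc (e ▸ h2)
  by_contra n
  obtain rfl := A.H.eq_of_two n (A.fixl hg e1 l1 l2) l2 (A.fixl hg e2 m1 m2) m2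
  exact hc (A.H.eq_of_two hab l1 m1 h1 h2 ▸ l2)

theorem eq_one (hab : a ≠ b) (hg : g ∈ A.D) (e1 : g • a = a) (e2 : g • b = b) : g = 1 := A.H.faith g fun c => by
  obtain ⟨R, h1, h2⟩ := A.hL a b hab
  by_cases hc : Fr (N c) R
  swap
  · exact A.fixc hab hg e1 e2 h1 h2 hc
  rcases eq_or_ne a c with rfl | ac
  · exact e1
  obtain ⟨d, hd⟩ := A.H.exists_off h1
  have ad : a ≠ d := fun e => hd (e ▸ h1)
  obtain ⟨L, l1, l2⟩ := A.hL a d ad
  exact A.fixc ad hg e1 (A.fixc hab hg e1 e2 h1 h2 hd) l1 l2 fun k => hd (A.H.eq_of_two ac l1 k h1 hc ▸ l2)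

theorem reg (h : Fr (N a) T) (h1 : Fr (N b) R) (h2 : Fr (N c) S) (n1 : ¬ Par N R T) (n2 : ¬ Par N S T) :
    ∃ t ∈ T, Par N (cj t R) S := by
  obtain ⟨R', r1, r2⟩ := A.ex h1 a
  obtain ⟨S', s1, s2⟩ := A.ex h2 a
  obtain ⟨t, ht, e⟩ := h.reg r1 s1 (fun e => n1 (e ▸ r2)) fun e => n2 (e ▸ s2)
  exact ⟨t, ht, A.trans s1 (e ▸ A.cjp r2 t) s2.symm⟩

theorem ne_bot (h : Fr (N a) T) : A.D ≠ ⊥ := by
  have four := h.four_le.trans (card_le_of_le (ZZ_le T))
  obtain ⟨b, hb⟩ := A.H.exists_off h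
  obtain ⟨T1, h1, p1⟩ := A.ex h b
  obtain ⟨c, hc⟩ : ∃ c, c ∉ Pt N T ∪ Pt N T1 := by
    by_contra! k
    have e1 := Set.ncard_union_le (Pt N T) (Pt N T1)
    rw [Set.eq_univ_of_forall k, Set.ncard_univ, A.hL.card_pts A.H h, ← A.H.ncard_eq h h1, A.he a T h] at e1
    obtain ⟨m, hm⟩ := Nat.exists_eq_add_of_le four
    rw [hm, show 4 + m - 1 = m + 3 by omega] at e1
    nlinarith
  obtain ⟨T2, h2, p2⟩ := A.ex h c
  have d1 : Dj N T T1 := p1.resolve_left fun e => hb (e ▸ h1)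
  have d2 : Dj N T T2 := p2.resolve_left fun e => hc (.inl (e ▸ h2))
  have d3 : Dj N T1 T2 := (A.trans h p1.symm p2).resolve_left fun e => hc (.inr (e ▸ h2))
  obtain ⟨R, hR, nR⟩ := h.exists_ne
  have n0 : ¬ Par N R T := fun k => nR (k.eq hR h)
  obtain ⟨t, ht, t1⟩ := (bot_or_exists_ne_one T).resolve_left fun e => by rw [e, card_bot] at four; omega
  have n1 : ¬ Par N (cj t R) T := fun k => n0 (by
    simpa only [cj_inv_cj, mem_normalizer_iff_cj.1 (le_normalizer (inv_mem ht))] using A.cjp k t⁻¹)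
  obtain ⟨s, hs, q⟩ := A.reg h1 (A.H.fr_smul hR t) hR (fun k => n1 (A.trans h1 k p1.symm))
    fun k => n0 (A.trans h1 k p1.symm)
  rw [← Tech.cj_mul] at q
  refine fun e => d1 a h (A.hL.eq_of_mem A.H h h1 ht ?_ t1 ▸ h)
  rw [eq_inv_of_mul_eq_one_right (mem_bot.1 (e.le (show s * t ∈ A.D from fun d S hS => ?_)))]
  · exact inv_mem hs
  by_cases k : Par N S T
  · have := A.cjp k (s * t)
    rw [mem_normalizer_iff_cj.1 (mul_mem (A.norm h1 h d1.symm hs) (le_normalizer ht))] at this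
    exact A.trans h this k.symm
  obtain ⟨y, hy, q'⟩ := A.reg h2 hR hS (fun k => n0 (A.trans h2 k p2.symm)) fun k' => k (A.trans h2 k' p2.symm)
  have q1 := A.cjp q'.symm (s * t)
  rw [← Tech.cj_mul, ((A.comm h1 h2 d3 hs hy).mul_left (A.comm h h2 d2 ht hy)).eq, Tech.cj_mul y] at q1
  exact A.trans (A.H.fr_smul hR y) (A.trans (A.H.fr_smul (A.H.fr_smul hR _) y) q1 (A.cjp q y)) q'

end AP

end A4

theorem LS.a4 (hL : LS N) (H : Hyp N) {a : Ω} {T : Subgroup G} (h : Fr (N a) T)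
    (he : (Pt N T).ncard = Nat.card T) : RNS G Ω := by
  have A : A4.AP N := ⟨hL, H, fun c R hR => by rw [← H.ncard_eq h hR, he, (H.card_eq h hR).1]⟩
  exact H.rns_of_normal A.D A.normal (A.ne_bot h) fun _ _ hab _ => A.eq_one hab

end CfsgLib.FSet
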