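import Cfsg.Agent.Lib.FSet.Defs

/-! Package TOOLS of plans/FSET1.md: counting lemmas. -/

set_option autoImplicit false
set_option linter.unusedSectionVars false

namespace CfsgLib.FSet

open Subgroup Cfsg CfsgLib.Tech CfsgLib.Gold

universe u v

/-- a finite set partitioned into blocks of size `m` -/
theorem dvd_ncard_of_blocks {X : Type v} (O : X → Set X) {m : ℕ} (n : ℕ) :
    ∀ s : Set X, s.Finite → s.ncard = n → (∀ x ∈ s, x ∈ O x ∧ O x ⊆ s ∧ (O x).ncard = m) →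
      (∀ x ∈ s, ∀ y ∈ s, ∀ z ∈ O y, z ∈ O x → y ∈ O x) → m ∣ s.ncard := by
  induction n using Nat.strong_induction_on with
  | _ n ih =>
    intro s hs hn h1 h2
    rcases s.eq_empty_or_nonempty with rfl | ⟨x, hx⟩
    · simp
    obtain ⟨h3, h4, h5⟩ := h1 x hx
    rw [← Set.ncard_sdiff_add_ncard_of_subset h4 hs, h5]
    refine dvd_add (ih _ ?_ _ (hs.subset Set.sdiff_subset) rfl (fun y hy => ?_)
      fun a ha b hb => h2 a ha.1 b hb.1) dvd_rfl
    · rw [← hn]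
      exact Set.ncard_lt_ncard (Set.sdiff_ssubset_left_iff.2 ⟨x, hx, h3⟩) hs
    · obtain ⟨h6, h7, h8⟩ := h1 y hy.1
      exact ⟨h6, fun z hz => ⟨h7 hz, fun hz' => hy.2 (h2 x hx y hy.1 z hz hz')⟩, h8⟩

/-- orbit and stabilizer -/
theorem ncard_orbit_mul {G : Type u} {X : Type v} [Group G] [Finite G] [MulAction G X]
    (B : Subgroup G) (x : X) :
    {y : X | ∃ b ∈ B, b • x = y}.ncard * Nat.card ↥(B ⊓ MulAction.stabilizer G x) = Nat.card B := by
  have e : {y : X | ∃ b ∈ B, b • x = y} = MulAction.orbit B x := by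
    ext y
    exact ⟨fun ⟨b, hb, e⟩ => ⟨⟨b, hb⟩, e⟩, fun ⟨b, e⟩ => ⟨b, b.2, e⟩⟩
  have e2 : MulAction.stabilizer B x = (B ⊓ MulAction.stabilizer G x).subgroupOf B := by
    ext b
    rw [mem_subgroupOf, mem_inf]
    exact ⟨fun h => ⟨b.2, h⟩, And.right⟩
  rw [e, ← MulAction.index_stabilizer,
    ← Nat.card_congr (subgroupOfEquivOfLe (H := B ⊓ MulAction.stabilizer G x) inf_le_left).toEquiv,
    ← e2]
  exact index_mul_card _

/-- all stabilizers have index `m` -/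
theorem dvd_ncard_of_stab {G : Type u} {X : Type v} [Group G] [Finite G] [MulAction G X]
    (B : Subgroup G) {s : Set X} (hs : s.Finite) (hinv : ∀ b ∈ B, ∀ x ∈ s, b • x ∈ s) {m : ℕ}
    (h : ∀ x ∈ s, Nat.card ↥(B ⊓ MulAction.stabilizer G x) * m = Nat.card B) : m ∣ s.ncard := by
  refine dvd_ncard_of_blocks (fun x => {y : X | ∃ b ∈ B, b • x = y}) _ s hs rfl
    (fun x hx => ⟨⟨1, one_mem _, one_smul _ _⟩, ?_, ?_⟩) ?_
  · rintro _ ⟨b, hb, rfl⟩
    exact hinv b hb x hx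
  · have h1 := ncard_orbit_mul B x
    rw [← h x hx, mul_comm] at h1
    exact Nat.eq_of_mul_eq_mul_left Nat.card_pos h1
  · rintro x - y - _ ⟨b, hb, rfl⟩ ⟨c, hc, e⟩
    exact ⟨b⁻¹ * c, mul_mem (inv_mem hb) hc, by rw [mul_smul, e, inv_smul_smul]⟩

/-- all cycles have length `m` -/
theorem dvd_ncard_of_period {X : Type v} {s : Set X} (hs : s.Finite) (f : X → X)
    (hf : ∀ x ∈ s, f x ∈ s) {m : ℕ} (h : ∀ x ∈ s, ∀ i : ℕ, f^[i] x = x ↔ m ∣ i) :
    m ∣ s.ncard := by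
  have hi : ∀ x ∈ s, ∀ i : ℕ, f^[i] x ∈ s := fun x hx i => Set.MapsTo.iterate hf i hx
  have key : ∀ x ∈ s, ∀ i j : ℕ, i < j → f^[i] x = f^[j] x → m ∣ j - i := fun x hx i j hij e =>
    (h _ (hi x hx i) _).1 (by rw [← Function.iterate_add_apply, Nat.sub_add_cancel hij.le, e])
  rcases s.eq_empty_or_nonempty with rfl | ⟨x₀, hx₀⟩
  · simp
  have hm : 0 < m := by
    refine Nat.pos_of_ne_zero fun e => ?_
    obtain ⟨i, j, hij, e'⟩ := hs.exists_lt_map_eq_of_forall_mem (hi x₀ hx₀)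
    have := key _ hx₀ i j hij e'
    rw [e, zero_dvd_iff] at this
    omega
  refine dvd_ncard_of_blocks (fun x => Set.range fun i : ℕ => f^[i] x) _ s hs rfl
    (fun x hx => ⟨⟨0, rfl⟩, ?_, ?_⟩) ?_
  · rintro _ ⟨i, rfl⟩
    exact hi x hx i
  · have e : (Set.range fun i : ℕ => f^[i] x) = (fun i : ℕ => f^[i] x) '' Set.Iio m := by
      refine Set.Subset.antisymm ?_ (Set.image_subset_range _ _)
      rintro _ ⟨i, rfl⟩
      refine ⟨i % m, Nat.mod_lt _ hm, ?_⟩
      conv_rhs => rw [← Nat.mod_add_div i m]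
      simp only [Function.iterate_add_apply, (h x hx _).2 (dvd_mul_right m _)]
    rw [e, Set.InjOn.ncard_image, Set.ncard_Iio_nat]
    intro i hi' j hj' e'
    rw [Set.mem_Iio] at hi' hj'
    rcases lt_trichotomy i j with hij | hij | hij
    · have := Nat.le_of_dvd (by omega) (key x hx i j hij e')
      omega
    · exact hij
    · have := Nat.le_of_dvd (by omega) (key x hx j i hij e'.symm)
      omega
  · rintro x - y hy _ ⟨i, rfl⟩ ⟨j, e⟩
    refine ⟨(m - 1) * i + j, ?_⟩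
    simp only at e ⊢
    rw [Function.iterate_add_apply, e, ← Function.iterate_add_apply]
    refine (h y hy _).2 ⟨i, ?_⟩
    obtain ⟨k, rfl⟩ := Nat.exists_eq_succ_of_ne_zero hm.ne'
    simp [Nat.succ_mul]

/-- double counting -/
theorem ncard_mul_eq {X : Type u} {Y : Type v} {s : Set X} {t : Set Y} (hs : s.Finite)
    (ht : t.Finite) (r : X → Y → Prop) {m n : ℕ} (hm : ∀ x ∈ s, {y | y ∈ t ∧ r x y}.ncard = m)
    (hn : ∀ y ∈ t, {x | x ∈ s ∧ r x y}.ncard = n) : s.ncard * m = t.ncard * n := by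
  classical
  rw [Set.ncard_eq_toFinset_card s hs, Set.ncard_eq_toFinset_card t ht]
  refine Finset.card_mul_eq_card_mul r (fun x hx => ?_) fun y hy => ?_
  · rw [← hm x (hs.mem_toFinset.1 hx), ← Set.ncard_coe_finset]
    congr 1
    ext y
    simp
  · rw [← hn y (ht.mem_toFinset.1 hy), ← Set.ncard_coe_finset]
    congr 1
    ext x
    simp

/-- pigeonhole -/
theorem exists_le_ncard {X : Type u} {Y : Type v} {s : Set X} {t : Set Y} (hs : s.Finite)
    (ht : t.Finite) (hne : t.Nonempty) (f : X → Y) (hf : ∀ x ∈ s, f x ∈ t) {m : ℕ}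
    (h : t.ncard * m ≤ s.ncard) : ∃ y ∈ t, m ≤ {x | x ∈ s ∧ f x = y}.ncard := by
  classical
  rw [Set.ncard_eq_toFinset_card s hs, Set.ncard_eq_toFinset_card t ht] at h
  obtain ⟨y, hy, e⟩ := Finset.exists_le_card_fiber_of_mul_le_card_of_maps_to
    (fun x hx => ht.mem_toFinset.2 (hf x (hs.mem_toFinset.1 hx))) (ht.toFinset_nonempty.2 hne) h
  refine ⟨y, ht.mem_toFinset.1 hy, e.trans_eq ?_⟩
  rw [← Set.ncard_coe_finset]
  congr 1
  ext x
  simp

/-- two subgroups with trivial intersection -/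
theorem card_mul_le {G : Type u} [Group G] [Finite G] {A B U : Subgroup G} (hA : A ≤ U) (hB : B ≤ U)
    (h : ∀ x ∈ A, x ∈ B → x = 1) : Nat.card A * Nat.card B ≤ Nat.card U := by
  rw [← Nat.card_prod]
  refine Nat.card_le_card_of_injective
    (fun p : A × B => (⟨p.1 * p.2, mul_mem (hA p.1.2) (hB p.2.2)⟩ : U)) fun p q e => ?_
  have e1 : (p.1 : G) * p.2 = q.1 * q.2 := congrArg Subtype.val e
  have e2 : (q.1 : G)⁻¹ * p.1 = q.2 * (p.2 : G)⁻¹ := by
    rw [inv_mul_eq_iff_eq_mul, ← mul_assoc, ← e1, mul_inv_cancel_right]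
  have e3 := h _ (mul_mem (inv_mem q.1.2) p.1.2) (e2 ▸ mul_mem q.2.2 (inv_mem p.2.2))
  refine Prod.ext (Subtype.ext (inv_mul_eq_one.1 e3).symm) (Subtype.ext ?_)
  rw [e3] at e2
  exact (mul_inv_eq_one.1 e2.symm).symm

theorem ncard_ne_one {G : Type u} [Group G] [Finite G] (A : Subgroup G) :
    {x | x ∈ A ∧ x ≠ 1}.ncard = Nat.card A - 1 := by
  rw [← SetLike.coe_sort_coe, Nat.card_coe_set_eq,
    ← Set.ncard_sdiff_singleton_of_mem (show (1 : G) ∈ (A : Set G) from one_mem _)]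
  rfl

end CfsgLib.FSet
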