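import Cfsg.Agent.Lib.FSet.FrB
import Cfsg.Agent.Lib.FSet.Tools

/-! Package PRA of plans/FSET1.md: a pair of Sylow subgroups, type α. -/

set_option autoImplicit false
set_option linter.unusedSectionVars false

namespace CfsgLib.FSet

open Subgroup Cfsg CfsgLib.Tech CfsgLib.Gold

universe u v

variable {G : Type u} [Group G] [Finite G] {N T M S : Subgroup G}

theorem Pair.pra_inj (h : Pair N T M S) {x a b : G} (hx : x ∈ T) (hn : x ∉ NN S) (ha : a ∈ S ⊓ NN T)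
    (hb : b ∈ S ⊓ NN T) (e : x * a * x⁻¹ * a⁻¹ = x * b * x⁻¹ * b⁻¹) : a = b := by
  by_contra c
  have m := mul_mem (inv_mem hb) ha
  refine hn (h.centT _ m.1 m.2 (fun e => c (inv_mul_eq_one.1 e).symm) x hx ?_)
  show x * (b⁻¹ * a) = b⁻¹ * a * x
  calc x * (b⁻¹ * a) = b⁻¹ * (x * b * x⁻¹ * b⁻¹)⁻¹ * x * a := by group
    _ = _ := by rw [← e]; group

theorem Pair.pra_norm (h : Pair N T M S) {W : Subgroup G} (hW : W ≤ T ⊓ NN S) : S ⊓ NN T ≤ NN W := fun a ha =>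
  mem_normalizer_of_forall fun x hx => by
    rwa [← (h.comm x (hW hx).1 (hW hx).2 a ha.1 ha.2).eq, mul_inv_cancel_right]

theorem Pair.pra_cj (h : Pair N T M S) {x a : G} (hx : x ∈ T ⊓ NN S) (ha : a ∈ S ⊓ NN T) : a * x * a⁻¹ = x := by
  rw [← (h.comm x hx.1 hx.2 a ha.1 ha.2).eq, mul_inv_cancel_right]

theorem pra_card (h : Fr N T) {a : G} {W K I : Subgroup G} (hW : ∀ x, x ∈ W ↔ x ∈ T ∧ a * x * a⁻¹ * x⁻¹ ∈ ZZ T)
    (hK : ∀ x ∈ T, Commute x a → x ∈ K) (hI : ∀ x ∈ T, x⁻¹ * (a * x * a⁻¹) ∈ ZZ T → x⁻¹ * (a * x * a⁻¹) ∈ I) :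
    Nat.card W ≤ Nat.card K * Nat.card I := by
  have d : ∀ x : W, (x : G)⁻¹ * (a * x * a⁻¹) ∈ ZZ T := fun x => by
    convert frb_cjZ' (le_normalizer ((hW x).1 x.2).1) ((hW x).1 x.2).2 using 1
    group
  obtain ⟨δ, hδ⟩ : ∃ δ : W →* G, ∀ x, δ x = (x : G)⁻¹ * (a * x * a⁻¹) :=
    ⟨MonoidHom.mk' (fun x => (x : G)⁻¹ * (a * x * a⁻¹)) fun x y => by
      conv_rhs => rw [← frb_cz (inv_mem ((hW y).1 y.2).1) (d x)]
      rw [coe_mul]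
      group, fun _ => rfl⟩
  rw [← card_mul_index δ.ker, index_ker]
  refine Nat.mul_le_mul (Nat.card_le_card_of_injective (fun x : δ.ker => (⟨x.1, hK _ ((hW _).1 x.1.2).1 ?_⟩ : K))
    fun x y e => Subtype.ext (Subtype.ext (congrArg (fun w : K => (w : G)) e))) (card_le_of_le ?_)
  · exact (mul_inv_eq_iff_eq_mul.1 (inv_mul_eq_one.1 ((hδ _).symm.trans x.2)).symm).symm
  · rintro _ ⟨x, rfl⟩
    exact hδ x ▸ hI _ ((hW _).1 x.2).1 (d x)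

theorem Pair.card_le (h : Pair N T M S) {x : G} (hx : x ∈ T) (hn : x ∉ NN S) {W : Subgroup G}
    (hW : ∀ a ∈ S, a ∈ NN T → x * a * x⁻¹ * a⁻¹ ∈ W) : Nat.card ↥(S ⊓ NN T) ≤ Nat.card W :=
  Nat.card_le_card_of_injective (fun a : ↥(S ⊓ NN T) => (⟨_, hW a a.2.1 a.2.2⟩ : W))
    fun a b e => Subtype.ext (h.pra_inj hx hn a.2 b.2 (congrArg Subtype.val e))

theorem Pair.exists_x (h : Pair N T M S) : ∃ x ∈ T, x ∉ NN S ∧
    ∀ a ∈ S, a ∈ NN T → x * a * x⁻¹ * a⁻¹ ∈ T ⊓ NN S := by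
  obtain ⟨x, hx, hn, -, e⟩ := exists_fix_quot h.fT.two (h.fS.two.to_inf_left (K := NN T))
    (lt_of_le_of_ne (inf_le_left (b := NN S)) fun e => h.neT (inf_eq_left.1 e)) inf_le_right (h.pra_norm le_rfl)
  exact ⟨x, hx, fun c => hn ⟨hx, c⟩, fun a ha ha' => e a ⟨ha, ha'⟩⟩

theorem Pair.card_eq (h : Pair N T M S) : Nat.card ↥(T ⊓ NN S) = Nat.card ↥(S ⊓ NN T) := by
  obtain ⟨x, hx, hn, e⟩ := h.exists_x
  obtain ⟨y, hy, hm, e'⟩ := h.symm.exists_x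
  exact le_antisymm (h.symm.card_le hy hm e') (h.card_le hx hn e)

/-- for `x` as in `exists_x`, the map `a ↦ [x, a]` is onto -/
theorem Pair.surj (h : Pair N T M S) {x : G} (hx : x ∈ T) (hn : x ∉ NN S)
    (hW : ∀ a ∈ S, a ∈ NN T → x * a * x⁻¹ * a⁻¹ ∈ T ⊓ NN S) {y : G} (hy : y ∈ T ⊓ NN S) :
    ∃ a ∈ S, a ∈ NN T ∧ x * a * x⁻¹ * a⁻¹ = y := by
  obtain ⟨a, e⟩ := (Function.Injective.bijective_of_nat_card_le
    (f := fun a : ↥(S ⊓ NN T) => (⟨_, hW a a.2.1 a.2.2⟩ : ↥(T ⊓ NN S)))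
    (fun a b e => Subtype.ext (h.pra_inj hx hn a.2 b.2 (congrArg Subtype.val e))) h.card_eq.le).2 ⟨y, hy⟩
  exact ⟨a, a.2.1, a.2.2, congrArg Subtype.val e⟩

theorem Pair.alpha (h : Pair N T M S) (hα : ¬ ZZ T ≤ NN S) :
    T ⊓ NN S ≤ ZZ T ∧ S ⊓ NN T ≤ ZZ S ∧ Nat.card (ZZ T) ≤ Nat.card ↥(T ⊓ NN S) ^ 2 := by
  have l : ZZ T ⊓ NN S ≤ T ⊓ NN S := inf_le_inf_right _ (ZZ_le T)
  obtain ⟨x, hx, hn, -, e⟩ := exists_fix_quot h.fT.twoZ (h.fS.two.to_inf_left (K := NN T))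
    (lt_of_le_of_ne (inf_le_left (b := NN S)) fun e => hα (inf_eq_left.1 e)) (inf_le_right.trans (NN_le_ZZ T))
    (h.pra_norm l)
  have hn' : x ∉ NN S := fun c => hn ⟨hx, c⟩
  have e0 := eq_of_le_of_card_ge l (h.card_eq.trans_le (h.card_le (ZZ_le T hx) hn' fun a ha ha' => e a ⟨ha, ha'⟩))
  have e1 : ∀ a ∈ S ⊓ NN T, a * a = 1 := fun a ha => by
    by_contra c
    have m := mul_mem ha ha
    refine hn' (h.centT _ m.1 m.2 c x (ZZ_le T hx) (mul_inv_eq_iff_eq_mul.1 (mul_inv_eq_one.1 ?_)))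
    calc x * (a * a) * x⁻¹ * (a * a)⁻¹ = x * a * x⁻¹ * a⁻¹ * (a * (x * a * x⁻¹ * a⁻¹) * a⁻¹) := by group
      _ = 1 := by rw [h.pra_cj (l (e a ha)) ha, h.fT.sqZ (e a ha).1]
  refine ⟨e0.ge.trans inf_le_left, fun a ha => h.fS.mem_ZZ.2 ⟨ha.1, e1 a ha⟩, ?_⟩
  obtain ⟨a, ha, ha', a1⟩ := h.ntS
  refine (Holt.card_le_sq (fun _ => h.fT.sqZ) (NN_le_ZZ T ha') fun v _ => by
    rw [e1 a ⟨ha, ha'⟩]; exact Commute.one_left v).trans (Nat.pow_le_pow_left (card_le_of_le fun v hv => ?_) 2)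
  exact ⟨ZZ_le T hv.1, h.centT a ha ha' a1 v (ZZ_le T hv.1) (mem_centralizer_singleton_iff.1 hv.2)⟩

theorem Pair.alphaT (h : Pair N T M S) (h0 : T ⊓ NN S ≤ ZZ T) (h1 : S ⊓ NN T ≤ ZZ S)
    (hq : Nat.card ↥(T ⊓ NN S) ^ 2 ≤ Nat.card (ZZ T)) : ZZ T = T := by
  by_contra hne
  obtain ⟨a, ha, ha', a1⟩ := h.ntS
  have aa := h.fS.sqZ (h1 ⟨ha, ha'⟩)
  obtain ⟨W, hW⟩ := h.fT.exists_fixSub ha'
  have k : ∀ x ∈ T, Commute x a → x ∈ T ⊓ NN S := fun x hx c => ⟨hx, h.centT a ha ha' a1 x hx c⟩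
  have c := pra_card h.fT hW k fun x hx d => k _ (ZZ_le T d) (mul_inv_eq_iff_eq_mul.1 (by
    conv_rhs => rw [← inv_eq_of_mul_eq_one_right (h.fT.sqZ d)]
    calc _ = a * x⁻¹ * a⁻¹ * (a * a) * x * (a * a)⁻¹ := by group
      _ = _ := by rw [aa]; group)).symm
  obtain ⟨y, hy, hy', -, e⟩ := exists_fix_quot h.fT.two (El2.of_sq aa).pgroup (lt_of_le_of_ne (ZZ_le T) hne)
    (zpowers_le.2 ha') (zpowers_le.2 (NN_le_ZZ T ha'))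
  exact hy' ((eq_of_le_of_card_ge (frb_le ha' hW).1 (c.trans (by rwa [← sq]))).ge
    ((hW y).2 ⟨hy, by simpa [mul_assoc] using inv_mem (e a (mem_zpowers a))⟩))

theorem Pair.beta_symm (h : Pair N T M S) (hβ : ZZ T ≤ NN S) : ZZ S ≤ NN T := by
  by_contra c
  obtain ⟨h1, h0, -⟩ := h.symm.alpha c
  refine c ((eq_of_le_of_card_ge h1 ?_).ge.trans inf_le_right)
  rw [← h.cardZ, ← h.card_eq]
  exact card_le_of_le (le_inf (ZZ_le T) hβ)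

end CfsgLib.FSet
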