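import Cfsg.Agent.Lib.FSet.A3b
import Cfsg.Agent.Lib.FSet.PrA
import Cfsg.Agent.Lib.Gold.Tools

/-! Package A5A of plans/FSET1.md: type α. -/

set_option autoImplicit false
set_option linter.unusedSectionVars false

namespace CfsgLib.FSet

open Subgroup Cfsg CfsgLib.Tech CfsgLib.Gold

universe u v

variable {G : Type u} {Ω : Type v} [Group G] [Finite G] [Finite Ω] [MulAction G Ω]
  {N : Ω → Subgroup G}
  {a c : Ω} {T S : Subgroup G}

theorem LS.alpha_sq (hL : LS N) (H : Hyp N) (h : Fr (N a) T) (h' : Fr (N c) S) (hne : T ≠ S)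
    (hnt : ∃ t ∈ T, t ∈ NN S ∧ t ≠ 1) (hlt : (Pt N T).ncard < Nat.card T) (hα : ¬ ZZ T ≤ NN S) :
    ZZ T = T ∧ Nat.card ↥(T ⊓ NN S) ^ 2 = Nat.card T := by
  have hp := hL.pair H h h' hne hnt hlt
  obtain ⟨h0, h1, hq⟩ := hp.alpha hα
  obtain ⟨t, ht, htS, ht1⟩ := hnt
  obtain ⟨u, hu, huS⟩ := SetLike.not_le_iff_exists.1 hα
  have hc : ¬ Fr (N c) T := fun k => H.disj hne ht ht1 htS k h'
  have hu1 : u ≠ 1 := fun e => huS (e ▸ one_mem _)
  obtain ⟨R, hR, -, huR, hTR⟩ := hL.line_of_inv H h (ZZ_le T hu) (h.mem_ZZ.1 hu).2 hu1 hc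
  have hd : ∀ x ∈ T ⊓ NN S, x ∈ T ⊓ NN R → x = 1 := fun x hx hx' => by
    by_contra hx1
    exact huS (hL.eq_of_norm H h hc h' hR hx.1 hx1 hx.2 hx'.2 ▸ huR)
  obtain ⟨k0, -, kq⟩ := (hL.pair H h hR hTR ⟨u, ZZ_le T hu, huR, hu1⟩ hlt).alpha fun hβ =>
    ht1 (hd t ⟨ht, htS⟩ ⟨ht, hβ (h0 ⟨ht, htS⟩)⟩)
  have k := card_mul_le h0 k0 hd
  have p1 : 0 < Nat.card ↥(T ⊓ NN S) := Nat.card_pos
  have p2 : 0 < Nat.card ↥(T ⊓ NN R) := Nat.card_pos
  have k1 : Nat.card ↥(T ⊓ NN S) ≤ Nat.card ↥(T ⊓ NN R) :=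
    Nat.le_of_mul_le_mul_right (k.trans (kq.trans_eq (sq _))) p2
  have k2 : Nat.card ↥(T ⊓ NN S) ^ 2 ≤ Nat.card (ZZ T) :=
    (sq _).trans_le ((Nat.mul_le_mul_left _ k1).trans k)
  have hT := hp.alphaT h0 h1 k2
  exact ⟨hT, by rw [le_antisymm k2 hq, hT]⟩

/-- the pointwise stabilizer of the line contains `k ^ j` with `j ∣ λ - 1` -/
theorem LS.exists_pow (hL : LS N) (H : Hyp N) (h : Fr (N a) T) {k : G} (hk : Sg (N a) T k) :
    ∃ j : ℕ, j ∣ (Pt N T).ncard - 1 ∧ ∀ e : Ω, Fr (N e) T → k ^ j • e = e := by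
  obtain ⟨b, hb, hbT⟩ := hL.exists_pt H h
  have hB : ∀ g ∈ N a ⊓ NN T, ∃ i : ℕ, ∀ e : Ω, Fr (N e) T → g • e = k ^ i • e := fun g hg => by
    obtain ⟨t, ht, i, rfl⟩ := hk.gen g hg.1 hg.2
    exact ⟨i, fun e he => by
      rw [mul_smul, H.fix_of_fr ((H.pt_smul (pow_mem hk.norm i)).2 he) ht]⟩
  have hcard : ∀ e : Ω, Fr (N e) T → e ≠ a → Nat.card ↥(N a ⊓ NN T ⊓ MulAction.stabilizer G e) =
      Nat.card ↥(N a ⊓ NN T ⊓ MulAction.stabilizer G b) := fun e he hea => by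
    obtain ⟨y, hy, ya, rfl⟩ := H.two_tr hb.symm hea.symm h hbT h he
    have : cj y (MulAction.stabilizer G b) = MulAction.stabilizer G (y • b) := by
      ext g
      simp only [mem_cj, MulAction.mem_stabilizer_iff, mul_smul, inv_smul_eq_iff]
    rw [← card_cj y (_ ⊓ MulAction.stabilizer G b), cj_inf, cj_inf, cj_normalizer,
      mem_normalizer_iff_cj.1 hy, mem_normalizer_iff_cj.1 (H.norm ya), this]
  have hm := card_mul_relIndex' (inf_le_left :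
    N a ⊓ NN T ⊓ MulAction.stabilizer G b ≤ N a ⊓ NN T)
  refine ⟨(N a ⊓ NN T ⊓ MulAction.stabilizer G b).relIndex (N a ⊓ NN T), ?_, fun e he => ?_⟩
  · rw [← Set.ncard_sdiff_singleton_of_mem (mem_Pt.2 h)]
    refine dvd_ncard_of_stab (N a ⊓ NN T) (s := Pt N T \ {a}) (Set.toFinite _) (fun g hg x hx =>
      ⟨(H.pt_smul hg.2).2 hx.1, fun e => hx.2 ?_⟩) fun x hx => by rw [hcard x hx.1 hx.2, hm]
    exact MulAction.injective g ((Set.mem_singleton_iff.1 e).trans (H.fix a g hg.1).symm)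
  by_cases hea : e = a
  · rw [hea]
    exact H.fix a _ (pow_mem hk.mem _)
  have hm' := card_mul_relIndex' (inf_le_left :
    N a ⊓ NN T ⊓ MulAction.stabilizer G e ≤ N a ⊓ NN T)
  rw [hcard e he hea, ← hm] at hm'
  rw [← Nat.eq_of_mul_eq_mul_left Nat.card_pos hm']
  have : ((N a ⊓ NN T ⊓ MulAction.stabilizer G e).subgroupOf (N a ⊓ NN T)).Normal := by
    refine ⟨fun g hg y => ⟨(y * g * y⁻¹).2, ?_⟩⟩
    obtain ⟨i, hi⟩ := hB g g.2
    obtain ⟨l, hl⟩ := hB _ (y⁻¹).2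
    have k1 : (g : G) • e = e := hg.2
    change ((y : G) * g * (y⁻¹ : ↥(N a ⊓ NN T))) • e = e
    rw [mul_smul, mul_smul, hl e he, hi _ ((H.pt_smul (pow_mem hk.norm l)).2 he), ← mul_smul (k ^ i),
      pow_mul_comm, mul_smul, ← hi e he, k1, ← hl e he]
    exact smul_inv_smul _ _
  exact (pow_index_mem ((N a ⊓ NN T ⊓ MulAction.stabilizer G e).subgroupOf (N a ⊓ NN T))
    ⟨k, hk.mem, hk.norm⟩).2

/-- an element of `N_{N a}(T)` fixing all points of the line normalizes `A₀` -/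
theorem LS.norm_A0 (hL : LS N) (H : Hyp N) (h : Fr (N a) T) (hp : Pair (N a) T (N c) S)
    (hT : ZZ T = T) (h3 : 2 < Nat.card ↥(T ⊓ NN S)) {k : G} (hk : Sg (N a) T k) {j : ℕ}
    (hj : ∀ e : Ω, Fr (N e) T → k ^ j • e = e) : k ^ j ∈ NN (T ⊓ NN S) := by
  obtain ⟨-, h1, -⟩ := hp.alpha (hT.symm ▸ hp.neT)
  let φ := T.normalizerMonoidHom
  let J : Subgroup (NN T) := (fixingSubgroup G (Pt N T)).subgroupOf (NN T)
  have hJ : ∀ g : NN T, g ∈ J ↔ ∀ e : Ω, Fr (N e) T → (g : G) • e = e := fun g =>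
    mem_fixingSubgroup_iff G
  have hJn : ∀ y : NN T, ∀ g ∈ J, y * g * y⁻¹ ∈ J := fun y g hg => (hJ _).2 fun e he => by
    change ((y : G) * g * (y : G)⁻¹) • e = e
    rw [mul_smul, mul_smul, (hJ g).1 hg _ ((H.pt_smul (inv_mem y.2)).2 he), smul_inv_smul]
  have hφ : ∀ (g : NN T) (x : T), (φ g x : G) = g * x * (g : G)⁻¹ := fun _ _ => rfl
  let κ : NN T := ⟨k, hk.norm⟩
  have hκ : φ (κ ^ j) ∈ PComp.opOf 2 (J.map φ) := by
    refine PComp.le_opOf (N := zpowers (φ (κ ^ j))) ?_ ?_ ?_ (mem_zpowers _)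
    · exact zpowers_le.2 ⟨_, (hJ _).2 hj, rfl⟩
    · rintro _ ⟨g, hg, rfl⟩
      obtain ⟨i, hi⟩ := Sg.ns h hk (H.norm ((hJ g).1 hg a h)) g.2
      have k1 : φ g * φ κ * (φ g)⁻¹ = φ κ ^ i := by
        rw [← map_inv, ← map_mul, ← map_mul, ← map_pow]
        exact MulEquiv.ext fun v => Subtype.ext (hi v (hT.symm ▸ v.2))
      refine mem_normalizer_of_cj_le ?_
      rw [cj_zpowers, map_pow, ← conj_pow, k1, ← pow_mul, mul_comm, pow_mul]
      exact zpowers_le.2 (npow_mem_zpowers _ _)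
    · rw [Nat.card_zpowers, Nat.coprime_two_right]
      refine Odd.of_dvd_nat hk.sing.odd ((orderOf_map_dvd _ _).trans ((orderOf_pow_dvd _).trans ?_))
      rw [← orderOf_coe]
  let X : Subgroup (MulAut T) :=
    { carrier := {σ | ∀ x : T, (σ x : G) ∈ NN S ↔ (x : G) ∈ NN S}
      one_mem' := fun _ => Iff.rfl
      mul_mem' := fun {σ τ} hσ hτ x => (hσ (τ x)).trans (hτ x)
      inv_mem' := fun {σ} hσ x => by rw [← hσ (σ⁻¹ x), MulAut.apply_inv_self] }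
  have hinj : ∀ g : NN T, (g : G) ∈ S → φ g = 1 → g = 1 := fun g hg e => by
    by_contra h1
    exact hp.neT fun x hx => hp.centT g hg g.2 (fun e => h1 (Subtype.ext e)) x hx
      (Holt.nh_eq_one.1 e x hx).symm
  have hX : PComp.opOf 2 (J.map φ) ≤ X := by
    refine le_of_cent1 (E := (S.subgroupOf (NN T)).map φ) ?_ ?_ ?_ ?_ ?_
    · rintro _ ⟨g, hg, rfl⟩
      rw [← map_mul, show g * g = 1 from Subtype.ext (hp.fS.mem_ZZ.1 (h1 ⟨hg, g.2⟩)).2, map_one]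
    · have k1 : Nat.card ↥(S ⊓ NN T) ≤ Nat.card ((S.subgroupOf (NN T)).map φ) := by
        refine Nat.card_le_card_of_injective (fun g => ⟨φ ⟨g, g.2.2⟩, ⟨g, g.2.2⟩, g.2.1, rfl⟩)
          fun g g' e => ?_
        have e1 : φ ⟨g, g.2.2⟩ = φ ⟨g', g'.2.2⟩ := congrArg Subtype.val e
        have := hinj (⟨g, g.2.2⟩ * (⟨g', g'.2.2⟩ : NN T)⁻¹) (S.mul_mem g.2.1 (S.inv_mem g'.2.1))
          (by rw [map_mul, map_inv, e1, mul_inv_cancel])
        exact Subtype.ext (mul_inv_eq_one.1 (congrArg Subtype.val this))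
      obtain ⟨n, hn⟩ := IsPGroup.iff_card.1 (h.two.to_le (inf_le_left : T ⊓ NN S ≤ T))
      rw [← hp.card_eq, hn] at k1
      rw [hn] at h3
      have : 2 ^ 2 ≤ 2 ^ n := Nat.pow_le_pow_right two_pos (by
        by_contra hc
        have : 2 ^ n ≤ 2 ^ 1 := Nat.pow_le_pow_right two_pos (by omega)
        omega)
      omega
    · exact Nat.coprime_two_right.1 (PComp.coprime_card_opOf _)
    · rintro _ ⟨y, -, rfl⟩
      refine PComp.normalizer_le_normalizer_opOf _ (mem_normalizer_of_forall ?_)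
      rintro _ ⟨g, hg, rfl⟩
      exact ⟨_, hJn y g hg, by rw [map_mul, map_mul, map_inv]⟩
    · rintro _ ⟨g, hg, rfl⟩ h1 σ ⟨-, hσ⟩ x
      have g1 : (g : G) ≠ 1 := fun e => h1 (by rw [show g = 1 from Subtype.ext e, map_one])
      have k1 : ∀ x : T, (x : G) ∈ NN S ↔ φ g x = x := fun x => by
        rw [Subtype.ext_iff, hφ, mul_inv_eq_iff_eq_mul]
        exact ⟨fun hx => (hp.comm x x.2 hx g hg g.2).eq.symm,
          fun e => hp.centT g hg g.2 g1 x x.2 e.symm⟩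
      rw [k1, k1, ← MulAut.mul_apply, ← mem_centralizer_singleton_iff.1 hσ, MulAut.mul_apply,
        σ.injective.eq_iff]
  exact mem_normalizer_of_forall fun x hx =>
    ⟨conj_mem_of_mem_normalizer (pow_mem hk.norm j) hx.1, (hX hκ ⟨x, hx.1⟩).2 hx.2⟩

theorem LS.alpha_big (hL : LS N) (H : Hyp N) (h : Fr (N a) T) (h' : Fr (N c) S) (hne : T ≠ S)
    (hlt : (Pt N T).ncard < Nat.card T) (hT : ZZ T = T)
    (hq : Nat.card ↥(T ⊓ NN S) ^ 2 = Nat.card T) : Nat.card ↥(T ⊓ NN S) ≤ 2 := by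
  by_contra h3
  push Not at h3
  obtain ⟨t, ht, ht1⟩ := (T ⊓ NN S).bot_or_exists_ne_one.resolve_left fun e => by
    rw [e, card_bot] at h3
    omega
  obtain ⟨k, hk⟩ := h.exists_sg
  obtain ⟨j, hj, hjf⟩ := hL.exists_pow H h hk
  have hn := hL.norm_A0 H h (hL.pair H h h' hne ⟨t, ht.1, ht.2, ht1⟩ hlt) hT h3 hk hjf
  have hm : ∀ i : ℕ, addOrderOf (j : ZMod (Nat.card T - 1)) ∣ i ↔ Nat.card T - 1 ∣ j * i := fun i => by
    rw [addOrderOf_dvd_iff_nsmul_eq_zero, nsmul_eq_mul, ← Nat.cast_mul, ZMod.natCast_eq_zero_iff,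
      mul_comm]
  have k1 := dvd_ncard_of_period (s := {x | x ∈ T ⊓ NN S ∧ x ≠ 1}) (Set.toFinite _)
    (fun x => k ^ j * x * (k ^ j)⁻¹)
    (fun x hx => ⟨conj_mem_of_mem_normalizer hn hx.1, by simpa using hx.2⟩)
    (m := addOrderOf (j : ZMod (Nat.card T - 1))) fun x hx i => by
      have : (fun x => k ^ j * x * (k ^ j)⁻¹)^[i] x = k ^ (j * i) * x * (k ^ (j * i))⁻¹ := by
        induction i with
        | zero => simp
        | succ i ih => rw [Function.iterate_succ_apply', ih, mul_add, mul_one, add_comm, pow_add]; group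
      rw [this, mul_inv_eq_iff_eq_mul, Sg.pow_cent_iff h hk (hT.symm ▸ hx.1.1) hx.2, hT, hm]
  rw [ncard_ne_one] at k1
  have k2 := ((hm _).1 k1).trans (Nat.mul_dvd_mul_right hj _)
  obtain ⟨μ, hμ⟩ := hL.card_dvd H h h' hne
  have k3 := hL.two_le H h
  rw [← hq] at k2 hlt
  rw [hμ] at k2 k3 hlt
  generalize Nat.card ↥(T ⊓ NN S) = r at k2 k3 hlt h3
  obtain ⟨r, rfl⟩ : ∃ s, r = s + 1 := ⟨r - 1, by omega⟩
  have k4 : μ < r + 1 := Nat.lt_of_mul_lt_mul_left (hlt.trans_eq (sq _))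
  rw [show (r + 1) ^ 2 - 1 = (r + 2) * r by rw [Nat.sub_eq_iff_eq_add (by nlinarith)]; ring,
    Nat.add_sub_cancel] at k2
  have k5 := Nat.dvd_of_mul_dvd_mul_right (by omega) k2
  have k6 : r + 2 ∣ μ + 1 := (Nat.dvd_add_right k5).1 ⟨μ, by
    have : (r + 2) * μ = (r + 1) * μ + μ := by ring
    omega⟩
  have := Nat.le_of_dvd μ.succ_pos k6
  omega

end CfsgLib.FSet
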