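import Cfsg.Agent.Lib.FSet.A5b2

/-! Package A5B3 of plans/FSET1.md: type β. -/

set_option autoImplicit false
set_option linter.unusedSectionVars false

namespace CfsgLib.FSet

open Subgroup Cfsg CfsgLib.Tech CfsgLib.Gold

open scoped Pointwise

universe u v

variable {G : Type u} {Ω : Type v} [Group G] [Finite G] [Finite Ω] [MulAction G Ω]
  {N : Ω → Subgroup G}
  {a : Ω} {T : Subgroup G}

theorem LS.beta3 (hL : LS N) (H : Hyp N) (h : Fr (N a) T) (hlt : (Pt N T).ncard < Nat.card T)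
    (hall : ∀ (c : Ω) (S : Subgroup G), Fr (N c) S → T ≠ S → (∃ t ∈ T, t ∈ NN S ∧ t ≠ 1) →
      ZZ T ≤ NN S) : False := by
  obtain ⟨hΛ, hc⟩ := hL.beta_count H h hlt hall
  have h4 := h.four_le
  have hS : ∀ S ∈ Lns N T, ∀ r ∈ ZZ S, r ∈ NN T ∧ r ∈ CC (ZZ T) ∧ r * r = 1 ∧ (r • a = a → r = 1) :=
    fun S hS r hr => by
      obtain ⟨c, hp, h0, h1, -, -, hd⟩ := hL.a5b1_pair H h hlt hS
      refine ⟨(h1.ge hr).2, mem_CC.2 fun v hv => (hp.comm v (ZZ_le T hv) (h0.ge hv).2 r (ZZ_le S hr)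
        (h1.ge hr).2).eq, (hp.fS.mem_ZZ.1 hr).2, fun e => ?_⟩
      by_contra r1
      exact hd a h (hL.pt_of_fix H hp.fS (ZZ_le S hr) r1 e)
  have k1 := ncard_mul_eq (s := Lns N T) (t := {r | r ≠ 1 ∧ ∃ S ∈ Lns N T, r ∈ ZZ S})
    (Set.toFinite _) (Set.toFinite _) (fun S r => r ∈ ZZ S) (m := Nat.card (ZZ T) - 1) (n := 1)
    (fun S hS => by
      obtain ⟨c, hp, -⟩ := hL.a5b1_pair H h hlt hS
      rw [hp.cardZ, ← ncard_ne_one]
      congr 1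
      ext r
      exact ⟨fun k => ⟨k.2, k.1.1⟩, fun k => ⟨⟨k.2, S, hS, k.1⟩, k.1⟩⟩) (by
      rintro r ⟨r1, S, hS, hr⟩
      refine Set.ncard_eq_one.2 ⟨S, Set.eq_singleton_iff_unique_mem.2 ⟨⟨hS, hr⟩, fun R hR => ?_⟩⟩
      obtain ⟨c, hc⟩ := hS.1
      obtain ⟨d, hd⟩ := hR.1.1
      exact hL.eq_of_mem H hd hc (ZZ_le R hR.2) (ZZ_le S hr) r1)
  have k2 : (Pt N T \ {a}).ncard = Nat.card (ZZ T) - 1 := by
    rw [Set.ncard_sdiff_singleton_of_mem (mem_Pt.2 h), hΛ]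
  obtain ⟨b, hb, k3⟩ := exists_le_ncard (s := {r | r ≠ 1 ∧ ∃ S ∈ Lns N T, r ∈ ZZ S})
    (t := Pt N T \ {a}) (Set.toFinite _) (Set.toFinite _)
    (Set.nonempty_of_ncard_ne_zero (by omega)) (fun r : G => r • a) (by
      rintro r ⟨r1, S, h1, hr⟩
      exact ⟨(H.pt_smul (hS S h1 r hr).1).2 h, fun e => r1 ((hS S h1 r hr).2.2.2 e)⟩)
    (m := Nat.card (ZZ T) * (Nat.card (ZZ T) - 1)) (by rw [k2, mul_comm, ← hc, k1, mul_one])
  obtain ⟨S, h1⟩ : (Lns N T).Nonempty := Set.nonempty_of_ncard_ne_zero (by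
    rw [hc]
    exact Nat.mul_ne_zero (by omega) (by omega))
  obtain ⟨c, hp, -, -, hq, h8, -⟩ := hL.a5b1_pair H h hlt h1
  obtain ⟨u, hu⟩ := ((Nat.bijective_iff_injective_and_card fun u : ZZ S =>
    (⟨(u : G) • a, (H.pt_smul (hS S h1 u u.2).1).2 h⟩ : Pt N T)).2 ⟨fun u u' e => by
      have e1 : (u : G) • a = (u' : G) • a := congrArg Subtype.val e
      exact Subtype.ext (inv_mul_eq_one.1 ((hS S h1 _ (mul_mem (inv_mem u'.2) u.2)).2.2.2 (by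
        rw [mul_smul, e1, inv_smul_smul]))).symm, by
      rw [Nat.card_coe_set_eq, hΛ, hp.cardZ]⟩).2 ⟨b, hb.1⟩
  have hu' : (u : G) • a = b := congrArg Subtype.val hu
  obtain ⟨u1, u2, u3, -⟩ := hS S h1 u u.2
  generalize (u : G) = w at hu' u1 u2 u3
  obtain ⟨A, hA⟩ : ∃ A : Set G, A = {x | x ∈ T ∧ w * x * w⁻¹ = x⁻¹} := ⟨_, rfl⟩
  have k4 : Nat.card (ZZ T) * (Nat.card (ZZ T) - 1) ≤ A.ncard := k3.trans (by
    refine Set.ncard_le_ncard_of_injOn (fun r => w⁻¹ * r) ?_ (mul_right_injective _).injOn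
    rintro r ⟨⟨-, R, hR, hr⟩, e⟩
    obtain ⟨r1, r2, r3, -⟩ := hS R hR r hr
    rw [hA]
    refine ⟨hL.beta_stab H h hlt h1 (mul_mem (inv_mem u1) r1) (mul_mem (inv_mem u2) r2) (by
      rw [mul_smul, inv_smul_eq_iff, hu']
      exact e), ?_⟩
    rw [mul_inv_cancel_left, mul_inv_rev, inv_inv, inv_eq_of_mul_eq_one_right r3,
      inv_eq_of_mul_eq_one_right u3])
  obtain ⟨q, hq'⟩ : ∃ q, Nat.card (ZZ T) = q + 1 := ⟨Nat.card (ZZ T) - 1, by omega⟩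
  rw [hq', Nat.add_sub_cancel] at k4
  obtain ⟨x, hx, hxU⟩ : ∃ x ∈ A, x ∉ (ZZ T : Set G) := Set.not_subset.1 fun k => by
    have := Set.ncard_le_ncard k
    rw [← Nat.card_coe_set_eq (ZZ T : Set G)] at this
    change _ ≤ Nat.card (ZZ T) at this
    nlinarith
  have hAT : A ⊆ T := fun y hy => (hA ▸ hy).1
  have k5 := Set.ncard_union_add_ncard_inter A (x⁻¹ • A)
  rw [Set.ncard_smul_set] at k5
  have k6 : (A ∪ x⁻¹ • A).ncard ≤ Nat.card T := by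
    refine (Set.ncard_le_ncard (t := T) (Set.union_subset hAT ?_)).trans_eq
      (Nat.card_coe_set_eq (T : Set G)).symm
    rintro _ ⟨y, hy, rfl⟩
    exact T.mul_mem (T.inv_mem (hAT hx)) (hAT hy)
  have k7 : (A ∩ x⁻¹ • A).ncard ≤ Nat.card ↥(T ⊓ centralizer {x}) := by
    refine (Set.ncard_le_ncard (t := (T ⊓ centralizer {x} : Subgroup G)) ?_).trans_eq
      (Nat.card_coe_set_eq _).symm
    rintro y ⟨hy, hy'⟩
    rw [Set.mem_smul_set_iff_inv_smul_mem, inv_inv, smul_eq_mul, hA] at hy'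
    rw [hA] at hx hy
    refine ⟨hy.1, mem_centralizer_singleton_iff.2 (inv_injective ?_)⟩
    rw [← hy'.2, mul_inv_rev, ← hx.2, ← hy.2]
    group
  obtain ⟨j, hj⟩ := card_dvd_of_le (inf_le_left : T ⊓ centralizer {x} ≤ T)
  have k8 : j ≠ 1 := fun e => hxU (mem_ZZ.2 ⟨hAT hx, fun t ht => by
    rw [← eq_of_le_of_card_ge (inf_le_left : T ⊓ centralizer {x} ≤ T) (by rw [hj, e, mul_one])] at ht
    exact mem_centralizer_singleton_iff.1 ht.2⟩)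
  have k9 : j ≠ 0 := fun e => (Nat.card_pos (α := T)).ne' (by rw [hj, e, mul_zero])
  have k10 : Nat.card ↥(T ⊓ centralizer {x}) * 2 ≤ Nat.card T :=
    hj ▸ Nat.mul_le_mul_left _ (by omega)
  rw [hq'] at hq h8
  nlinarith

end CfsgLib.FSet
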