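import Cfsg.Agent.Lib.FSet.A1
import Cfsg.Agent.Lib.FSet.A4
import Cfsg.Agent.Lib.FSet.A5a
import Cfsg.Agent.Lib.FSet.A5b

/-! Case A of plans/FSET1.md. -/

set_option autoImplicit false
set_option linter.unusedSectionVars false

namespace CfsgLib.FSet

open Subgroup Cfsg CfsgLib.Tech CfsgLib.Gold

universe u v

variable {G : Type u} {Ω : Type v} [Group G] [Finite G] [Finite Ω] [MulAction G Ω]
  {N : Ω → Subgroup G}

theorem CA.main (H : Hyp N) (hA : CA N) (a : Ω) :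
    RNS G Ω ∨ (Nat.card Ω = 6 ∧ Nat.card (N a) = 60) := by
  have hL := hA.ls H
  obtain ⟨T, h⟩ := H.exists_fr a
  rcases (hL.ncard_le H h).eq_or_lt with he | hlt
  · exact Or.inl (hL.a4 H h he)
  refine Or.inr ?_
  by_cases hall : ∀ (c : Ω) (S : Subgroup G), Fr (N c) S → T ≠ S →
      (∃ t ∈ T, t ∈ NN S ∧ t ≠ 1) → ZZ T ≤ NN S
  · exact (hL.beta3 H h hlt hall).elim
  push Not at hall
  obtain ⟨c, S, h', hne, hnt, hα⟩ := hall
  obtain ⟨hT, hq⟩ := hL.alpha_sq H h h' hne hnt hlt hα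
  have h2 := hL.alpha_big H h h' hne hlt hT hq
  have h4 := h.four_le
  rw [hT] at h4
  have hd := hL.card_dvd H h h' hne
  have h5 := hL.two_le H h
  have e0 : Nat.card ↥(T ⊓ NN S) = 2 := by
    by_contra hc
    have : Nat.card ↥(T ⊓ NN S) ≤ 1 := by omega
    have : Nat.card ↥(T ⊓ NN S) ^ 2 ≤ 1 ^ 2 := Nat.pow_le_pow_left this 2
    omega
  rw [e0] at hq hd
  have e1 : Nat.card T = 4 := by omega
  have e2 : (Pt N T).ncard = 2 := by omega
  refine ⟨by rw [hL.card_pts H h, e1, e2], ?_⟩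
  have ht := h.tri
  rw [hT, e1] at ht
  rcases ht with ⟨-, e⟩ | ⟨e, -⟩ | ⟨e, -⟩
  · rw [e]
  · omega
  · omega

end CfsgLib.FSet
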