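import Cfsg.Agent.Lib.FSet.PrA

/-! Package PRB of plans/FSET1.md: a pair of Sylow subgroups, type β. -/

set_option autoImplicit false
set_option linter.unusedSectionVars false

namespace CfsgLib.FSet

open Subgroup Cfsg CfsgLib.Tech CfsgLib.Gold

universe u v

variable {G : Type u} [Group G] [Finite G] {N T M S : Subgroup G}

theorem Pair.prb_two (h : Pair N T M S) (hβ : ZZ T ≤ NN S) (big : ¬ Nat.card ↥(S ⊓ NN T) ≤ Nat.card (ZZ T)) :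
    ∀ a ∈ ZZ S, ∀ y ∈ T, y⁻¹ * (a * y * a⁻¹) ∈ ZZ T := fun a ha y hy => by
  have aN := h.beta_symm hβ ha
  have dT : ∀ y ∈ T, y⁻¹ * (a * y * a⁻¹) ∈ T := fun y hy => mul_mem (inv_mem hy) (conj_mem_of_mem_normalizer aN hy)
  obtain ⟨X, hX⟩ : ∃ X : Subgroup G, ∀ x, x ∈ X ↔ x ∈ T ∧ ∃ y ∈ T, x⁻¹ * (y⁻¹ * (a * y * a⁻¹)) ∈ ZZ T :=
    ⟨{ carrier := {x | x ∈ T ∧ ∃ y ∈ T, x⁻¹ * (y⁻¹ * (a * y * a⁻¹)) ∈ ZZ T}
       one_mem' := ⟨one_mem _, 1, one_mem _, by simp⟩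
       mul_mem' := fun {x x'} ⟨hx, y, hy, e⟩ ⟨hx', y', hy', e'⟩ => ⟨mul_mem hx hx', y * y', mul_mem hy hy', by
         convert mul_mem (frb_cjZ' (le_normalizer hx') (mul_mem (frb_cjZ' (le_normalizer hx)
           (h.fT.comm_mem (inv_mem hy') (dT y hy))) e)) e' using 1
         group⟩
       inv_mem' := fun {x} ⟨hx, y, hy, e⟩ => ⟨inv_mem hx, y, hy, by
         convert mul_mem (h.fT.sq_mem hx) e using 1
         group⟩ }, fun _ => Iff.rfl⟩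
  have l : ZZ T ≤ X := fun u hu => (hX u).2 ⟨ZZ_le T hu, 1, one_mem _, by simpa using hu⟩
  by_contra c
  obtain ⟨x, hx, hn, -, e⟩ := exists_fix_quot (h.fT.two.to_le fun x hx => ((hX x).1 hx).1)
    (h.fS.two.to_inf_left (K := NN T)) (lt_of_le_of_ne l fun e => c (e.ge ((hX _).2 ⟨dT y hy, y, hy, by rw [inv_mul_cancel]; exact one_mem _⟩)))
    (fun b hb => mem_normalizer_of_forall fun x hx => by
      obtain ⟨h1, y, hy, e⟩ := (hX x).1 hx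
      refine (hX _).2 ⟨conj_mem_of_mem_normalizer hb.2 h1, _, conj_mem_of_mem_normalizer hb.2 hy, ?_⟩
      convert frb_cjZ hb.2 e using 1
      conv_lhs => rw [← frb_cz hb.1 ha]
      group) (inf_le_right.trans (NN_le_ZZ T))
  obtain ⟨h1, y, hy, e'⟩ := (hX x).1 hx
  have xN : x ∈ NN S := by_contra fun c => big (h.card_le h1 c fun b hb hb' => e b ⟨hb, hb'⟩)
  have z := h.pra_cj ⟨dT y hy, (mul_mem_cancel_left (inv_mem xN)).1 (hβ e')⟩ ⟨ZZ_le S ha, aN⟩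
  refine hn (inv_mem_iff.1 ((mul_mem_cancel_right (h.fT.mem_ZZ.2 ⟨dT y hy, ?_⟩)).1 e'))
  calc _ = a * (y⁻¹ * (a * y * a⁻¹)) * a⁻¹ * (y⁻¹ * (a * y * a⁻¹)) := by rw [z]
    _ = a * y⁻¹ * a⁻¹ * (a * a) * y * (a * a)⁻¹ * y⁻¹ * (a * y * a⁻¹) := by group
    _ = 1 := by rw [h.fS.sqZ ha]; group

theorem Pair.beta1 (h : Pair N T M S) (hβ : ZZ T ≤ NN S) : T ⊓ NN S = ZZ T := by
  have lU : ZZ T ≤ T ⊓ NN S := le_inf (ZZ_le T) hβ
  have lU1 : ZZ S ≤ S ⊓ NN T := le_inf (ZZ_le S) (h.beta_symm hβ)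
  by_contra hne
  have big : ¬ Nat.card ↥(S ⊓ NN T) ≤ Nat.card (ZZ T) := fun c =>
    hne (eq_of_le_of_card_ge lU (h.card_eq.trans_le c)).symm
  have s2 := h.prb_two hβ big
  have s3 : ∀ x ∈ T, ∀ a ∈ S, a ∈ NN T → x * a * x⁻¹ * a⁻¹ ∈ T ⊓ NN S := fun x hx a ha ha' => by
    by_cases c : a ∈ ZZ S
    · exact lU (by simpa [mul_assoc] using s2 a c x⁻¹ (inv_mem hx))
    have z : x * a * x⁻¹ * a⁻¹ ∈ T := by
      simpa only [mul_assoc] using mul_mem hx (conj_mem_of_mem_normalizer ha' (inv_mem hx))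
    have m := lU1 (h.fS.sq_mem ha)
    have k := mul_mem (frb_cjZ (le_normalizer z) (inv_mem (s2 _ (h.fS.sq_mem ha) _ (inv_mem hx)))) (h.fT.sq_mem z)
    have k' : x * a * x⁻¹ * a⁻¹ * a * (x * a * x⁻¹ * a⁻¹)⁻¹ * a⁻¹ ∈ ZZ T := by
      convert k using 1
      group
    generalize x * a * x⁻¹ * a⁻¹ = w at z k'
    refine ⟨z, h.centT _ m.1 m.2 (fun e => c (h.fS.mem_ZZ.2 ⟨ha, e⟩)) _ z
      (mul_inv_eq_iff_eq_mul.1 (mul_inv_eq_one.1 ?_))⟩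
    calc _ = w * a * w⁻¹ * a⁻¹ * (a * (w * a * w⁻¹ * a⁻¹) * a⁻¹) := by group
      _ = 1 := by rw [h.pra_cj (lU k') ⟨ha, ha'⟩, h.fT.sqZ k']
  have s4 : ∀ x ∈ T, x ∉ NN S → ∀ y ∈ T ⊓ NN S, x⁻¹ * y * (x⁻¹ * y) = x * x := fun x hx hn y hy => by
    obtain ⟨a, ha, ha', rfl⟩ := h.surj hx hn (s3 x hx) hy
    calc _ = a * (x * x)⁻¹ * a⁻¹ := by group
      _ = _ := by rw [inv_eq_of_mul_eq_one_right (h.fT.sqZ (h.fT.sq_mem hx)), h.pra_cj (lU (h.fT.sq_mem hx)) ⟨ha, ha'⟩]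
  have s5 : ∀ x ∈ T, x ∉ NN S → ∀ y ∈ T ⊓ NN S, x * y * x⁻¹ = y⁻¹ := fun x hx hn y hy => by
    calc _ = x * x * (x⁻¹ * y * (x⁻¹ * y)) * y⁻¹ := by group
      _ = _ := by rw [s4 x hx hn y hy, h.fT.sqZ (h.fT.sq_mem hx), one_mul]
  have s6 : ∀ x ∈ T, x ∉ NN S → ∀ x' ∈ T, x' ∉ NN S → x' * x' = x * x := fun x hx hn x' hx' hn' => by
    have c : x * x' ∈ NN S := by_contra fun c => hne (le_antisymm (fun y hy => h.fT.mem_ZZ.2 ⟨hy.1, by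
      have := s5 _ (mul_mem hx hx') c y hy
      rw [show x * x' * y * (x * x')⁻¹ = x * (x' * y * x'⁻¹) * x⁻¹ by group, s5 x' hx' hn' y hy,
        s5 x hx hn _ (inv_mem hy), inv_inv] at this
      exact mul_eq_one_iff_eq_inv.2 this⟩) lU)
    simpa using s4 x hx hn _ ⟨mul_mem hx hx', c⟩
  obtain ⟨x, hx, hn⟩ := SetLike.not_le_iff_exists.1 h.neT
  obtain ⟨k, hs⟩ := h.fT.exists_sg
  obtain ⟨u, hu, u1, ux, -⟩ := Abel2.exists_ne_ne h.fT.four_le (x * x) 1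
  obtain ⟨j, e⟩ := hs.trans h.fT (h.fT.sq_mem hx) (fun e => hn (hβ (h.fT.mem_ZZ.2 ⟨hx, e⟩))) hu u1
  have gN := pow_mem hs.norm j
  generalize k ^ j = g at e gN
  have n : g⁻¹ * (x * x) * g ≠ x * x := fun c => ux (e.symm.trans (by
    conv_lhs => rw [← c]
    group))
  have m1 := conj_mem_of_mem_normalizer gN hx
  have m2 := conj_mem_of_mem_normalizer' gN hx
  have c1 : g * x * g⁻¹ ∈ NN S := by_contra fun c => ux (e.symm.trans (Eq.trans (by group) (s6 x hx hn _ m1 c)))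
  have c2 : g⁻¹ * x * g ∈ NN S := by_contra fun c => n (Eq.trans (by group) (s6 x hx hn _ m2 c))
  have w1 := s6 x hx hn _ (mul_mem hx m1) fun c => hn ((mul_mem_cancel_right c1).1 c)
  have w2 := s6 x hx hn _ (mul_mem m2 hx) fun c => hn ((mul_mem_cancel_left c2).1 c)
  refine n ?_
  conv_lhs => rw [← w1]
  rw [← w2]
  group

theorem Pair.beta2 (h : Pair N T M S) (hβ : ZZ T ≤ NN S) :
    Nat.card T = Nat.card (ZZ T) ^ 2 ∧ 8 ≤ Nat.card (ZZ T) := by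
  have e0 := h.beta1 hβ
  have e1 := h.symm.beta1 (h.beta_symm hβ)
  have q4 := h.fT.four_le
  rcases h.fT.tri with ⟨t, -⟩ | ⟨t, -, j, hj⟩ | ⟨t, -⟩
  · exact absurd ((eq_of_le_of_card_ge (ZZ_le T) t.le).ge.trans hβ) h.neT
  · refine ⟨t, ?_⟩
    rw [hj] at q4 ⊢
    rcases j with _ | j
    · simp at q4
    · exact Nat.pow_le_pow_right (n := 2) (by norm_num) (show 3 ≤ _ by omega)
  exfalso
  obtain ⟨x, hx, hn, -, e⟩ := exists_fix_quot h.fT.two h.fS.twoZ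
    (lt_of_le_of_ne (ZZ_le T) fun e => h.neT (e.ge.trans hβ)) (h.beta_symm hβ) ((h.beta_symm hβ).trans (NN_le_ZZ T))
  have k : ∀ a ∈ ZZ S, a ≠ 1 → x * a * x⁻¹ * a⁻¹ = x * x := fun a ha a1 => by
    have aN := e1.ge ha
    obtain ⟨W, hW⟩ := h.fT.exists_fixSub aN.2
    have c := pra_card h.fT hW (K := ZZ T) (I := ZZ T)
      (fun y hy c => e0.le ⟨hy, h.centT a aN.1 aN.2 a1 y hy c⟩) fun _ _ d => d
    obtain ⟨y, hy, d⟩ := (h.fT.card_fix aN.2 (fun y _ => by simp [h.fS.sqZ ha]) hW).2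
      ((Nat.pow_le_pow_left c 2).trans_eq (by rw [t]; ring)) x
      ((hW x).2 ⟨hx, by simpa [mul_assoc] using inv_mem (e a ha)⟩)
    have z : a * (y⁻¹ * (a * y * a⁻¹)) * a⁻¹ = (y⁻¹ * (a * y * a⁻¹))⁻¹ := by
      calc _ = a * y⁻¹ * a⁻¹ * (a * a) * y * (a * a)⁻¹ := by group
        _ = _ := by rw [h.fS.sqZ ha]; group
    generalize y⁻¹ * (a * y * a⁻¹) = w at d z
    obtain ⟨u, rfl⟩ : ∃ u, w = x * u := ⟨x⁻¹ * w, by group⟩
    rw [inv_mul_cancel_left] at d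
    calc _ = x * (a * u * a⁻¹) * (a * (x * u) * a⁻¹)⁻¹ := by group
      _ = x * (u * (x * u * x⁻¹)) * x := by rw [z, h.pra_cj (e0.ge d) aN]; group
      _ = _ := by rw [frb_cz hx d, h.fT.sqZ d, mul_one]
  obtain ⟨a, ha, a1, -⟩ := Abel2.exists_ne_ne h.fS.four_le 1 1
  obtain ⟨b, hb, b1, ba, -⟩ := Abel2.exists_ne_ne h.fS.four_le a⁻¹ 1
  refine hn (h.fT.mem_ZZ.2 ⟨hx, ?_⟩)
  calc x * x = x * a * x⁻¹ * a⁻¹ * (a * (x * b * x⁻¹ * b⁻¹) * a⁻¹) := by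
        rw [← k _ (mul_mem ha hb) fun e => ba (eq_inv_of_mul_eq_one_right e)]; group
    _ = 1 := by rw [h.pra_cj (e0.ge (e b hb)) (e1.ge ha), k a ha a1, k b hb b1, h.fT.sqZ (h.fT.sq_mem hx)]

end CfsgLib.FSet
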