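import Cfsg.Agent.Lib.FSet.A3b
import Cfsg.Agent.Lib.FSet.PrB

/-! Package A5B1 of plans/FSET1.md: type β. -/

set_option autoImplicit false
set_option linter.unusedSectionVars false

namespace CfsgLib.FSet

open Subgroup Cfsg CfsgLib.Tech CfsgLib.Gold

universe u v

variable {G : Type u} {Ω : Type v} [Group G] [Finite G] [Finite Ω] [MulAction G Ω]
  {N : Ω → Subgroup G}
  {a : Ω} {T : Subgroup G}

/-- the lines `≠ T` fixed by `Z(T)` -/
def Lns (N : Ω → Subgroup G) (T : Subgroup G) : Set (Subgroup G) :=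
  {S | (∃ c : Ω, Fr (N c) S) ∧ T ≠ S ∧ ZZ T ≤ NN S}

/-- the basic facts on a member of `Lns` -/
theorem LS.a5b1_pair (hL : LS N) (H : Hyp N) (h : Fr (N a) T)
    (hlt : (Pt N T).ncard < Nat.card T) {S : Subgroup G} (hS : S ∈ Lns N T) :
    ∃ c : Ω, Pair (N a) T (N c) S ∧ T ⊓ NN S = ZZ T ∧ S ⊓ NN T = ZZ S ∧
      Nat.card T = Nat.card (ZZ T) ^ 2 ∧ 8 ≤ Nat.card (ZZ T) ∧
      ∀ e : Ω, Fr (N e) T → ¬ Fr (N e) S := by
  obtain ⟨⟨c, h'⟩, hne, hβ⟩ := hS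
  obtain ⟨v, hv, hv1⟩ := h.a2_exists_ne
  have hp := hL.pair H h h' hne ⟨v, ZZ_le T hv, hβ hv, hv1⟩ hlt
  exact ⟨c, hp, hp.beta1 hβ, hp.symm.beta1 (hp.beta_symm hβ), (hp.beta2 hβ).1, (hp.beta2 hβ).2,
    fun e he => H.disj hne (ZZ_le T hv) hv1 (hβ hv) he⟩

theorem Fr.a5b1_ne {M : Subgroup G} (h : Fr M T) (hq : Nat.card T = Nat.card (ZZ T) ^ 2) :
    ZZ T ≠ T := fun e => by
  have := h.four_le
  rw [e] at hq this
  nlinarith

/-- step (a) -/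
theorem Fr.a5b1_sq {M : Subgroup G} (h : Fr M T) (hq : Nat.card T = Nat.card (ZZ T) ^ 2) {x y : G}
    (hx : x ∈ T) (hy : y ∈ T) (e : x * x = y * y) : x * y⁻¹ ∈ ZZ T := by
  choose σ hσ hσ' using fun u : ZZ T => h.sq_surj (h.a5b1_ne hq) u.2
  have k : ∀ u v : ZZ T, σ u * v * (σ u * v) = u := fun u v => by
    calc σ u * v * (σ u * v) = σ u * (v * σ u) * v := by group
      _ = σ u * σ u * (v * v) := by rw [← (FSet.mem_ZZ.1 v.2).2 _ (hσ u)]; group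
      _ = u := by rw [hσ', (h.mem_ZZ.1 v.2).2, mul_one]
  have hb := ((Nat.bijective_iff_injective_and_card fun p : ZZ T × ZZ T =>
    (⟨σ p.1 * p.2, mul_mem (hσ _) (ZZ_le T p.2.2)⟩ : T)).2 ⟨fun p p' e => by
      have e1 : σ p.1 * p.2 = σ p'.1 * p'.2 := congrArg Subtype.val e
      have e2 : p.1 = p'.1 := Subtype.ext (by rw [← k p.1 p.2, e1, k])
      rw [e2] at e1
      exact Prod.ext e2 (Subtype.ext (mul_left_cancel e1)), by rw [Nat.card_prod, hq, sq]⟩).2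
  obtain ⟨⟨u, v⟩, e1⟩ := hb ⟨x, hx⟩
  obtain ⟨⟨u', v'⟩, e2⟩ := hb ⟨y, hy⟩
  obtain rfl : σ u * v = x := congrArg Subtype.val e1
  obtain rfl : σ u' * v' = y := congrArg Subtype.val e2
  rw [k, k] at e
  obtain rfl : u = u' := Subtype.ext e
  have := (FSet.mem_ZZ.1 (mul_mem v.2 (inv_mem v'.2))).2 _ (hσ u)
  rw [show σ u * v * (σ u * v')⁻¹ = σ u * (v * (v' : G)⁻¹) * (σ u)⁻¹ by group, this,
    mul_inv_cancel_right]
  exact mul_mem v.2 (inv_mem v'.2)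

/-- step (b) -/
theorem Fr.a5b1_inner {M : Subgroup G} (h : Fr M T) (hq : Nat.card T = Nat.card (ZZ T) ^ 2) {g : G}
    (hM : g ∈ NN M) (hg : g ∈ NN T) (hc : g ∈ CC (ZZ T)) : ∃ t ∈ T, t⁻¹ * g ∈ CC M :=
  h.inner hM (fun x hx => h.a5b1_sq hq (conj_mem_of_mem_normalizer hg hx) hx (by
    rw [show g * x * g⁻¹ * (g * x * g⁻¹) = g * (x * x) * g⁻¹ by group,
      ← mem_CC.1 hc _ (h.sq_mem hx), mul_inv_cancel_right]))
    fun v hv => (mem_CC.1 hc v hv).symm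

/-- steps (a)-(e) -/
theorem LS.beta_stab (hL : LS N) (H : Hyp N) (h : Fr (N a) T)
    (hlt : (Pt N T).ncard < Nat.card T) {S : Subgroup G} (hS : S ∈ Lns N T) {r : G}
    (hr : r ∈ NN T) (hc : r ∈ CC (ZZ T)) (e : r • a = a) : r ∈ T := by
  obtain ⟨c, hp, h0, h1, hq, -, hd⟩ := hL.a5b1_pair H h hlt hS
  obtain ⟨u, hu, hu1⟩ := hp.fS.a2_exists_ne
  have huT : u ∈ NN T := (h1.ge hu).2
  have kc : ∀ x ∈ T, x * u = u * x → x ∈ ZZ T := fun x hx e =>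
    h0.le ⟨hx, hp.centT u (ZZ_le S hu) huT hu1 x hx e⟩
  have hCN : CC T ≤ NN T := centralizer_le_normalizer _
  have kd : ∀ w ∈ CC T, ∀ e : Ω, Fr (N e) T → w • e = e := fun w hw e he => by
    by_contra hm
    obtain ⟨y, hy, y1, y2⟩ := H.two_tr (Ne.symm hm) (c := a) (d := u • a)
      (fun e => hd a h (hL.pt_of_fix H hp.fS (ZZ_le S hu) hu1 e.symm)) he
      ((H.pt_smul (hCN hw)).2 he) h ((H.pt_smul huT).2 h)
    have w1 : y * w * y⁻¹ ∈ CC T := by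
      have := (conj_mem_cj (g := y)).2 hw
      rwa [cj_centralizer, mem_normalizer_iff_cj.1 hy] at this
    have w2 : (y * w * y⁻¹) • a = u • a := by rw [← y2, ← y1]; simp [mul_smul]
    generalize y * w * y⁻¹ = z at w1 w2
    obtain ⟨t, ht, k⟩ := h.a5b1_inner hq (g := z⁻¹ * u) (H.norm (by rw [mul_smul, ← w2, inv_smul_smul]))
      (mul_mem (inv_mem (hCN w1)) huT) (mul_mem (inv_mem (centralizer_le (ZZ_le T) w1))
        (mem_CC.2 fun v hv => (hp.comm v (ZZ_le T hv) (h0.ge hv).2 u (ZZ_le S hu) huT).eq))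
    have k1 : ∀ x ∈ T, u * x * u⁻¹ = t * x * t⁻¹ := fun x hx => by
      have k2 := mem_CC.1 k x (h.le hx)
      have k3 := mem_CC.1 w1 _ (T.mul_mem (T.mul_mem ht hx) (T.inv_mem ht))
      calc u * x * u⁻¹ = z * t * (t⁻¹ * (z⁻¹ * u) * x) * u⁻¹ := by group
        _ = z * (t * x * t⁻¹) * z⁻¹ := by rw [← k2]; group
        _ = _ := by rw [← k3, mul_inv_cancel_right]
    have k4 : t ∈ ZZ T := kc t ht (by
      rw [eq_comm, ← mul_inv_eq_iff_eq_mul, k1 t ht, mul_inv_cancel_right])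
    refine h.a5b1_ne hq (le_antisymm (ZZ_le T) fun x hx => kc x hx ?_)
    rw [eq_comm, ← mul_inv_eq_iff_eq_mul, k1 x hx, ← (mem_ZZ.1 k4).2 x hx, mul_inv_cancel_right]
  obtain ⟨t, ht, k⟩ := h.a5b1_inner hq (H.norm e) hr hc
  rw [← inv_mul_eq_one.1 (hL.cent_bot H h k (kd _ (centralizer_le h.le k)))]
  exact ht

end CfsgLib.FSet
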