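import Cfsg.Agent.Lib.FSet.A5b1

/-! Package A5B2 of plans/FSET1.md: type β. -/

set_option autoImplicit false
set_option linter.unusedSectionVars false

namespace CfsgLib.FSet

open Subgroup Cfsg CfsgLib.Tech CfsgLib.Gold

universe u v

variable {G : Type u} {Ω : Type v} [Group G] [Finite G] [Finite Ω] [MulAction G Ω]
  {N : Ω → Subgroup G}
  {a : Ω} {T : Subgroup G}

/-- step (f) -/
theorem LS.beta_count (hL : LS N) (H : Hyp N) (h : Fr (N a) T)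
    (hlt : (Pt N T).ncard < Nat.card T)
    (hall : ∀ (c : Ω) (S : Subgroup G), Fr (N c) S → T ≠ S → (∃ t ∈ T, t ∈ NN S ∧ t ≠ 1) →
      ZZ T ≤ NN S) :
    (Pt N T).ncard = Nat.card (ZZ T) ∧
      (Lns N T).ncard = Nat.card (ZZ T) * (Nat.card (ZZ T) - 1) := by
  obtain ⟨v, hv, hv1⟩ := h.a2_exists_ne
  have hex : ∀ c : Ω, ¬ Fr (N c) T → ∃ S ∈ Lns N T, Fr (N c) S := fun c hc => by
    obtain ⟨R, hR, -, h1, h2⟩ := hL.line_of_inv H h (ZZ_le T hv) (h.mem_ZZ.1 hv).2 hv1 hc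
    exact ⟨R, ⟨⟨c, hR⟩, h2, hall c R hR h2 ⟨v, ZZ_le T hv, h1, hv1⟩⟩, hR⟩
  have k1 := ncard_mul_eq (s := Lns N T) (t := (Pt N T)ᶜ) (Set.toFinite _) (Set.toFinite _)
    (fun S c => Fr (N c) S) (m := (Pt N T).ncard) (n := 1) (fun S hS => by
      obtain ⟨c, hp, -, -, -, -, hd⟩ := hL.a5b1_pair H h hlt hS
      rw [H.ncard_eq h hp.fS]
      congr 1
      ext e
      exact ⟨fun he => he.2, fun he => ⟨fun k => hd e k he, he⟩⟩) fun c hc => by
      obtain ⟨S, hS, h'⟩ := hex c hc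
      refine Set.ncard_eq_one.2 ⟨S, Set.eq_singleton_iff_unique_mem.2 ⟨⟨hS, h'⟩, fun R hR => ?_⟩⟩
      exact hL.eq_of_norm H h hc hR.2 h' (ZZ_le T hv) hv1 (hR.1.2.2 hv) (hS.2.2 hv)
  have k2 := Set.ncard_add_ncard_compl (Pt N T)
  rw [hL.card_pts H h] at k2
  obtain ⟨c, hc⟩ := H.exists_off h
  obtain ⟨S, hS, -⟩ := hex c hc
  obtain ⟨d, hp, h0, -, hq, -, -⟩ := hL.a5b1_pair H h hlt hS
  have k3 := hL.card_dvd H h hp.fS hS.2.1
  rw [h0] at k3
  have k4 : Nat.card (ZZ T) ∣ (Lns N T).ncard := by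
    letI : MulAction G (Subgroup G) := { smul := cj, one_smul := cj_one, mul_smul := cj_mul }
    refine dvd_ncard_of_stab T (Set.toFinite _) ?_ fun R hR => ?_
    · rintro t ht R ⟨⟨e, he⟩, h1, h2⟩
      refine ⟨⟨_, H.fr_smul he t⟩, fun k => h1 (cj_injective t ((cj_eq_of_mem ht).trans k)),
        fun u hu => ?_⟩
      change u ∈ NN (cj t R)
      rw [NN, ← cj_normalizer, mem_cj, mul_assoc, ← (mem_ZZ.1 hu).2 t ht, inv_mul_cancel_left]
      exact h2 hu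
    · obtain ⟨-, -, h1, -⟩ := hL.a5b1_pair H h hlt hR
      rw [show MulAction.stabilizer G R = NN R from Subgroup.ext fun g => mem_normalizer_iff_cj.symm,
        h1, hq, sq]
  have k5 := hL.two_le H h
  have k6 : 0 < Nat.card (ZZ T) := Nat.card_pos
  obtain ⟨m, hm⟩ := k4
  obtain ⟨l, hl⟩ : ∃ l, (Pt N T).ncard = l + 1 := ⟨(Pt N T).ncard - 1, by omega⟩
  rw [hq, hl] at k2
  rw [hm, hl] at k1
  rw [hl] at k3
  rw [hm, hl]
  generalize Nat.card (ZZ T) = q at k1 k2 k3 k6 ⊢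
  have k7 : m * (l + 1) = q * l := Nat.eq_of_mul_eq_mul_left k6 (by
    rw [Nat.add_sub_cancel] at k2
    nlinarith)
  have k8 : l + 1 = q := Nat.dvd_antisymm ((Nat.coprime_self_add_left.2 (Nat.coprime_one_left l)).dvd_of_dvd_mul_right
    (k7 ▸ dvd_mul_left _ _)) k3
  refine ⟨k8, ?_⟩
  rw [k8, mul_comm] at k7
  rw [Nat.eq_of_mul_eq_mul_left k6 k7, ← k8, Nat.add_sub_cancel]

end CfsgLib.FSet
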