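import Cfsg.Agent.Lib.FSet.Defs
import Cfsg.Agent.Lib.Holt.Wrap
import Cfsg.Agent.S2602
import Cfsg.Agent.S2603
import Cfsg.Agent.S2126

/-! Package CYC of plans/FSET1.md: the outer automorphism group has cyclic Sylow `2`-subgroups. -/

set_option autoImplicit false
set_option linter.unusedSectionVars false

namespace CfsgLib.FSet

open Subgroup Cfsg CfsgLib.Tech CfsgLib.Gold

universe u v

/-- an isomorphism of groups induces an isomorphism of outer automorphism groups -/
def cyc_outCongr {G H : Type*} [Group G] [Group H] (e : G ≃* H) : Cfsg.Out G ≃* Cfsg.Out H :=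
  QuotientGroup.congr _ _ (MulAut.congr e) (by
    ext β
    constructor
    · rintro ⟨_, ⟨g, rfl⟩, rfl⟩
      exact ⟨e g, by ext; simp⟩
    · rintro ⟨h, rfl⟩
      exact ⟨_, ⟨e.symm h, rfl⟩, by ext; simp⟩)

theorem cyc_of_odd_ker {A C : Type*} [Group A] [Finite A] [Group C] [IsCyclic C] (π : A →* C)
    (h : Odd (Nat.card π.ker)) (Q : Subgroup A) (hQ : IsPGroup 2 Q) : IsCyclic Q := by
  refine isCyclic_of_injective (π.comp Q.subtype) ((injective_iff_map_eq_one _).2 fun a ha => ?_)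
  obtain ⟨k, hk⟩ := hQ a
  have h1 : orderOf a ∣ 2 ^ k := orderOf_dvd_of_pow_eq_one hk
  have h2 : orderOf a ∣ Nat.card π.ker := by
    rw [← Subgroup.orderOf_coe]
    exact Subgroup.orderOf_dvd_natCard _ ha
  exact orderOf_eq_one_iff.1 (Nat.eq_one_of_dvd_coprimes
    (Nat.Coprime.pow_left k (Nat.coprime_two_left.2 h)) h1 h2)

theorem cyc_transport {A B : Type*} [Group A] [Group B] (e : A ≃* B)
    (h : ∀ Q : Subgroup B, IsPGroup 2 Q → IsCyclic Q) (Q : Subgroup A) (hQ : IsPGroup 2 Q) :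
    IsCyclic Q := by
  have := h (Q.map e.toMonoidHom) (hQ.map _)
  exact isCyclic_of_surjective (Q.equivMapOfInjective e.toMonoidHom e.injective).symm
    (MulEquiv.surjective _)

theorem cyc_out {L : Type u} [Group L] [Finite L] (h : BType L) (Q : Subgroup (Out L))
    (hQ : IsPGroup 2 Q) : IsCyclic Q := by
  have : Fact (Nat.Prime 2) := ⟨Nat.prime_two⟩
  rcases Holt.bender_list h with ⟨F, _, _, a, ha, hF, ⟨e⟩⟩ | ⟨F, _, _, a, ha, hF, ⟨e⟩⟩ |
    ⟨F, _, _, m, hm, hF, ⟨e⟩⟩
  · have h4 : 4 ≤ 2 ^ a := by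
      calc 4 = 2 ^ 2 := by norm_num
        _ ≤ 2 ^ a := Nat.pow_le_pow_right two_pos ha
    obtain ⟨φ, -, -, hk⟩ := Cfsg.Agent.S2602.result (F := F) (p := 2) (f := a) (by omega) hF h4
    have : Finite (Out L) := inferInstance
    have : Finite (Out (Matrix.ProjectiveSpecialLinearGroup (Fin 2) F)) :=
      Finite.of_equiv _ (cyc_outCongr e).toEquiv
    refine cyc_transport (cyc_outCongr e) (cyc_of_odd_ker φ ?_) Q hQ
    rw [hk]
    refine Odd.of_dvd_nat ?_ (Nat.gcd_dvd_right _ _)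
    exact Nat.Even.sub_odd (by omega) (Nat.even_pow.2 ⟨even_two, by omega⟩) odd_one
  · have h4 : 4 ≤ 2 ^ a := by
      calc 4 = 2 ^ 2 := by norm_num
        _ ≤ 2 ^ a := Nat.pow_le_pow_right two_pos ha
    obtain ⟨φ, -, -, hk⟩ := Cfsg.Agent.S2603.result (K := F) (p := 2) (f := a) (q := 2 ^ a)
      (n := 3) (by omega) rfl hF le_rfl (by omega)
    have : Finite (Out L) := inferInstance
    have : Finite (Out (PSU 3 F (2 ^ a))) := Finite.of_equiv _ (cyc_outCongr e).toEquiv
    refine cyc_transport (cyc_outCongr e) (cyc_of_odd_ker φ ?_) Q hQ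
    rw [hk]
    exact Odd.of_dvd_nat (by decide : Odd 3) (Nat.gcd_dvd_left _ _)
  · have hk := Cfsg.Agent.S2126.result (F := F) hm hF
    have : Finite (Out L) := inferInstance
    have hc : Nat.card (Out L) = 2 * m + 1 := by
      rw [← hk]; exact Nat.card_congr (cyc_outCongr e).toEquiv
    refine cyc_of_odd_ker (1 : Out L →* Multiplicative (ZMod 1)) ?_ Q hQ
    rw [MonoidHom.ker_one, Subgroup.card_top, hc]
    exact odd_two_mul_add_one m

theorem cyc_sq {C : Type*} [Group C] [Finite C] [IsCyclic C] {a b : C} (ha : a ≠ 1) (hb : b ≠ 1)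
    (sa : a * a = 1) (sb : b * b = 1) : a = b := by
  classical
  have := Fintype.ofFinite C
  have h := IsCyclic.card_pow_eq_one_le (α := C) (n := 2) two_pos
  by_contra hab
  have hs : ({1, a, b} : Finset C) ⊆ Finset.univ.filter (fun x : C => x ^ 2 = 1) := by
    intro x hx
    simp only [Finset.mem_insert, Finset.mem_singleton] at hx
    rcases hx with rfl | rfl | rfl <;> simp [pow_two, sa, sb]
  have h3 : ({1, a, b} : Finset C).card = 3 := by
    rw [Finset.card_insert_of_notMem (by simp [ha.symm, hb.symm]),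
      Finset.card_pair hab]
  have := Finset.card_le_card hs
  omega

variable {G : Type u} [Group G] [Finite G] {N : Subgroup G}

theorem cyc_inr_iff (x : NN N) :
    Inr N (x : G) ↔ (QuotientGroup.mk' (Inn N)) (N.normalizerMonoidHom x) = 1 := by
  rw [QuotientGroup.mk'_apply, QuotientGroup.eq_one_iff]
  constructor
  · rintro ⟨y, hy, hc⟩
    refine ⟨⟨y, hy⟩, ?_⟩
    ext n
    have := (mem_CC.1 hc) n n.2
    show y * (n : G) * y⁻¹ = (x : G) * (n : G) * (x : G)⁻¹
    calc y * (n : G) * y⁻¹ = y * (n * (y⁻¹ * x)) * (x : G)⁻¹ := by group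
      _ = y * (y⁻¹ * x * n) * (x : G)⁻¹ := by rw [this]
      _ = _ := by group
  · rintro ⟨y, hy⟩
    refine ⟨y, y.2, mem_CC.2 fun n hn => ?_⟩
    have h1 : (y : G) * n * (y : G)⁻¹ = (x : G) * n * (x : G)⁻¹ :=
      congrArg (fun f : MulAut N => ((f ⟨n, hn⟩ : N) : G)) hy
    calc n * ((y : G)⁻¹ * x) = (y : G)⁻¹ * (y * n * (y : G)⁻¹) * x := by group
      _ = (y : G)⁻¹ * (x * n * (x : G)⁻¹) * x := by rw [h1]
      _ = _ := by group

theorem cyc (h : BType N) {P : Subgroup G} (hP : IsPGroup 2 P) (hn : P ≤ NN N) {x y : G}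
    (hx : x ∈ P) (hy : y ∈ P) (ox : ¬ Inr N x) (oy : ¬ Inr N y) (sx : Inr N (x * x))
    (sy : Inr N (y * y)) : Inr N (x * y) := by
  set π : NN N →* Out N := (QuotientGroup.mk' (Inn N)).comp N.normalizerMonoidHom with hπ
  have key : ∀ z : NN N, Inr N (z : G) ↔ π z = 1 := fun z => cyc_inr_iff z
  set ψ : P →* Out N := π.comp (inclusion hn) with hψ
  have hQ : IsPGroup 2 ψ.range := hP.of_surjective ψ.rangeRestrict ψ.rangeRestrict_surjective
  have := cyc_out h ψ.range hQ
  set x' : NN N := ⟨x, hn hx⟩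
  set y' : NN N := ⟨y, hn hy⟩
  have ex : π x' ∈ ψ.range := ⟨⟨x, hx⟩, rfl⟩
  have ey : π y' ∈ ψ.range := ⟨⟨y, hy⟩, rfl⟩
  have h1 : π x' ≠ 1 := fun e => ox ((key x').2 e)
  have h2 : π y' ≠ 1 := fun e => oy ((key y').2 e)
  have h3 : π x' * π x' = 1 := by rw [← map_mul]; exact (key (x' * x')).1 sx
  have h4 : π y' * π y' = 1 := by rw [← map_mul]; exact (key (y' * y')).1 sy
  have h5 : (⟨π x', ex⟩ : ψ.range) = ⟨π y', ey⟩ :=
    cyc_sq (fun e => h1 (congrArg Subtype.val e)) (fun e => h2 (congrArg Subtype.val e))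
      (Subtype.ext h3) (Subtype.ext h4)
  have h6 : π x' = π y' := congrArg Subtype.val h5
  refine (key (x' * y')).2 ?_
  rw [map_mul, ← h6, h3]

end CfsgLib.FSet
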