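import Cfsg.Agent.Lib.FSet.Geo
import Cfsg.Agent.Lib.FSet.FrB
import Cfsg.Agent.Lib.FSet.Cyc

/-! Package B0 of plans/FSET1.md: case B, no Sylow subgroup of `N a` fixes a second point. -/

set_option autoImplicit false
set_option linter.unusedSectionVars false

namespace CfsgLib.FSet

open Subgroup Cfsg CfsgLib.Tech CfsgLib.Gold

universe u v

variable {G : Type u} {Ω : Type v} [Group G] [Finite G] [Finite Ω] [MulAction G Ω]
  {N : Ω → Subgroup G}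
  {a b c : Ω} {T : Subgroup G}

theorem Hyp.only_fix (H : Hyp N) (hB : ¬ CA N) (h : Fr (N a) T) (hf : ∀ t ∈ T, t • c = c) :
    c = a := by
  by_contra hne
  exact hB ⟨a, c, T, Ne.symm hne, h, hf⟩

theorem Hyp.exists_sylow (H : Hyp N) (hB : ¬ CA N) (h : Fr (N a) T) :
    ∃ S : Sylow 2 G, T ≤ S ∧ (∀ x ∈ (S : Subgroup G), x • a = a) ∧ (S : Subgroup G) ⊓ N a = T := by
  obtain ⟨S, hS⟩ := h.two.exists_le_sylow
  have h1 : MulAction.fixedPoints T Ω = {a} := by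
    ext c
    exact ⟨fun hc => H.only_fix hB h fun t ht => hc ⟨t, ht⟩, fun hc t => by
      rw [hc]; exact H.fix_of_fr h t.2⟩
  have h2 := h.two.card_modEq_card_fixedPoints Ω
  rw [h1, Nat.card_coe_set_eq, Set.ncard_singleton] at h2
  obtain ⟨c, hc⟩ := S.isPGroup'.nonempty_fixed_point_of_prime_not_dvd_card Ω (by
    unfold Nat.ModEq at h2; omega)
  obtain rfl : c = a := H.only_fix hB h fun t ht => hc ⟨t, hS ht⟩
  exact ⟨S, hS, fun x hx => hc ⟨x, hx⟩,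
    h.syl.eq_of_le (S.isPGroup'.to_le inf_le_left) (le_inf hS h.le) inf_le_right⟩

theorem Hyp.l4 (H : Hyp N) (hB : ¬ CA N) {s : G} (hs : II N s) {P : Subgroup G} (hP : IsPGroup 2 P)
    (hc : ∀ x ∈ P, x * s = s * x) : ∃ e : Ω, s ∈ N e ∧ ∀ x ∈ P, x • e = e := by
  obtain ⟨s2, s1, a, sa⟩ := hs
  obtain ⟨T, hT⟩ := H.exists_fr a
  obtain ⟨S, hS, hf, hi⟩ := H.exists_sylow hB hT
  have nT : (S : Subgroup G) ≤ NN T := fun x hx => mem_normalizer_of_forall fun t ht => by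
    rw [← hi] at ht ⊢
    exact mem_inf.2 ⟨mul_mem (mul_mem hx ht.1) (inv_mem hx), conj_mem_of_mem_normalizer (H.norm (hf x hx)) ht.2⟩
  have hb : (⊥ : Subgroup G) < ZZ T := bot_lt_iff_ne_bot.2 fun e => by
    have := hT.four_le
    rw [e, card_bot] at this
    omega
  obtain ⟨u, hu, u1, -, uc⟩ := exists_fix_quot (hT.two.to_le (ZZ_le T)) S.isPGroup' hb (nT.trans (NN_le_ZZ T))
    (fun x _ => mem_normalizer_of_forall fun t ht => by rw [mem_bot.1 ht]; simp)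
  obtain ⟨y, hy, e⟩ := inv_conj (H.ben a) (s := u) (t := s)
    ⟨hT.le (ZZ_le T hu), (hT.mem_ZZ.1 hu).2, fun e => u1 (mem_bot.2 e)⟩ ⟨sa, s2, s1⟩
  have hS' : IsSylowIn 2 (cj y S) (centralizer {s}) :=
    IsSylowIn.of_sylow (y • S) (cj_le_iff.2 fun x hx => mem_centralizer_singleton_iff.2 (by
      have := mem_bot.1 (uc x hx)
      rw [mul_inv_eq_one, mul_inv_eq_iff_eq_mul] at this
      rw [← e]
      calc y * x * y⁻¹ * (y * u * y⁻¹) = y * (x * u) * y⁻¹ := by group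
        _ = _ := by rw [← this]; group))
  obtain ⟨g, hg, hle⟩ := hS'.exists_cj_le hP fun x hx => mem_centralizer_singleton_iff.2 (hc x hx)
  refine ⟨g⁻¹ • a, ?_, fun x hx => ?_⟩
  · have := H.conj_mem sa g⁻¹
    rwa [inv_inv, mul_assoc, ← mem_centralizer_singleton_iff.1 hg, inv_mul_cancel_left] at this
  · have h1 := hf _ (mem_cj.1 (cj_le_iff.1 hle x hx))
    rw [mul_smul, mul_smul, H.fix a y hy, inv_smul_eq_iff, H.fix a y hy, mul_smul, mul_smul] at h1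
    rw [eq_inv_smul_iff, h1]

theorem Hyp.l5 (H : Hyp N) (hB : ¬ CA N) {s : G} (hs : II N s) (hn : s ∉ N a) :
    ¬ Inr (N a) s := by
  rintro ⟨y, hy, hc⟩
  have c1 : y * (y⁻¹ * s) = y⁻¹ * s * y := mem_CC.1 hc y hy
  have y2 : y * y = 1 := bt_eq_one (H.ben a) (mul_mem hy hy) (by
    have : y * y = ((y⁻¹ * s) * (y⁻¹ * s))⁻¹ := eq_inv_of_mul_eq_one_left (by
      calc y * y * (y⁻¹ * s * (y⁻¹ * s)) = y * (y * (y⁻¹ * s)) * (y⁻¹ * s) := by group
        _ = s * s := by rw [c1]; group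
        _ = 1 := hs.1)
    rw [this]
    exact inv_mem (mul_mem hc hc))
  obtain ⟨T, hT, yT⟩ := exists_fr_mem (H.ben a) hy (El2.of_sq y2)
  obtain ⟨e, he, hf⟩ := H.l4 hB hs hT.two fun x hx => by
    have h1 := (mem_ZZ.1 (hT.mem_ZZ.2 ⟨yT, y2⟩)).2 x hx
    have h2 := mem_CC.1 hc x (hT.le hx)
    calc x * s = x * y * (y⁻¹ * s) := by group
      _ = y * (x * (y⁻¹ * s)) := by rw [h1, mul_assoc]
      _ = s * x := by rw [h2]; group
  exact hn (H.only_fix hB hT hf ▸ he)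

theorem Hyp.l6 (H : Hyp N) (hB : ¬ CA N) {x y : G} (hx : x ∈ Inv (N b)) (hy : y ∈ Inv (N b))
    (e : x * y = y * x) (ex : x • a = a) (ey : y • a = a) (nx : x ∉ N a) (ny : y ∉ N a) :
    x * y ∈ N a := by
  by_contra hn
  obtain ⟨T, hT, xT⟩ := exists_fr_mem (H.ben b) hx.1 (El2.of_sq hx.2.1)
  have yT : y ∈ T := hT.mem_of_norm hy.1 (hT.norm_of_conj (le_normalizer hy.1) xT hx.2.2 (by
    rw [← e, mul_inv_cancel_right]; exact xT)) (El2.of_sq hy.2.1)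
  refine H.l5 hB ⟨?_, fun h1 => hn (by rw [h1]; exact one_mem _), b, mul_mem hx.1 hy.1⟩ hn
    (cyc (H.ben a) (P := T ⊓ MulAction.stabilizer G a) (hT.two.to_le inf_le_left) (fun g hg => H.norm hg.2)
      ⟨xT, ex⟩ ⟨yT, ey⟩ (H.l5 hB ⟨hx.2.1, hx.2.2, b, hx.1⟩ nx) (H.l5 hB ⟨hy.2.1, hy.2.2, b, hy.1⟩ ny)
      (hx.2.1 ▸ Inr.of_mem (one_mem _)) (hy.2.1 ▸ Inr.of_mem (one_mem _)))
  calc x * y * (x * y) = x * (y * x) * y := by group
    _ = x * x * (y * y) := by rw [← e]; group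
    _ = 1 := by rw [hx.2.1, hy.2.1, one_mul]

end CfsgLib.FSet
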