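import Cfsg.Agent.Lib.FSet.B0
import Cfsg.Agent.Lib.FSet.Rn
import Cfsg.Agent.Lib.Gold.All
import Cfsg.Agent.Lib.Gold.FactA
import Cfsg.Agent.Lib.Abel2.GoodPSL
import Cfsg.Agent.Lib.ZStar.Main

/-! Package B1A of plans/FSET1.md: the socle. -/

set_option autoImplicit false
set_option Elab.async false
set_option linter.unusedSectionVars false

namespace CfsgLib.FSet

open Subgroup Cfsg CfsgLib.Tech CfsgLib.Gold

universe u v

variable {G : Type u} {Ω : Type v} [Group G] [Finite G] [Finite Ω] [MulAction G Ω]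
  {N : Ω → Subgroup G}

theorem Fr.b1a_exists_ne {M T : Subgroup G} (h : Fr M T) : ∃ v ∈ ZZ T, v ≠ 1 := by
  by_contra hn
  push Not at hn
  have h1 := h.four_le
  rw [(eq_bot_iff_forall _).2 hn, card_bot] at h1
  omega

theorem Hyp.le_socle (H : Hyp N) (hB : ¬ CA N) (hS : SCl N) {M : Subgroup G} (hM : M.Normal)
    (hs : IsSimpleGroup M) (hn : ¬ IsMulCommutative M) (hc : CC M = ⊥) (c : Ω) : N c ≤ M := by
  have key : ∃ e : Ω, N e ≤ M := by
    by_contra h0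
    push Not at h0
    have h1 : ∀ e : Ω, ∀ v ∈ N e, v ∈ M → v = 1 := fun e v hv hv' => by
      rcases bt_normal (H.ben e) (X := N e ⊓ M) inf_le_left (fun y hy =>
        mem_normalizer_of_forall fun x hx =>
          ⟨(N e).mul_mem ((N e).mul_mem hy hx.1) ((N e).inv_mem hy), hM.conj_mem x hx.2 y⟩) with e' | e'
      · exact mem_bot.1 (e' ▸ (⟨hv, hv'⟩ : v ∈ N e ⊓ M))
      · exact (h0 e (e' ▸ inf_le_right)).elim
    obtain ⟨T, hT⟩ := H.exists_fr c
    obtain ⟨t, ht, t1⟩ := hT.b1a_exists_ne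
    have t2 := (hT.mem_ZZ.1 ht).2
    have tI : II N t := ⟨t2, t1, c, hT.le ht.1⟩
    have tX : t ∈ M ⊔ zpowers t := mem_sup_right (mem_zpowers t)
    have iso : IsIsolatedInvolution (⟨t, tX⟩ : ↥(M ⊔ zpowers t)) := by
      refine ⟨orderOf_eq_prime (Subtype.ext (by simpa [pow_two] using t2))
        fun e => t1 (congrArg Subtype.val e), fun g hg => Subtype.ext ?_⟩
      have hg' : t * (g * t * (g : G)⁻¹) = g * t * (g : G)⁻¹ * t := congrArg Subtype.val hg.eq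
      have sI := H.ii_conj tI g
      obtain ⟨e, e1, e2⟩ := H.l4 hB tI (El2.of_sq sI.1).pgroup fun x hx => by
        obtain ⟨k, rfl⟩ := mem_zpowers_iff.1 hx
        exact ((show Commute t _ from hg').zpow_right k).eq.symm
      have e3 := hS _ sI e (e2 _ (mem_zpowers _))
      refine mul_inv_eq_one.1 (h1 e _ (mul_mem e3 (inv_mem e1)) ?_)
      have hg2 := g.2
      rw [← SetLike.mem_coe, normal_mul] at hg2
      obtain ⟨m, hm, z, hz, e4⟩ := hg2
      obtain ⟨k, rfl⟩ := mem_zpowers_iff.1 hz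
      have e5 : (g : G) * t * (g : G)⁻¹ * t⁻¹ = m * (t * m⁻¹ * t⁻¹) := by
        rw [← e4]; group
      exact e5 ▸ mul_mem hm (hM.conj_mem _ (inv_mem hm) t)
    have hO : (PComp.opOf 2 (M ⊔ zpowers t)).subgroupOf M = ⊥ := by
      have hn' : ((PComp.opOf 2 (M ⊔ zpowers t)).subgroupOf M).Normal :=
        ⟨fun x hx g => mem_subgroupOf.2 (conj_mem_of_mem_normalizer (g := (g : G)) (x := (x : G))
          (PComp.le_normalizer_opOf _ (mem_sup_left g.2)) (mem_subgroupOf.1 hx))⟩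
      refine hn'.eq_bot_or_eq_top.resolve_right fun e => ?_
      have h2 := PComp.coprime_card_of_le_opOf (subgroupOf_eq_top.1 e)
      exact Nat.not_even_iff_odd.2 (Nat.coprime_two_right.1 h2) (FT.even_card_of_simple hn)
    refine t1 (mem_bot.1 (hc ▸ mem_CC.2 fun m hm => ?_))
    have h2 := PComp.mem_opOf_iff.2 (ZStar.zstar iso ⟨m, mem_sup_left hm⟩)
    have h3 : t * m * t⁻¹ * m⁻¹ ∈ M := mul_mem (hM.conj_mem m hm t) (inv_mem hm)
    have h4 : (⟨_, h3⟩ : M) ∈ (PComp.opOf 2 (M ⊔ zpowers t)).subgroupOf M := h2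
    rw [hO] at h4
    have h5 : t * m * t⁻¹ * m⁻¹ = 1 := congrArg Subtype.val (mem_bot.1 h4)
    rw [mul_inv_eq_one, mul_inv_eq_iff_eq_mul] at h5
    exact h5.symm
  obtain ⟨e, he⟩ := key
  obtain ⟨g, rfl⟩ := H.tr e c
  rw [H.conj]
  exact cj_le_iff.2 fun x hx => hM.conj_mem x (he hx) g

theorem Hyp.not_btype (H : Hyp N) (hB : ¬ CA N) {M : Subgroup G} (hM : M.Normal)
    (hle : ∀ c : Ω, N c ≤ M) (ht : ∀ c d : Ω, ∃ m ∈ M, m • c = d) (a : Ω) : ¬ BType M := by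
  intro hb
  obtain ⟨T, hT⟩ := H.exists_fr a
  obtain ⟨S, -, h2, h3⟩ := H.exists_sylow hB hT
  have hP : Fr M ((S : Subgroup G) ⊓ M) := ⟨hb, sylow_inf_normal S M⟩
  rcases hP.le_norm_or (Y := M ⊓ MulAction.stabilizer G a) (fun x hx => ⟨hx.2, h2 x hx.1⟩)
    inf_le_left with e | e
  · refine hT.not_le_norm fun y hy => mem_normalizer_of_forall fun x hx => ?_
    rw [← h3] at hx ⊢
    exact ⟨(conj_mem_of_mem_normalizer (e ⟨hle a hy, H.fix a y hy⟩) ⟨hx.1, hle a hx.2⟩).1,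
      (N a).mul_mem ((N a).mul_mem hy hx.2) ((N a).inv_mem hy)⟩
  · obtain ⟨b, hb⟩ := H.exists_ne a
    obtain ⟨m, hm, rfl⟩ := ht a b
    rw [← e] at hm
    exact hb hm.2

theorem Hyp.exists_soc (H : Hyp N) (hB : ¬ CA N) (hS : SCl N) (hn : ¬ RNS G Ω) (a : Ω) :
    ∃ M : Subgroup G, Soc N M := by
  obtain ⟨M, hM, hs, hc, hC, ht⟩ := H.exists_socle a hn
  have hle := H.le_socle hB hS hM hs hc hC
  have nb := H.not_btype hB hM hle ht a
  have hk : Abel2.Ab2 M ∧ (Abel2.IsPSLOdd M ∨ Abel2.IsJR M) := by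
    obtain ⟨T, hT⟩ := H.exists_fr a
    obtain ⟨S, h1, h2, h3⟩ := H.exists_sylow hB hT
    have hP := sylow_inf_normal S M
    obtain ⟨t, ht, t1⟩ := hT.b1a_exists_ne
    have hsc : HasSC M := by
      refine Cor.hasSC_of hP.toSylow (A := (ZZ T).subgroupOf M) (fun e => t1 ?_)
        (comm_of_elem fun x hx => Subtype.ext (hT.mem_ZZ.1 hx).2)
        ⟨fun x hx => hP.mem_toSylow.2 ⟨h1 (mem_subgroupOf.1 hx).1, x.2⟩, fun x hx g hg => ?_⟩
      · have : (⟨t, hle a (hT.le ht.1)⟩ : M) ∈ (ZZ T).subgroupOf M := ht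
        rw [e] at this
        exact congrArg Subtype.val (mem_bot.1 this)
      · by_cases x1 : x = 1
        · simp [x1]
        have hx' := hT.mem_ZZ.1 (mem_subgroupOf.1 hx)
        have sI := H.ii_conj ⟨hx'.2, fun e => x1 (Subtype.ext e), a, hT.le hx'.1⟩ g
        have h4 := (hP.mem_toSylow.1 hg).1
        exact hT.mem_ZZ.2 ⟨h3 ▸ ⟨h4, hS _ sI a (h2 _ h4)⟩, sI.1⟩
    rcases Cor.known Gold.all hc hsc with h | h | h | h
    · exact (nb (btype_of_isBenderGroup (Cor.isBenderGroup_of (Or.inl h)))).elim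
    · exact (nb (btype_of_isBenderGroup (Cor.isBenderGroup_of (Or.inr (Or.inl h))))).elim
    · exact (nb (btype_of_isBenderGroup (Cor.isBenderGroup_of (Or.inr (Or.inr h))))).elim
    · exact h
  have hg : Abel2.Good M :=
    hk.2.elim (fun h => Abel2.good_of_isPSLOdd h hk.1) Abel2.good_of_isJR
  refine ⟨M, hM, hle, ht, hk.1, hk.2, nb, fun c T hT => ?_⟩
  obtain ⟨S, h1, h2, h3⟩ := H.exists_sylow hB hT
  have hP := sylow_inf_normal S M
  obtain ⟨t, ht, t1⟩ := hT.b1a_exists_ne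
  have hTP : T ≤ (S : Subgroup G) ⊓ M := le_inf h1 (hT.le.trans (hle c))
  have e : (S : Subgroup G) ⊓ M = T := le_antisymm (fun v hv => by
    by_cases v1 : v = 1
    · exact v1 ▸ one_mem _
    have hv' := (hP.mem_toSylow (x := ⟨v, hv.2⟩)).2 hv
    obtain ⟨g, e⟩ := good_conj_invol hg hP.toSylow
      (good_orderOf hg _ hv' fun e => v1 (congrArg Subtype.val e))
      ((hP.mem_toSylow (x := ⟨t, (hTP ht.1).2⟩)).2 (hTP ht.1)) fun e => t1 (congrArg Subtype.val e)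
    have e' : (g : G) * v * (g : G)⁻¹ = t := congrArg Subtype.val e
    have sI := H.ii_conj ⟨(hT.mem_ZZ.1 ht).2, t1, c, hT.le ht.1⟩ (g : G)⁻¹
    rw [← e', show (g : G)⁻¹ * (g * v * (g : G)⁻¹) * (g : G)⁻¹⁻¹ = v by group] at sI
    exact h3 ▸ ⟨hv.1, hS _ sI c (h2 _ hv.1)⟩) hTP
  refine ⟨e ▸ hP, le_antisymm (ZZ_le T) fun v hv => hT.mem_ZZ.2 ⟨hv, ?_⟩⟩
  exact congrArg Subtype.val
    (hg.elem hP.toSylow ⟨v, (hTP hv).2⟩ (hP.mem_toSylow.2 (hTP hv)))

end CfsgLib.FSet
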