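import Cfsg.Agent.Lib.FSet.Geo
import Cfsg.Agent.Lib.Gold.Cor1
import Cfsg.Agent.Lib.Gold.FactB
import Cfsg.Agent.Lib.Abel2.GoodPSL
import Cfsg.Agent.Lib.BenderRed.Final

/-! Package B1B of plans/FSET1.md: counting involutions. -/

set_option autoImplicit false
set_option Elab.async false
set_option linter.unusedSectionVars false

namespace CfsgLib.FSet

open Subgroup Cfsg CfsgLib.Tech CfsgLib.Gold

universe u v

variable {G : Type u} {Ω : Type v} [Group G] [Finite G] [Finite Ω] [MulAction G Ω]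
  {N : Ω → Subgroup G}
  {M : Subgroup G} {a b : Ω}

theorem Soc.b1b_good (hM : Soc N M) : Abel2.Good M :=
  hM.known.elim (fun h => Abel2.good_of_isPSLOdd h hM.ab2) Abel2.good_of_isJR

theorem Hyp.b1b_exists_inv (H : Hyp N) (a : Ω) : ∃ s : G, s ∈ Inv (N a) := by
  obtain ⟨T, h⟩ := H.exists_fr a
  by_contra hn
  push Not at hn
  have h1 := h.four_le
  rw [(eq_bot_iff_forall (ZZ T)).2 fun v hv => by_contra fun e =>
    hn v ⟨h.le hv.1, (h.mem_ZZ.1 hv).2, e⟩, card_bot] at h1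
  omega

theorem b1b_inv (g : G) (X : Subgroup G) : (Inv (cj g X)).ncard = (Inv X).ncard := by
  rw [← Set.ncard_image_of_injective (Inv X) (MulAut.conj g).injective]
  congr 1
  ext y
  refine ⟨fun hy => ⟨g⁻¹ * y * g⁻¹⁻¹, ?_, by simp [mul_assoc]⟩, ?_⟩
  · have := inv_cj hy g⁻¹
    rwa [cj_inv_cj] at this
  · rintro ⟨x, hx, rfl⟩
    exact inv_cj hx g

theorem Hyp.b1b_pts (H : Hyp N) (g t : G) :
    {c : Ω | g * t * g⁻¹ ∈ N c}.ncard = {c : Ω | t ∈ N c}.ncard := by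
  rw [← Set.ncard_image_of_injective {c : Ω | t ∈ N c} (MulAction.injective g)]
  congr 1
  ext c
  refine ⟨fun hc => ⟨g⁻¹ • c, ?_, smul_inv_smul g c⟩, ?_⟩
  · have := H.conj_mem hc g⁻¹
    rwa [show g⁻¹ * (g * t * g⁻¹) * g⁻¹⁻¹ = t by group] at this
  · rintro ⟨d, hd, rfl⟩
    exact H.conj_mem hd g

theorem b1b_arith {n i j z I : ℕ} (h1 : n * j = I * z) (h2 : (n - 1) * i = j * (z - 1))
    (h3 : 0 < i) (h4 : 0 < z) (h5 : 2 ≤ j) : I < j ^ 2 := by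
  obtain ⟨z, rfl⟩ := Nat.exists_eq_succ_of_ne_zero h4.ne'
  have h6 : n - 1 ≤ j * z := by
    have := Nat.le_mul_of_pos_right (n - 1) h3
    simpa [h2] using this
  have h7 : n * j ≤ (j * z + 1) * j := Nat.mul_le_mul_right _ (by omega)
  refine Nat.lt_of_mul_lt_mul_right (a := z + 1) ?_
  rw [Nat.succ_eq_add_one] at h1
  nlinarith

theorem Soc.simple (hM : Soc N M) : IsSimpleGroup M ∧ ¬ IsMulCommutative M := by
  exact ⟨hM.b1b_good.simple, hM.b1b_good.ncomm⟩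

theorem Soc.conj (hM : Soc N M) (H : Hyp N) {s t : G} (hs : s ∈ Inv (N a)) (ht : t ∈ Inv M) :
    ∃ m ∈ M, m * s * m⁻¹ = t := by
  obtain ⟨T, hT, -⟩ := exists_fr_mem (H.ben a) hs.1 (El2.of_sq hs.2.1)
  obtain ⟨g, hg, e⟩ := (hM.syl a T hT).1.exists_conj_mem ht.1 (El2.of_sq ht.2.1).pgroup
  obtain ⟨y, hy, e'⟩ := inv_conj (H.ben a) hs (t := g * t * g⁻¹) ⟨hT.le e, (inv_cj ht g).2⟩
  exact ⟨g⁻¹ * y, mul_mem (inv_mem hg) (hM.le a hy), by
    calc g⁻¹ * y * s * (g⁻¹ * y)⁻¹ = g⁻¹ * (y * s * y⁻¹) * g := by group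
      _ = t := by rw [e']; group⟩

theorem Soc.ncard_mul (hM : Soc N M) (H : Hyp N) (a : Ω) {t : G} (ht : t ∈ Inv M) :
    (Inv M).ncard * Nat.card ↥(M ⊓ centralizer ({t} : Set G)) = Nat.card M := by
  have h1 := @ncard_orbit_mul G G _ _ (MulAction.compHom G (MulAut.conj : G →* MulAut G)) M t
  obtain ⟨s, hs⟩ := H.b1b_exists_inv a
  rw [← h1]
  congr 2
  · ext y
    refine ⟨fun hy => ?_, ?_⟩
    · obtain ⟨m, hm, rfl⟩ := hM.conj H hs ht
      obtain ⟨m', hm', rfl⟩ := hM.conj H hs hy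
      refine ⟨m' * m⁻¹, mul_mem hm' (inv_mem hm), ?_⟩
      change m' * m⁻¹ * (m * s * m⁻¹) * (m' * m⁻¹)⁻¹ = _
      group
    · rintro ⟨m, hm, rfl⟩
      have := inv_cj ht m
      rwa [cj_eq_of_mem hm] at this
  · congr 2
    ext g
    rw [mem_inf, mem_inf, mem_centralizer_singleton_iff]
    exact and_congr_right fun _ => mul_inv_eq_iff_eq_mul.symm

theorem Soc.card_mul (hM : Soc N M) (a : Ω) :
    Nat.card Ω * Nat.card ↥(M ⊓ MulAction.stabilizer G a) = Nat.card M := by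
  rw [← ncard_orbit_mul M a, Set.eq_univ_of_forall (s := {y : Ω | ∃ b ∈ M, b • a = y}) (hM.tr a),
    Set.ncard_univ]

theorem Soc.count1 (hM : Soc N M) (H : Hyp N) {t : G} (ht : t ∈ Inv (N a)) :
    Nat.card Ω * (Inv (N a)).ncard = (Inv M).ncard * {c : Ω | t ∈ N c}.ncard := by
  rw [← Set.ncard_univ]
  refine ncard_mul_eq (Set.toFinite _) (Set.toFinite _) (fun c s => s ∈ N c) (fun c _ => ?_)
    fun y hy => ?_
  · obtain ⟨g, rfl⟩ := H.tr a c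
    rw [← b1b_inv g (N a), ← H.conj]
    congr 1
    ext y
    exact ⟨fun h => ⟨h.2, h.1.2⟩, fun h => ⟨⟨hM.le _ h.1, h.2⟩, h.1⟩⟩
  · obtain ⟨m, -, rfl⟩ := hM.conj H ht hy
    rw [← H.b1b_pts m t]
    simp

theorem Hyp.count2 (H : Hyp N) (hab : a ≠ b) {t : G} (ht : t ∈ Inv (N a)) :
    (Nat.card Ω - 1) * (Inv (N a ⊓ N b)).ncard =
      (Inv (N a)).ncard * ({c : Ω | t ∈ N c}.ncard - 1) := by
  have e : Nat.card Ω - 1 = {c : Ω | c ≠ a}.ncard := by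
    rw [← Set.ncard_univ, ← Set.ncard_sdiff_singleton_of_mem (Set.mem_univ a)]
    congr 1
    ext c
    simp
  rw [e]
  refine ncard_mul_eq (Set.toFinite _) (Set.toFinite _) (fun c s => s ∈ N c) (fun c hc => ?_)
    fun y hy => ?_
  · obtain ⟨g, e1, e2⟩ := H.two a b a c hab (Ne.symm hc)
    rw [← b1b_inv g (N a ⊓ N b), cj_inf, ← H.conj, ← H.conj, e1, e2]
    congr 1
    ext y
    exact ⟨fun h => ⟨⟨h.1.1, h.2⟩, h.1.2⟩, fun h => ⟨⟨h.1.1, h.2⟩, h.1.2⟩⟩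
  · obtain ⟨m, -, rfl⟩ := inv_conj (H.ben a) ht hy
    rw [← H.b1b_pts m t, ← Set.ncard_sdiff_singleton_of_mem (a := a) hy.1]
    congr 1
    ext c
    exact ⟨fun h => ⟨h.2, h.1⟩, fun h => ⟨h.2, h.1⟩⟩

theorem Soc.inv_nonempty (hM : Soc N M) (H : Hyp N) (hS : SCl N) (hab : a ≠ b) :
    (Inv (N a ⊓ N b)).Nonempty := by
  by_contra h0
  obtain ⟨hs, hn⟩ := hM.simple
  obtain ⟨s, hs'⟩ := H.b1b_exists_inv a
  refine hM.nb (btype_of_isBenderGroup (Cor.isBenderGroup_of (BenderRed.benderSimple M hn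
    ((MulAction.stabilizer G a).subgroupOf M) (StrEmb.isStronglyEmbedded_of (fun e => ?_)
      ⟨⟨s, hM.le a hs'.1⟩, H.fix a s hs'.1, orderOf_eq_prime (Subtype.ext (by
        simpa [pow_two] using hs'.2.1)) fun e => hs'.2.2 (congrArg Subtype.val e)⟩
      fun t ht h2 g hg => ?_))))
  · obtain ⟨m, hm, e'⟩ := hM.tr a b
    exact hab ((show m • a = a from subgroupOf_eq_top.1 e hm).symm.trans e')
  · by_contra hg'
    have t2 : (t : G) ∈ Inv M := ⟨t.2, congrArg Subtype.val (Invol.mul_self_of_orderOf_two h2),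
      fun e => Invol.ne_one_of_orderOf_two h2 (Subtype.ext e)⟩
    obtain ⟨m, -, e⟩ := hM.conj H hs' t2
    have tI : II N t := e ▸ H.ii_conj ⟨hs'.2.1, hs'.2.2, a, hs'.1⟩ m
    have h3 : ((g : G)⁻¹ * t * g) • a = a := hg
    rw [mul_smul, mul_smul, inv_smul_eq_iff] at h3
    obtain ⟨x, e1, e2⟩ := H.two a ((g : G) • a) a b (Ne.symm hg') hab
    have h4 := inv_cj (X := N a ⊓ N ((g : G) • a)) ⟨⟨hS _ tI a ht, hS _ tI _ h3⟩, t2.2⟩ x
    rw [cj_inf, ← H.conj, ← H.conj, e1, e2] at h4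
    exact h0 ⟨_, h4⟩

theorem Soc.ncard_lt (hM : Soc N M) (H : Hyp N) (hS : SCl N) (a : Ω) :
    (Inv M).ncard < (Inv (N a)).ncard ^ 2 := by
  obtain ⟨b, hb⟩ := H.exists_ne a
  obtain ⟨t, ht⟩ := H.b1b_exists_inv a
  obtain ⟨T, hT⟩ := H.exists_fr a
  have h1 := hM.count1 H ht
  have h2 := H.count2 hb.symm ht
  have h3 := (Set.ncard_pos (Set.toFinite _)).2 (hM.inv_nonempty H hS hb.symm)
  have h4 : 0 < {c : Ω | t ∈ N c}.ncard := (Set.ncard_pos (Set.toFinite _)).2 ⟨a, ht.1⟩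
  have h5 : 2 ≤ (Inv (N a)).ncard := by
    rw [hT.ncard_inv]
    have := hT.four_le
    exact (show 2 ≤ Nat.card (ZZ T) - 1 by omega).trans (Nat.le_mul_of_pos_left _ (by omega))
  exact b1b_arith h1 h2 h3 h4 h5

end CfsgLib.FSet
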