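import Cfsg.Agent.Lib.FSet.FrB
import Cfsg.Agent.Lib.FSet.Tools
import Cfsg.Agent.Lib.QT2.SmTools

/-! Package FRC of plans/FSET1.md: outer involutions. -/

set_option autoImplicit false
set_option linter.unusedSectionVars false

namespace CfsgLib.FSet

open Subgroup Cfsg CfsgLib.Tech CfsgLib.Gold

universe u v

variable {G : Type u} [Group G] [Finite G] {N T : Subgroup G}

theorem Fr.outU (h : Fr N T) {s : G} (hs : s ∈ NN N) (hn : s ∈ NN T) (h2 : s * s = 1)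
    (hne : ¬ ∀ v ∈ ZZ T, s * v = v * s) {v : G} (hv : v ∈ ZZ T) (e : s * v = v * s) :
    ∃ w ∈ ZZ T, v = w * (s * w * s⁻¹) := by
  obtain ⟨k, hk⟩ := h.exists_sg
  exact Holt.aut_comm (fun v hv => (h.mem_ZZ.1 hv).2) hk.sing (NN_le_ZZ T hn)
    (fun v _ => by rw [h2]; exact Commute.one_left v) (hk.ns h hs hn) hne hv e

theorem Fr.outV (h : Fr N T) {s : G} (hs : s ∈ NN N) (hn : s ∈ NN T) (h2 : s * s = 1)
    (ho : ¬ Inr N s) {x : G} (hx : x ∈ T) (e : s * x * s⁻¹ * x⁻¹ ∈ ZZ T) :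
    ∃ u ∈ ZZ T, s * (x * u) * s⁻¹ = (x * u)⁻¹ := by
  obtain ⟨k, hk⟩ := h.exists_sg
  obtain ⟨W, hW⟩ := h.exists_fixSub hn
  have hs' : s⁻¹ = s := inv_eq_of_mul_eq_one_right h2
  have hy : s * k * s⁻¹ * k⁻¹ ∉ T := fun e => by
    obtain ⟨t, ht, e'⟩ := h.ktrick hk hs hn (El2.of_sq h2) e
    exact ho ⟨t, h.le ht, e'⟩
  have hle : W ≤ T := fun x hx => ((hW x).1 hx).1
  have hU : ZZ T ≤ W := fun v hv => (hW v).2 ⟨hv.1,
    mul_mem (conj_mem_of_mem_normalizer (NN_le_ZZ T hn) hv) (inv_mem hv)⟩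
  have hU' : ZZ T ≤ Tech.cj k W := by
    rw [← mem_normalizer_iff_cj.1 (NN_le_ZZ T hk.norm)]
    exact cj_mono k hU
  have hinf : W ⊓ Tech.cj k W = ZZ T := by
    refine le_antisymm (fun z hz => ?_) (le_inf hU hU')
    have h3 := ((hW z).1 hz.1).2
    have h4 := conj_mem_of_mem_normalizer (NN_le_ZZ T hk.norm) ((hW _).1 (mem_cj.1 hz.2)).2
    refine h.freeV (mul_mem (conj_mem_of_mem_normalizer hs hk.mem) (inv_mem hk.mem))
      (mul_mem (mul_mem (mul_mem hn hk.norm) (inv_mem hn)) (inv_mem hk.norm)) hy (hle hz.1) ?_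
    convert mul_mem (conj_mem_of_mem_normalizer (NN_le_ZZ T hn) h4) h3 using 1
    simp only [mul_inv_rev, hs', inv_inv, mul_assoc, mul_inv_cancel_left]
    rw [← mul_assoc s s, h2, one_mul, inv_mul_cancel_left]
  have hc : Nat.card W ^ 2 ≤ Nat.card T * Nat.card (ZZ T) := by
    have h3 := card_mul_relIndex' hU'
    have h4 := card_mul_relIndex' hle
    have h5 : W.relIndex (Tech.cj k W) ≤ W.relIndex T := relIndex_le_of_le_right
      (by rw [← mem_normalizer_iff_cj.1 hk.norm]; exact cj_mono k hle) index_ne_zero_of_finite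
    rw [← inf_relIndex_right, hinf] at h5
    rw [card_cj] at h3
    calc Nat.card W ^ 2 = Nat.card W * (Nat.card (ZZ T) * (ZZ T).relIndex (Tech.cj k W)) := by
          rw [h3, sq]
      _ ≤ Nat.card W * (Nat.card (ZZ T) * W.relIndex T) := by gcongr
      _ = Nat.card T * Nat.card (ZZ T) := by rw [← h4]; ring
  obtain ⟨y, -, hu⟩ := (h.card_fix hn (fun x _ => by simp [h2]) hW).2 hc x ((hW x).2 ⟨hx, e⟩)
  refine ⟨_, hu, ?_⟩
  simp only [mul_inv_rev, hs', inv_inv, mul_assoc, mul_inv_cancel_left]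
  rw [h2, mul_one]

theorem frc_avoid {V W : Subgroup G} (h : 2 * Nat.card V < Nat.card W) (a : G) :
    ∃ w ∈ W, w ∉ V ∧ a * w ∉ V := by
  by_contra hn
  have hc : {w | a * w ∈ V}.ncard = Nat.card V :=
    Nat.card_congr ((Equiv.mulLeft a).subtypeEquiv fun _ => Iff.rfl)
  have h1 : (W : Set G) ⊆ (V : Set G) ∪ {w | a * w ∈ V} := by
    intro w hw
    by_contra h2
    simp only [Set.mem_union, Set.mem_ofPred_eq, not_or] at h2
    exact hn ⟨w, hw, h2.1, h2.2⟩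
  have h2 := (Set.ncard_le_ncard h1 (Set.toFinite _)).trans (Set.ncard_union_le _ _)
  have h3 : (W : Set G).ncard = Nat.card W := rfl
  have h4 : (V : Set G).ncard = Nat.card V := rfl
  omega

theorem Fr.exists_sqrt (h : Fr N T) (hne : ZZ T ≠ T) {s : G} (hs : s ∈ NN N) (hn : s ∈ NN T)
    (h2 : s * s = 1) (ho : ¬ Inr N s) (hc : ∀ v ∈ ZZ T, s * v = v * s) {U : Subgroup G}
    (hi : ∀ a ∈ ZZ T, ∀ b ∈ ZZ T, a ∉ U → b ∉ U → a * b ∈ U) :
    ∃ x ∈ T, x * x ∈ U ∧ x * x ≠ 1 ∧ s * x * s⁻¹ = x⁻¹ := by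
  obtain ⟨W, hW⟩ := h.exists_fixSub hn
  have key : ∀ x ∈ W, x ∉ ZZ T → ∃ z ∈ T, (z * z)⁻¹ = s * x * s⁻¹ * x⁻¹ ∧ z * z ≠ 1 ∧
      s * z * s⁻¹ = z⁻¹ := fun x hx hxU => by
    obtain ⟨hx1, hx2⟩ := (hW x).1 hx
    obtain ⟨u, hu, e⟩ := h.outV hs hn h2 ho hx1 hx2
    refine ⟨x * u, mul_mem hx1 hu.1, ?_, fun e' => hxU ?_, e⟩
    · calc (x * u * (x * u))⁻¹ = s * (x * u) * s⁻¹ * (x * u)⁻¹ := by rw [e, mul_inv_rev]
        _ = s * x * (u * s⁻¹ * u⁻¹) * x⁻¹ := by group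
        _ = _ := by rw [(Commute.inv_left (hc u hu)).symm.eq, mul_inv_cancel_right, mul_assoc s x]
    · simpa using mul_mem (h.mem_ZZ.2 ⟨mul_mem hx1 hu.1, e'⟩) (inv_mem hu)
  have h3 := (h.card_fix hn (fun x _ => by simp [h2]) hW).1
  have h4 := h.eight hne
  have h5 : 2 * Nat.card (ZZ T) < Nat.card W := by
    have : 0 < Nat.card (ZZ T) := Nat.card_pos
    by_contra hlt
    have := Nat.pow_le_pow_left (not_lt.1 hlt) 2
    nlinarith
  obtain ⟨x, hx, hxU, -⟩ := frc_avoid h5 1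
  obtain ⟨y, hy, hyU, hxy⟩ := frc_avoid h5 x
  obtain ⟨a, ha, a1, a2, a3⟩ := key x hx hxU
  obtain ⟨b, hb, b1, b2, b3⟩ := key y hy hyU
  obtain ⟨c, hc', c1, c2, c3⟩ := key _ (mul_mem hx hy) hxy
  by_cases ea : a * a ∈ U
  · exact ⟨a, ha, ea, a2, a3⟩
  by_cases eb : b * b ∈ U
  · exact ⟨b, hb, eb, b2, b3⟩
  refine ⟨c, hc', ?_, c2, c3⟩
  have h6 := hi _ (inv_mem (h.sq_mem ha)) _ (inv_mem (h.sq_mem hb)) (by rwa [inv_mem_iff])
    (by rwa [inv_mem_iff])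
  rw [← inv_mem_iff, c1]
  convert h6 using 1
  have h7 := (FSet.mem_ZZ.1 ((hW y).1 hy).2).2 _ (inv_mem ((hW x).1 hx).1)
  rw [a1, b1, mul_assoc _ x⁻¹, h7]
  group

theorem frc_card (h : Fr N T) (h4 : Nat.card (ZZ T) = 4) (c64 : Nat.card T = 64) {C : Subgroup G}
    (hC : C ≤ ZZ T) (c2 : Nat.card C = 2) : {x | x ∈ T ∧ x * x ∈ C}.ncard = 24 := by
  obtain ⟨k, hk⟩ := h.exists_sg
  obtain ⟨⟨d, hd⟩, hd1, hu⟩ := (Nat.card_eq_two_iff' (1 : C)).1 c2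
  have d1 : d ≠ 1 := fun e => hd1 (Subtype.ext e)
  have h1 : ((T : Set G) \ ZZ T).ncard = 60 := by
    rw [Set.ncard_sdiff (ZZ_le T)]
    change Nat.card T - Nat.card (ZZ T) = 60
    omega
  have h2 := ncard_mul_eq (s := (T : Set G) \ ZZ T) (t := {u | u ∈ ZZ T ∧ u ≠ 1}) (Set.toFinite _)
    (Set.toFinite _) (fun x u => x * x = u) (m := 1)
    (n := {x | x ∈ (T : Set G) \ ZZ T ∧ x * x = d}.ncard) (fun x hx => by
      rw [Set.ncard_eq_one]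
      exact ⟨x * x, Set.eq_singleton_iff_unique_mem.2
        ⟨⟨⟨h.sq_mem hx.1, fun e => hx.2 (h.mem_ZZ.2 ⟨hx.1, e⟩)⟩, rfl⟩, fun y hy => hy.2.symm⟩⟩)
    fun u hu => by
      obtain ⟨j, rfl⟩ := hk.trans h (hC hd) d1 hu.1 hu.2
      have hg := pow_mem hk.norm j
      generalize k ^ j = g at hg
      symm
      refine Set.ncard_congr (fun x _ => g * x * g⁻¹) (fun x hx => ⟨⟨conj_mem_of_mem_normalizer hg
        hx.1.1, fun e => hx.1.2 ?_⟩, by rw [← hx.2]; group⟩) (fun a b _ _ e => by simpa using e)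
        fun y hy => ⟨g⁻¹ * y * g, ⟨⟨conj_mem_of_mem_normalizer' hg hy.1.1, fun e => hy.1.2 ?_⟩, ?_⟩,
          by group⟩
      · simpa [mul_assoc] using conj_mem_of_mem_normalizer' (NN_le_ZZ T hg) e
      · simpa [mul_assoc] using conj_mem_of_mem_normalizer (NN_le_ZZ T hg) e
      · calc g⁻¹ * y * g * (g⁻¹ * y * g) = g⁻¹ * (y * y) * g := by group
          _ = d := by rw [hy.2]; group
  rw [h1, ncard_ne_one, h4] at h2
  have e : {x | x ∈ T ∧ x * x ∈ C} =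
      (ZZ T : Set G) ∪ {x | x ∈ (T : Set G) \ ZZ T ∧ x * x = d} := by
    ext x
    refine ⟨fun hx => ?_, ?_⟩
    · by_cases e : x ∈ ZZ T
      · exact Or.inl e
      · exact Or.inr ⟨⟨hx.1, e⟩, congrArg Subtype.val (hu ⟨_, hx.2⟩
          fun e' => e (h.mem_ZZ.2 ⟨hx.1, congrArg Subtype.val e'⟩))⟩
    · rintro (hx | hx)
      · exact ⟨hx.1, by rw [(h.mem_ZZ.1 hx).2]; exact one_mem _⟩
      · exact ⟨hx.1.1, hx.2 ▸ hd⟩
  have h5 : (ZZ T : Set G).ncard = 4 := h4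
  rw [e, Set.ncard_union_eq (Set.disjoint_left.2 fun x hx hx' => hx'.1.2 hx), h5]
  omega

theorem frc_count (h : Fr N T) {C W : Subgroup G}
    (hI : ∀ a ∈ ZZ T, ∀ b ∈ ZZ T, a * b ∈ C ↔ (a ∈ C ↔ b ∈ C)) (hle : W ≤ T)
    (hWA : ∀ x ∈ W, x * x ∈ C) (c24 : {x | x ∈ T ∧ x * x ∈ C}.ncard = 24) (c64 : Nat.card T = 64)
    (c16 : 16 ≤ Nat.card W) : False := by
  classical
  have hcm : ∀ v ∈ T, ∀ w ∈ W, w⁻¹ * v * w * v⁻¹ ∈ ZZ T := fun v hv w hw => by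
    simpa using h.comm_mem (inv_mem (hle hw)) hv
  have hsq : ∀ v ∈ T, ∀ w ∈ W, w * v * (w * v) ∈ C ↔ (w⁻¹ * v * w * v⁻¹ ∈ C ↔ v * v ∈ C) :=
    fun v hv w hw => by
      rw [← hI _ (hcm v hv w hw) _ (h.sq_mem hv)]
      refine Iff.trans (Eq.to_iff ?_) (mul_mem_cancel_left (hWA w hw))
      congr 1
      group
  have hmul : ∀ v ∈ T, ∀ v' ∈ T, ∀ w ∈ W, w⁻¹ * (v * v') * w * (v * v')⁻¹ =
      w⁻¹ * v * w * v⁻¹ * (w⁻¹ * v' * w * v'⁻¹) := fun v hv v' hv' w hw => by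
    rw [mul_assoc _ v⁻¹, (FSet.mem_ZZ.1 (hcm v' hv' w hw)).2 _ (inv_mem hv)]
    group
  let R : Subgroup G :=
    { carrier := {v | v ∈ T ∧ ∀ w ∈ W, w⁻¹ * v * w * v⁻¹ ∈ C}
      one_mem' := ⟨one_mem _, fun w _ => by simp⟩
      mul_mem' := fun {a b} ha hb => ⟨mul_mem ha.1 hb.1, fun w hw => by
        rw [hmul a ha.1 b hb.1 w hw]; exact mul_mem (ha.2 w hw) (hb.2 w hw)⟩
      inv_mem' := fun {a} ha => ⟨inv_mem ha.1, fun w hw => by
        rw [← mul_mem_cancel_left (ha.2 w hw), ← hmul a ha.1 _ (inv_mem ha.1) w hw]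
        simp⟩ }
  have hWR : W ≤ R := fun v hv => ⟨hle hv, fun w hw =>
    ((hsq v (hle hv) w hw).1 (hWA _ (mul_mem hw hv))).2 (hWA v hv)⟩
  have hRT : R ≤ T := fun v hv => hv.1
  by_cases e : R = T
  · have h1 := dvd_ncard_of_stab W (s := {x | x ∈ T ∧ x * x ∈ C}) (Set.toFinite _)
      (fun w hw x hx => ⟨mul_mem (hle hw) hx.1, (hsq x hx.1 w hw).2
        (iff_of_true ((e.symm.le hx.1).2 w hw) hx.2)⟩) (m := Nat.card W) fun x _ => by simp
    have h2 := Nat.le_of_dvd (by norm_num) (Nat.dvd_gcd (c24 ▸ h1) (c64 ▸ card_dvd_of_le hle))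
    norm_num at h2
    omega
  have c32 : Nat.card R ≤ 32 := by
    have h1 := card_mul_relIndex' hRT
    have h2 : R.relIndex T ≠ 1 := fun e' => e (le_antisymm hRT (relIndex_eq_one.1 e'))
    have h3 : R.relIndex T ≠ 0 := index_ne_zero_of_finite
    have : 2 ≤ R.relIndex T := by omega
    nlinarith
  let ω : G → G := fun v => Classical.epsilon fun w => w ∈ W ∧ w⁻¹ * v * w * v⁻¹ ∉ C
  have hω : ∀ v ∈ T, v ∉ R → ω v ∈ W ∧ (ω v)⁻¹ * v * ω v * v⁻¹ ∉ C := fun v hv hn =>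
    Classical.epsilon_spec (p := fun w => w ∈ W ∧ w⁻¹ * v * w * v⁻¹ ∉ C) (by
      by_contra hc
      exact hn ⟨hv, fun w hw => by_contra fun e => hc ⟨w, hw, e⟩⟩)
  have hω' : ∀ v ∈ T, ∀ a ∈ W, ω (a * v) = ω v := fun v hv a ha =>
    congrArg Classical.epsilon (funext fun w => propext (and_congr_right fun hw => by
      rw [hmul a (hle ha) v hv w hw, mul_mem_cancel_left ((hWR ha).2 w hw)]))
  have h1 : {v | v ∈ (T : Set G) \ R ∧ v * v ∉ C}.ncard ≤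
      {v | v ∈ (T : Set G) \ R ∧ v * v ∈ C}.ncard := by
    refine Set.ncard_le_ncard_of_injOn (fun v => ω v * v) (fun v hv => ?_) fun v hv v' hv' e => ?_
    · obtain ⟨h2, h3⟩ := hω v hv.1.1 hv.1.2
      exact ⟨⟨mul_mem (hle h2) hv.1.1, fun e => hv.1.2 ((mul_mem_cancel_left (hWR h2)).1 e)⟩,
        (hsq v hv.1.1 _ h2).2 (iff_of_false h3 hv.2)⟩
    · have h2 := congrArg ω e
      simp only at e h2
      rw [hω' v hv.1.1 _ (hω v hv.1.1 hv.1.2).1, hω' v' hv'.1.1 _ (hω v' hv'.1.1 hv'.1.2).1] at h2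
      rw [h2] at e
      exact mul_left_cancel e
  have h2 : ((T : Set G) \ R).ncard ≤ {v | v ∈ (T : Set G) \ R ∧ v * v ∉ C}.ncard +
      {v | v ∈ (T : Set G) \ R ∧ v * v ∈ C}.ncard :=
    (Set.ncard_le_ncard (fun v hv => (em (v * v ∈ C)).symm.imp (⟨hv, ·⟩) (⟨hv, ·⟩))
      (Set.toFinite _)).trans (Set.ncard_union_le _ _)
  rw [Set.ncard_sdiff hRT] at h2
  change Nat.card T - Nat.card R ≤ _ at h2
  have h3 : ((W : Set G) ∪ {v | v ∈ (T : Set G) \ R ∧ v * v ∈ C}).ncard ≤ 24 :=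
    c24 ▸ Set.ncard_le_ncard (Set.union_subset (fun x hx => ⟨hle hx, hWA x hx⟩)
      fun x hx => ⟨hx.1.1, hx.2⟩) (Set.toFinite _)
  rw [Set.ncard_union_eq (Set.disjoint_left.2 fun x hx hx' => hx'.1.2 (hWR hx))] at h3
  change Nat.card W + _ ≤ _ at h3
  omega

theorem Fr.cent_of_four (h : Fr N T) (h4 : Nat.card (ZZ T) = 4) (hne : ZZ T ≠ T) {s : G}
    (_hs : s ∈ NN N) (hn : s ∈ NN T) (h2 : s * s = 1) : ∀ v ∈ ZZ T, s * v = v * s := by
  by_contra hs'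
  obtain ⟨W, hW⟩ := h.exists_fixSub hn
  set C := ZZ T ⊓ centralizer ({s} : Set G) with hC
  have hCU : C ≤ ZZ T := inf_le_left
  have c2 : Nat.card C = 2 := by
    have h5 := Holt.card_le_sq (fun v hv => (h.mem_ZZ.1 hv).2) (NN_le_ZZ T hn)
      (fun v _ => by rw [h2]; exact Commute.one_left v)
    have h6 : Nat.card C ∣ 2 ^ 2 := (card_dvd_of_le hCU).trans (by rw [h4]; rfl)
    obtain ⟨i, hi, e⟩ := (Nat.dvd_prime_pow Nat.prime_two).1 h6
    rw [h4, ← hC, e] at h5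
    interval_cases i
    · omega
    · exact e
    · refine (hs' fun v hv => ?_).elim
      rw [← eq_of_le_of_card_ge hCU (by omega)] at hv
      exact (mem_centralizer_singleton_iff.1 hv.2).symm
  have hI : ∀ a ∈ ZZ T, ∀ b ∈ ZZ T, a * b ∈ C ↔ (a ∈ C ↔ b ∈ C) := fun a ha b hb => by
    have h5 := card_mul_relIndex' hCU
    exact mul_mem_iff_of_index_two (H := C.subgroupOf (ZZ T)) (show C.relIndex _ = 2 by
      rw [c2, h4] at h5; omega) (a := ⟨a, ha⟩) (b := ⟨b, hb⟩)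
  have c64 : Nat.card T = 64 := by
    rcases h.tri with ⟨e, -⟩ | ⟨-, -, j, e⟩ | ⟨e, -⟩
    · exact (hne (eq_of_le_of_card_ge (ZZ_le T) e.le)).elim
    · have : 2 ^ 2 = 2 ^ (2 * j + 1) := by rw [← e, h4]; rfl
      have := Nat.pow_right_injective le_rfl this
      omega
    · rw [e, h4]; rfl
  have hle : W ≤ T := fun x hx => ((hW x).1 hx).1
  have c16 : 16 ≤ Nat.card W := by
    have h5 := (h.card_fix hn (fun x _ => by simp [h2]) hW).1
    rw [c64, h4] at h5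
    nlinarith
  have hWA : ∀ x ∈ W, x * x ∈ C := fun x hx => by
    obtain ⟨h5, h6⟩ := (hW x).1 hx
    refine ⟨h.sq_mem h5, mem_centralizer_singleton_iff.2 (mul_inv_eq_iff_eq_mul.1 ?_).symm⟩
    calc s * (x * x) * s⁻¹ = s * x * s⁻¹ * x⁻¹ * (x * (s * x * s⁻¹ * x⁻¹)) * x := by group
      _ = x * x := by
        rw [(FSet.mem_ZZ.1 h6).2 x h5, ← mul_assoc _ _ x, (h.mem_ZZ.1 h6).2, one_mul]
  exact frc_count h hI hle hWA (frc_card h h4 c64 hCU c2) c64 c16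

theorem Fr.exists_odd (h : Fr N T) (he : ZZ T = T) {s : G} (hs : s ∈ NN N) (h2 : s * s = 1)
    (ho : ¬ Inr N s) : ∃ r ∈ N, s * r = r * s ∧ (orderOf r).Prime ∧ orderOf r ≠ 2 := by
  have hc : ∀ P : Sylow 2 N, IsMulCommutative (P : Subgroup N) := fun P => by
    obtain ⟨S, hS, rfl⟩ := fra_of_sylow h.ben P
    obtain ⟨y, -, rfl⟩ := h.exists_cj hS
    refine ⟨⟨fun a b => Subtype.ext (Subtype.ext ?_)⟩⟩
    have hb : ((b : N) : G) ∈ ZZ (Tech.cj y T) := by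
      rw [← cj_ZZ, he]
      exact hS.mem_S.1 b.2
    exact (FSet.mem_ZZ.1 hb).2 _ (hS.mem_S.1 a.2)
  have h3 := QT2.SmT.bt_p3a h.ben hc (autN N hs) (MulEquiv.ext fun x => Subtype.ext (by
      rw [MulAut.mul_apply, coe_autN, coe_autN, MulAut.one_apply]
      calc s * (s * x * s⁻¹) * s⁻¹ = s * s * x * (s * s)⁻¹ := by group
        _ = x := by simp [h2]))
    fun ⟨t, e⟩ => ho ⟨t, t.2, autN_eq_conj hs e.symm⟩
  set C := (autN N hs).toMonoidHom.eqLocus (MonoidHom.id N) with hC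
  have hm : ∀ x : N, x ∈ C ↔ s * x = x * s := fun x => by
    rw [← mul_inv_eq_iff_eq_mul, ← coe_autN hs, ← Subtype.ext_iff]
    rfl
  have h4 : ¬ IsPGroup 2 C := fun hp => by
    obtain ⟨S, hS, hn⟩ := exists_fr_norm h.ben (El2.of_sq h2).pgroup (zpowers_le.2 hs)
    have hne : ⊥ < S := bot_lt_iff_ne_bot.2 fun e => by
      have := hS.four_le.trans (card_le_of_le (ZZ_le S))
      simp [e] at this
    obtain ⟨x, hx, hx1, -, e⟩ := exists_fix_quot hS.two (El2.of_sq h2).pgroup hne hn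
      (by simp [NN])
    have e1 := mem_bot.1 (e s (mem_zpowers s))
    rw [mul_inv_eq_one, mul_inv_eq_iff_eq_mul] at e1
    have h5 : (⟨⟨x, hS.le hx⟩, (hm _).2 e1.symm⟩ : C) ∈ pCore 2 C := by
      rw [Core.pCore_eq_top_iff.2 hp]
      trivial
    rw [h3, mem_bot] at h5
    exact hx1 (congrArg (fun z : C => ((z : N) : G)) h5)
  have h5 : ∃ p : ℕ, p.Prime ∧ p ∣ Nat.card C ∧ p ≠ 2 := by
    by_contra hn
    push Not at hn
    exact h4 (IsPGroup.of_card (Nat.eq_prime_pow_of_unique_prime_dvd Nat.card_pos.ne'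
      fun hp hd => hn _ hp hd))
  obtain ⟨p, hp, hd, hp2⟩ := h5
  have := Fact.mk hp
  obtain ⟨r, hr⟩ := exists_prime_orderOf_dvd_card' p hd
  have e : orderOf ((r : N) : G) = p := by rw [orderOf_coe, orderOf_coe, hr]
  exact ⟨(r : N), (r : N).2, (hm _).1 r.2, e ▸ hp, e ▸ hp2⟩

end CfsgLib.FSet
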