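import Cfsg.Agent.Lib.FSet.B0
import Cfsg.Agent.Lib.FSet.FrC

/-! Package B2E of plans/FSET1.md: `N a ⊓ N b` of even order. -/

set_option autoImplicit false
set_option linter.unusedSectionVars false

namespace CfsgLib.FSet

open Subgroup Cfsg CfsgLib.Tech CfsgLib.Gold

universe u v

variable {G : Type u} {Ω : Type v} [Group G] [Finite G] [Finite Ω] [MulAction G Ω]
  {N : Ω → Subgroup G}

theorem Hyp.b2e_inv (H : Hyp N) {a b : Ω} {s d : G} {T : Subgroup G} (hT : Fr (N b) T) (hs : s ∈ Inv (N b))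
    (e : s • a = a) (hd : d ∈ Inv (N a)) (dT : d ∈ T) (sa : s ∉ N a) {x : G} (xb : x ∈ N b) (xa : x • a = a)
    (x2 : x * x = 1) : x ∈ ZZ T := by
  have hn : N b ⊓ MulAction.stabilizer G a ≤ NN T := by
    by_contra hn
    obtain ⟨y, hy, ey⟩ := hT.one_class inf_le_left hn (s := d) ⟨⟨hT.le dT, H.fix a d hd.1⟩, hd.2⟩ dT (t := s)
      ⟨⟨hs.1, e⟩, hs.2⟩
    have := H.conj_mem hd.1 y
    rw [ey, show y • a = a from hy.2] at this
    exact sa this
  exact hT.mem_ZZ.2 ⟨hT.mem_of_norm xb (hn ⟨xb, xa⟩) (El2.of_sq x2), x2⟩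

theorem Hyp.b2e (H : Hyp N) (hB : ¬ CA N) {a b : Ω} (hab : a ≠ b) {s d : G} (hs : s ∈ Inv (N b))
    (e : s • a = a) (hd : d ∈ Inv (N a)) (hd' : d ∈ N b) : s ∈ N a := by
  by_contra sa
  obtain ⟨T, hT, dT⟩ := exists_fr_mem (H.ben a) hd.1 (El2.of_sq hd.2.1)
  obtain ⟨T', hT', dT'⟩ := exists_fr_mem (H.ben b) hd' (El2.of_sq hd.2.1)
  obtain ⟨r, hr, er, rb⟩ : ∃ r ∈ Inv (N a), r • b = b ∧ r ∉ N b := by
    obtain ⟨g, g1, g2⟩ := H.two a b b a hab hab.symm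
    refine ⟨g * s * g⁻¹, g2 ▸ H.inv_smul hs g, by rw [← g1, mul_smul, mul_smul, inv_smul_smul, e], fun h => sa ?_⟩
    have := H.conj_mem h g⁻¹
    rwa [← g1, inv_smul_smul, show g⁻¹ * (g * s * g⁻¹) * g⁻¹⁻¹ = s by group] at this
  have iU' : ∀ x ∈ N b, x • a = a → x * x = 1 → x ∈ ZZ T' := fun x => H.b2e_inv hT' hs e hd dT' sa
  have iU : ∀ x ∈ N a, x • b = b → x * x = 1 → x ∈ ZZ T := fun x => H.b2e_inv hT hr er ⟨hd', hd.2⟩ dT rb
  have Ua : ∀ x ∈ ZZ T, x ∈ N a := fun x hx => hT.le (ZZ_le T hx)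
  have Ub : ∀ x ∈ ZZ T', x ∈ N b := fun x hx => hT'.le (ZZ_le T' hx)
  have U2 : ∀ x ∈ ZZ T, x * x = 1 := fun x hx => (hT.mem_ZZ.1 hx).2
  have U2' : ∀ x ∈ ZZ T', x * x = 1 := fun x hx => (hT'.mem_ZZ.1 hx).2
  have Uc : ∀ x ∈ ZZ T, ∀ y ∈ T, y * x = x * y := fun x hx => (mem_ZZ.1 hx).2
  have Uc' : ∀ x ∈ ZZ T', ∀ y ∈ T', y * x = x * y := fun x hx => (mem_ZZ.1 hx).2
  have rU : r ∈ ZZ T := iU r hr.1 er hr.2.1
  have sU : s ∈ ZZ T' := iU' s hs.1 e hs.2.1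
  have dU : d ∈ ZZ T := hT.mem_ZZ.2 ⟨dT, hd.2.1⟩
  have dU' : d ∈ ZZ T' := hT'.mem_ZZ.2 ⟨dT', hd.2.1⟩
  have u0 : ∀ x ∈ ZZ T, x ∈ N b → x ∈ ZZ T' := fun x hx h => iU' x h (H.fix a x (Ua x hx)) (U2 x hx)
  have u0' : ∀ x ∈ ZZ T', x ∈ N a → x ∈ ZZ T := fun x hx h => iU x h (H.fix b x (Ub x hx)) (U2' x hx)
  have l6 : ∀ x ∈ ZZ T, x • b = b → x ∉ N b → x * r ∈ N b := fun x hx xb nx =>
    H.l6 hB ⟨Ua x hx, U2 x hx, fun h => nx (h ▸ one_mem _)⟩ hr (Uc r rU x (ZZ_le T hx)) xb er nx rb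
  have l6' : ∀ x ∈ ZZ T', ∀ y ∈ ZZ T', x • a = a → y • a = a → x ∉ N a → y ∉ N a → x * y ∈ N a :=
    fun x hx y hy xa ya nx ny => H.l6 hB ⟨Ub x hx, U2' x hx, fun h => nx (h ▸ one_mem _)⟩
      ⟨Ub y hy, U2' y hy, fun h => ny (h ▸ one_mem _)⟩ (Uc' y hy x (ZZ_le T' hx)) xa ya nx ny
  have key : ∀ x ∈ T', x * r * x⁻¹ * r⁻¹ ∈ ZZ T ⊓ N b → x • a = a := fun x hx hm => by
    have m1 : x * r * x⁻¹ ∈ ZZ T ⊓ MulAction.stabilizer G b := by
      have := mul_mem (show _ ∈ ZZ T ⊓ MulAction.stabilizer G b from ⟨hm.1, H.fix b _ hm.2⟩)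
        (show r ∈ ZZ T ⊓ MulAction.stabilizer G b from ⟨rU, er⟩)
      rwa [inv_mul_cancel_right] at this
    have hn : x ∈ NN (ZZ T ⊓ MulAction.stabilizer G b) := mem_normalizer_of_forall fun u hu => by
      by_cases ub : u ∈ N b
      · rw [Uc' u (u0 u hu.1 ub) x hx, mul_inv_cancel_right]; exact hu
      · have m := mul_mem hu.1 rU
        have c := Uc' _ (u0 _ m (l6 u hu.1 hu.2 ub)) x hx
        have : x * u * x⁻¹ = u * r * (x * r * x⁻¹)⁻¹ := by
          calc x * u * x⁻¹ = x * (u * r) * x⁻¹ * (x * r * x⁻¹)⁻¹ := by group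
            _ = _ := by rw [c]; group
        rw [this]
        exact mul_mem (mul_mem hu ⟨rU, er⟩) (inv_mem m1)
    by_contra hne
    obtain ⟨g, g1, g2⟩ := H.two a (x • a) a b (Ne.symm hne) hab
    have le : cj g (ZZ T ⊓ MulAction.stabilizer G b) ≤ ZZ T ⊓ N b := cj_le_iff.2 fun u hu => by
      have ma : g * u * g⁻¹ ∈ N a := g1 ▸ H.conj_mem (Ua u hu.1) g
      have mb : g * u * g⁻¹ ∈ N b := by
        have := H.conj_mem (H.conj_mem (Ua _ (conj_mem_of_mem_normalizer' hn hu).1) x) g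
        rwa [g2, show x * (x⁻¹ * u * x) * x⁻¹ = u by group] at this
      exact ⟨iU _ ma (H.fix b _ mb) (by
        rw [show g * u * g⁻¹ * (g * u * g⁻¹) = g * (u * u) * g⁻¹ by group, U2 u hu.1]; group), mb⟩
    have le2 : ZZ T ⊓ N b ≤ ZZ T ⊓ MulAction.stabilizer G b := fun u hu => ⟨hu.1, H.fix b u hu.2⟩
    have := eq_of_le_of_card_ge le2 (by rw [← card_cj g]; exact card_le_of_le le)
    exact rb (this.ge ⟨rU, er⟩).2
  have rN : r ∈ NN (N b) := H.norm er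
  have rT' : r ∈ NN T' := hT'.norm_of_conj rN dT' hd.2.2 (by
    rw [Uc d dU r (ZZ_le T rU), mul_inv_cancel_right]; exact dT')
  have ne : (∀ x ∈ ZZ T', x • a = a) → ZZ T' ≠ T' := fun h e => hab (H.only_fix hB hT' fun t ht => h t (e.ge ht))
  have rinv : r⁻¹ = r := inv_eq_of_mul_eq_one_right hr.2.1
  by_cases hc : ∀ v ∈ ZZ T', r * v = v * r
  · have fa : ∀ x ∈ ZZ T', x • a = a := fun x hx => key x (ZZ_le T' hx) (by
      rw [← hc x hx, mul_inv_cancel_right, mul_inv_cancel]; exact one_mem _)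
    obtain ⟨x, xT, x2, x1, ex⟩ := hT'.exists_sqrt (ne fa) rN rT' hr.2.1 (H.l5 hB ⟨hr.2.1, hr.2.2, a, hr.1⟩ rb) hc
      (U := ZZ T ⊓ N b) fun x hx y hy nx ny => by
        have m := l6' x hx y hy (fa x hx) (fa y hy) (fun h => nx ⟨u0' x hx h, Ub x hx⟩)
          fun h => ny ⟨u0' y hy h, Ub y hy⟩
        exact ⟨u0' _ (mul_mem hx hy) m, Ub _ (mul_mem hx hy)⟩
    have xa : x • a = a := key x xT (by
      rw [show x * r * x⁻¹ * r⁻¹ = x * (r * x * r⁻¹)⁻¹ by group, ex, inv_inv]; exact x2)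
    have st : ∀ z ∈ T', z • a = a → Inr (N a) z → z * r = r * z := fun z hz za hi => by
      obtain ⟨t, ht, hc⟩ := hT.mem_of_inr hi (hT.norm_of_conj (H.norm za) dT hd.2.2 (by
        rw [Uc' d dU' z hz, mul_inv_cancel_right]; exact dT)) (El2.of_mem hT'.two hz)
      calc z * r = t * (t⁻¹ * z * r) := by group
        _ = t * r * (t⁻¹ * z) := by rw [← mem_CC.1 hc r hr.1, mul_assoc]
        _ = r * z := by rw [Uc r rU t ht]; group
    have nx : x * r ≠ r * x := fun h => x1 (by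
      rw [← h, mul_inv_cancel_right] at ex
      nth_rewrite 1 [ex]; exact inv_mul_cancel x)
    have := st _ (mul_mem xT (ZZ_le T' sU)) (by rw [mul_smul, e, xa])
      (cyc (H.ben a) (P := T' ⊓ MulAction.stabilizer G a) (hT'.two.to_le inf_le_left) (fun g hg => H.norm hg.2)
        ⟨xT, xa⟩ ⟨ZZ_le T' sU, e⟩ (fun h => nx (st x xT xa h)) (H.l5 hB ⟨hs.2.1, hs.2.2, b, hs.1⟩ sa)
        (Inr.of_mem (Ua _ x2.1)) (hs.2.1 ▸ Inr.of_mem (one_mem _)))
    rw [mul_assoc, ← hc s sU, ← mul_assoc, ← mul_assoc, mul_left_inj] at this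
    exact nx this
  · have cm : ∀ v ∈ ZZ T', v ∈ N a → r * v = v * r := fun v hv h => Uc v (u0' v hv h) r (ZZ_le T rU)
    have one : ∀ v ∈ ZZ T', v ∈ N a → v ≠ 1 → v = s * (r * s * r⁻¹) := fun v hv va v1 => by
      obtain ⟨w, hw, ev⟩ := hT'.outU rN rT' hr.2.1 hc hv (cm v hv va)
      have wa : w • a = a := key w (ZZ_le T' hw) (by
        rw [inv_eq_of_mul_eq_one_right (U2' w hw), show w * r * w * r⁻¹ = w * (r * w * r⁻¹) by group, ← ev]
        exact ⟨u0' v hv va, Ub v hv⟩)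
      have wn : w ∉ N a := fun h => v1 (by rw [ev, cm w hw h, mul_inv_cancel_right, U2' w hw])
      have m := mul_mem hw sU
      have c1 := cm _ m (l6' w hw s sU wa e wn sa)
      have c2 := Uc' _ m s (ZZ_le T' sU)
      have ew : w = w * s * s := by rw [mul_assoc, hs.2.1, mul_one]
      have q := U2' _ m
      rw [ev, ew]
      generalize w * s = u at c1 c2 q
      calc u * s * (r * (u * s) * r⁻¹) = u * (s * (r * u)) * s * r⁻¹ := by group
        _ = u * u * (s * (r * s * r⁻¹)) := by rw [c1, ← mul_assoc s, c2]; group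
        _ = _ := by rw [q, one_mul]
    have ns : r * s ≠ s * r := fun h => hd.2.2 (by
      rw [one d dU' hd.1 hd.2.2, h, mul_inv_cancel_right, hs.2.1])
    have cen : ∀ x ∈ ZZ T', r * x = x * r → x ∈ N a := fun x hx h => by
      by_contra nx
      have xa : x • a = a := key x (ZZ_le T' hx) (by
        rw [← h, mul_inv_cancel_right, mul_inv_cancel]; exact one_mem _)
      have c1 := cm _ (mul_mem hx sU) (l6' x hx s sU xa e nx sa)
      rw [← mul_assoc, h, mul_assoc, mul_assoc, mul_right_inj] at c1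
      exact ns c1
    have fa : ∀ x ∈ ZZ T', x • a = a := fun x hx => key x (ZZ_le T' hx) (by
      have m1 := conj_mem_of_mem_normalizer (NN_le_ZZ T' rT') (inv_mem hx)
      have m : x * r * x⁻¹ * r⁻¹ ∈ ZZ T' := by
        have := mul_mem hx m1
        rwa [← mul_assoc, ← mul_assoc] at this
      refine ⟨u0' _ m (cen _ m ?_), Ub _ m⟩
      have c := Uc' _ m1 x (ZZ_le T' hx)
      rw [inv_eq_of_mul_eq_one_right (U2' x hx), rinv] at c ⊢
      calc r * (x * r * x * r) = r * x * r * x * r := by group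
        _ = _ := by rw [← c]; group)
    have h2 : Nat.card ↥(ZZ T' ⊓ centralizer {r}) ≤ 2 := by
      have : ((ZZ T' ⊓ centralizer {r} : Subgroup G) : Set G) ⊆ {1, d} := fun x hx => by
        by_cases x1 : x = 1
        · exact .inl x1
        · exact .inr ((one x hx.1 (cen x hx.1 (mem_centralizer_singleton_iff.1 hx.2).symm) x1).trans
            (one d dU' hd.1 hd.2.2).symm)
      exact (Set.ncard_le_ncard this).trans ((Set.ncard_insert_le _ _).trans (by simp))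
    have hsq := Holt.card_le_sq U2' (NN_le_ZZ T' rT') (fun v _ => by rw [hr.2.1]; exact Commute.one_left v)
    exact hc (hT'.cent_of_four (le_antisymm (hsq.trans (by nlinarith)) hT'.four_le) (ne fa) rN rT' hr.2.1)

end CfsgLib.FSet
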