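import Cfsg.Agent.Lib.FSet.B0
import Cfsg.Agent.Lib.FSet.FrC
import Cfsg.Agent.Lib.Gold.App3

/-! Package B2O of plans/FSET1.md: `N a ⊓ N b` of odd order. -/

set_option autoImplicit false
set_option linter.unusedSectionVars false

namespace CfsgLib.FSet

open Subgroup Cfsg CfsgLib.Tech CfsgLib.Gold

universe u v

variable {G : Type u} {Ω : Type v} [Group G] [Finite G] [Finite Ω] [MulAction G Ω]
  {N : Ω → Subgroup G}

theorem b2o_card_le {A : Subgroup G} {d : G} (h : ∀ x ∈ A, x = 1 ∨ x = d) : Nat.card A ≤ 2 := by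
  have : (A : Set G) ⊆ {1, d} := fun x hx => h x hx
  exact (Set.ncard_le_ncard this).trans ((Set.ncard_insert_le _ _).trans (by simp))

theorem Hyp.b2o (H : Hyp N) (hB : ¬ CA N) {a b : Ω} (hab : a ≠ b) {s : G} (hs : s ∈ Inv (N b))
    (e : s • a = a) (ho : ∀ d ∈ Inv (N a), d ∉ N b) : False := by
  have ho' : ∀ c d, c ≠ d → ∀ t ∈ Inv (N c), t ∉ N d := fun c d hcd t ht hd => by
    obtain ⟨g, g1, g2⟩ := H.two c d a b hcd hab
    exact ho _ (g1 ▸ H.inv_smul ht g) (g2 ▸ H.conj_mem hd g)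
  have cf : ∀ c, ∀ t ∈ Inv (N c), ∀ g, g * t = t * g → g • c = c := fun c t ht g hg => by
    by_contra hne
    refine ho' c _ (Ne.symm hne) t ht ?_
    have := H.conj_mem ht.1 g
    rwa [hg, mul_inv_cancel_right] at this
  have sa : s ∉ N a := ho' b a hab.symm s hs
  obtain ⟨T, hT, hn⟩ := exists_fr_norm (H.ben a) (El2.of_sq hs.2.1).pgroup (zpowers_le.2 (H.norm e))
  have sT : s ∈ NN T := hn (mem_zpowers s)
  have inv : ∀ x ∈ ZZ T, x ≠ 1 → x ∈ Inv (N a) := fun x hx h1 => ⟨hT.le (ZZ_le T hx), (hT.mem_ZZ.1 hx).2, h1⟩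
  have h4 := hT.four_le
  have hsq := Holt.card_le_sq (fun v hv => (hT.mem_ZZ.1 hv).2) (NN_le_ZZ T sT)
    (fun v _ => by rw [hs.2.1]; exact Commute.one_left v)
  obtain ⟨t, ⟨tU, ts⟩, t1⟩ : ∃ t ∈ ZZ T ⊓ centralizer {s}, t ≠ 1 := by
    by_contra hc
    push Not at hc
    rw [(eq_bot_iff_forall _).2 hc, card_bot] at hsq
    omega
  replace ts : t * s = s * t := mem_centralizer_singleton_iff.1 ts
  have ti := inv t tU t1
  have tb : t • b = b := cf b s hs t ts
  have h2 : Nat.card ↥(ZZ T ⊓ centralizer {s}) ≤ 2 := b2o_card_le (d := t) fun x hx => by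
    by_cases x1 : x = 1
    · exact .inl x1
    have xi := inv x hx.1 x1
    have xt : x * t = t * x := (mem_ZZ.1 tU).2 x (ZZ_le T hx.1)
    have m := H.l6 hB xi ti xt (cf b s hs x (mem_centralizer_singleton_iff.1 hx.2)) tb (ho x xi) (ho t ti)
    by_cases h1 : x * t = 1
    · exact .inr (by rw [eq_inv_of_mul_eq_one_left h1, inv_eq_of_mul_eq_one_right ti.2.1])
    · exact absurd m (ho _ (inv _ (mul_mem hx.1 tU) h1))
  have q4 : Nat.card (ZZ T) = 4 := le_antisymm (hsq.trans (by nlinarith)) h4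
  have UT : ZZ T = T := by
    by_contra hne
    have := hT.cent_of_four q4 hne (H.norm e) sT hs.2.1
    rw [inf_eq_left.2 fun v hv => mem_centralizer_singleton_iff.2 (this v hv).symm] at h2
    omega
  have T4 : Nat.card T = 4 := by rw [← UT]; exact q4
  have n60 : Nat.card (N a) = 60 := by
    have := hT.tri
    rw [q4, T4] at this
    rcases this with ⟨-, h⟩ | ⟨h, -⟩ | ⟨h, -⟩
    · exact h
    · omega
    · omega
  obtain ⟨T', hT'⟩ := H.exists_fr b
  obtain ⟨c1, c2, -⟩ := H.card_eq hT hT'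
  obtain ⟨r, rb, rt, rp, r2⟩ := hT'.exists_odd (eq_of_le_of_card_ge (ZZ_le T') (by omega)) (H.norm tb) ti.2.1
    (H.l5 hB ⟨ti.2.1, t1, a, ti.1⟩ (ho t ti))
  have ra : r • a = a := cf a t ti r rt.symm
  have tT : t ∈ T := ZZ_le T tU
  have rT : r ∈ NN T := hT.norm_of_conj (H.norm ra) tT t1 (by rw [← rt, mul_inv_cancel_right]; exact tT)
  have ro : Odd (orderOf r) := rp.odd_of_ne_two r2
  have rc : r ∈ CC (N a) := hT.odd_cent (H.norm ra) ro (mem_CC.2 fun v hv => by
    have hi : (zpowers t).relIndex T = 2 := by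
      have := card_mul_relIndex' (zpowers_le.2 tT)
      rw [Nat.card_zpowers, orderOf_eq_prime (p := 2) (by rw [sq, ti.2.1]) t1, T4] at this
      omega
    have cz : ∀ w ∈ zpowers t, r * w = w * r := fun w hw =>
      mem_centralizer_singleton_iff.1 ((zpowers_le (H := centralizer {r})).2
        (mem_centralizer_singleton_iff.2 rt) hw) |>.symm
    have m : r * v * r⁻¹ * v⁻¹ ∈ zpowers t := by
      have := (mul_mem_iff_of_index_two hi (a := ⟨_, conj_mem_of_mem_normalizer rT hv⟩) (b := ⟨_, inv_mem hv⟩)).2 (by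
        simp only [mem_subgroupOf, inv_mem_iff]
        constructor
        · intro h
          have := cz _ h
          rw [mul_assoc, mul_assoc, mul_assoc, mul_right_inj, inv_mul_cancel, mul_one] at this
          rwa [mul_assoc, this] at h
        · intro h
          rwa [cz _ h, mul_inv_cancel_right])
      exact this
    exact (App.comm_of_odd ro (isPGroup_zpowers_of_mem hT.two (zpowers_le.2 tT m)) (by group) (cz _ m)).symm)
  obtain ⟨x, xa, xb⟩ := H.moves hab.symm
  obtain ⟨g, g1, g2⟩ := H.two (x • b) b a b xb hab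
  obtain ⟨k, k1, k2⟩ := H.two a b b a hab hab.symm
  have da : g * r * g⁻¹ ∈ N a := g1 ▸ H.conj_mem (H.l3 rb rc xa) g
  have db : g * r * g⁻¹ ∈ N b := g2 ▸ H.conj_mem rb g
  have ea : k * r * k⁻¹ ∈ N a := k2 ▸ H.conj_mem rb k
  have eb : k * r * k⁻¹ ∈ CC (N b) := k1 ▸ H.conj_mem_CC rc k
  have od : orderOf (g * r * g⁻¹) = orderOf r := (MulAut.conj g).orderOf_eq r
  have oe : orderOf (k * r * k⁻¹) = orderOf r := (MulAut.conj k).orderOf_eq r
  generalize g * r * g⁻¹ = d at da db od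
  generalize k * r * k⁻¹ = f at ea eb oe
  generalize orderOf r = p at rp r2 od oe
  haveI := Fact.mk rp
  have hP : IsPGroup p (zpowers f ⊔ zpowers d : Subgroup G) :=
    (isPGroup_zpowers_iff.2 ⟨1, by rw [oe, pow_one]⟩).to_sup_of_normal_right'
      (isPGroup_zpowers_iff.2 ⟨1, by rw [od, pow_one]⟩) (zpowers_le.2 (mem_normalizer_of_forall fun w hw => by
        rw [← mem_CC.1 eb w (zpowers_le.2 db hw), mul_inv_cancel_right]; exact hw))
  obtain ⟨n, hn⟩ := IsPGroup.iff_card.1 hP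
  have lt : zpowers d < zpowers f ⊔ zpowers d := lt_of_le_of_ne le_sup_right fun e => by
    have f1 := bt_eq_one (H.ben b) (zpowers_le.2 db (e ▸ mem_sup_left (mem_zpowers f))) eb
    rw [f1, orderOf_one] at oe
    exact rp.one_lt.ne oe
  have l2 : Nat.card (zpowers d) < Nat.card (zpowers f ⊔ zpowers d : Subgroup G) :=
    lt_of_not_ge fun hge => lt.ne (eq_of_le_of_card_ge lt.le hge)
  have dv := card_dvd_of_le (sup_le (zpowers_le.2 ea) (zpowers_le.2 da))
  rw [Nat.card_zpowers, od, hn] at l2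
  rw [hn, n60] at dv
  have n2 : 2 ≤ n := by
    by_contra hlt
    have : n = 0 ∨ n = 1 := by omega
    rcases this with rfl | rfl
    · exact absurd l2 (by have := rp.one_lt; simp; omega)
    · simp at l2
  have dv2 : p ^ 2 ∣ 60 := (pow_dvd_pow p n2).trans dv
  have p8 : p < 8 := by
    have := Nat.le_of_dvd (by norm_num) dv2
    nlinarith
  have := rp.two_le
  interval_cases p <;> simp_all (config := { decide := true })

end CfsgLib.FSet
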