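import Mathlib
import Cfsg.Agent.Lib.Gold.Defs
import Cfsg.Agent.Lib.Tech.SylowIn

/-! Vocabulary for doubly transitive groups in which the stabilizer of a point has a normal
subgroup `PSL₂(2^m)`, `Sz(2^m)` or `PSU₃(2^m)` (see plans/FSET1.md). -/

set_option autoImplicit false

namespace CfsgLib.FSet

open Subgroup Cfsg CfsgLib.Tech CfsgLib.Gold

universe u v

section grp

variable {G : Type u} [Group G]

/-- the normalizer -/
abbrev NN (T : Subgroup G) : Subgroup G := normalizer (T : Set G)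

/-- the centralizer -/
abbrev CC (T : Subgroup G) : Subgroup G := centralizer (T : Set G)

/-- the centre of `T`, as a subgroup of the ambient group -/
def ZZ (T : Subgroup G) : Subgroup G := T ⊓ CC T

/-- `x ∈ N C(N)` -/
def Inr (N : Subgroup G) (x : G) : Prop := ∃ y ∈ N, y⁻¹ * x ∈ CC N

/-- `x` is a `2`-element -/
def El2 (x : G) : Prop := ∃ k : ℕ, x ^ 2 ^ k = 1

/-- `N` is `PSL₂(2^m)`, `Sz(2^m)` or `PSU₃(2^m)`, and `T` is a Sylow `2`-subgroup of `N` -/
structure Fr (N T : Subgroup G) : Prop where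
  ben : BType N
  syl : IsSylowIn 2 T N

/-- `h` generates `N_N(T)` modulo `T` and is a Singer cycle on `Z(T)` -/
structure Sg (N T : Subgroup G) (h : G) : Prop where
  mem : h ∈ N
  norm : h ∈ NN T
  sing : Sing (ZZ T) ⊥ h
  gen : ∀ y ∈ N, y ∈ NN T → ∃ t ∈ T, ∃ k : ℕ, y = t * h ^ k

/-- Two Sylow subgroups `T`, `S` (of two groups `N`, `M`) on two lines fixed by an involution:
`A₀ = T ⊓ NN S` and `A₁ = S ⊓ NN T` centralize each other. -/
structure Pair (N T M S : Subgroup G) : Prop where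
  fT : Fr N T
  fS : Fr M S
  card : Nat.card T = Nat.card S
  cardZ : Nat.card (ZZ T) = Nat.card (ZZ S)
  comm : ∀ x ∈ T, x ∈ NN S → ∀ a ∈ S, a ∈ NN T → Commute x a
  centT : ∀ a ∈ S, a ∈ NN T → a ≠ 1 → ∀ x ∈ T, Commute x a → x ∈ NN S
  centS : ∀ x ∈ T, x ∈ NN S → x ≠ 1 → ∀ a ∈ S, Commute x a → a ∈ NN T
  neT : ¬ T ≤ NN S
  neS : ¬ S ≤ NN T
  ntT : ∃ x ∈ T, x ∈ NN S ∧ x ≠ 1
  ntS : ∃ a ∈ S, a ∈ NN T ∧ a ≠ 1

theorem Pair.symm {N T M S : Subgroup G} (h : Pair N T M S) : Pair M S N T where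
  fT := h.fS
  fS := h.fT
  card := h.card.symm
  cardZ := h.cardZ.symm
  comm := fun a ha ha' x hx hx' => (h.comm x hx hx' a ha ha').symm
  centT := fun x hx hx' h1 a ha e => h.centS x hx hx' h1 a ha e.symm
  centS := fun a ha ha' h1 x hx e => h.centT a ha ha' h1 x hx e.symm
  neT := h.neS
  neS := h.neT
  ntT := h.ntS
  ntS := h.ntT

theorem mem_ZZ {T : Subgroup G} {v : G} : v ∈ ZZ T ↔ v ∈ T ∧ ∀ t ∈ T, t * v = v * t := by
  simp [ZZ, mem_centralizer_iff]

theorem ZZ_le (T : Subgroup G) : ZZ T ≤ T := inf_le_left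

theorem mem_CC {T : Subgroup G} {v : G} : v ∈ CC T ↔ ∀ t ∈ T, t * v = v * t := by
  simp [mem_centralizer_iff]

theorem cj_ZZ (g : G) (T : Subgroup G) : cj g (ZZ T) = ZZ (cj g T) := by
  rw [ZZ, cj_inf, cj_centralizer]; rfl

theorem NN_le_ZZ (T : Subgroup G) : NN T ≤ NN (ZZ T) := fun g hg => by
  rw [mem_normalizer_iff_cj] at hg ⊢
  rw [cj_ZZ, hg]

theorem El2.of_sq {x : G} (h : x * x = 1) : El2 x := ⟨1, by simpa [pow_two] using h⟩

theorem El2.of_mem {P : Subgroup G} (hP : IsPGroup 2 P) {x : G} (hx : x ∈ P) : El2 x :=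
  isPGroup_iff_mem.1 hP x hx

theorem El2.pgroup {x : G} (h : El2 x) : IsPGroup 2 (zpowers x) :=
  h.elim fun _ hk => isPGroup_zpowers_of_pow hk

theorem Inr.of_mem {N : Subgroup G} {x : G} (hx : x ∈ N) : Inr N x :=
  ⟨x, hx, by simp⟩

theorem Inr.of_cent {N : Subgroup G} {x : G} (hx : x ∈ CC N) : Inr N x :=
  ⟨1, one_mem _, by simpa using hx⟩

end grp

section perm

variable {G : Type u} {Ω : Type v} [Group G] [MulAction G Ω]

/-- `G` has a regular normal subgroup -/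
def RNS (G : Type u) (Ω : Type v) [Group G] [MulAction G Ω] : Prop :=
  ∃ R : Subgroup G, R.Normal ∧ (∀ x y : Ω, ∃ r ∈ R, r • x = y) ∧
    ∀ x : Ω, ∀ r ∈ R, r • x = x → r = 1

/-- `G` is faithful and doubly transitive, `N c ⊴ G_c` is a family of conjugate subgroups -/
structure Hyp (N : Ω → Subgroup G) : Prop where
  faith : ∀ g : G, (∀ c : Ω, g • c = c) → g = 1
  two : ∀ a b c d : Ω, a ≠ b → c ≠ d → ∃ g : G, g • a = c ∧ g • b = d
  fix : ∀ c : Ω, ∀ y ∈ N c, y • c = c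
  conj : ∀ (g : G) (c : Ω), N (g • c) = cj g (N c)
  ben : ∀ c : Ω, BType (N c)

/-- `s` is an involution of one of the groups `N c` -/
def II (N : Ω → Subgroup G) (s : G) : Prop := s * s = 1 ∧ s ≠ 1 ∧ ∃ c : Ω, s ∈ N c

/-- case A: a Sylow `2`-subgroup of `N a` fixes a second point -/
def CA (N : Ω → Subgroup G) : Prop :=
  ∃ (a b : Ω) (T : Subgroup G), a ≠ b ∧ Fr (N a) T ∧ ∀ t ∈ T, t • b = b

/-- any two of the groups `N c` have a common Sylow `2`-subgroup -/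
def LS (N : Ω → Subgroup G) : Prop :=
  ∀ c d : Ω, c ≠ d → ∃ T : Subgroup G, Fr (N c) T ∧ Fr (N d) T

/-- the points of the line `T` -/
def Pt (N : Ω → Subgroup G) (T : Subgroup G) : Set Ω := {c | Fr (N c) T}

/-- case B1: an involution conjugate to one of `N c` lies in `N a` for each fixed point `a` -/
def SCl (N : Ω → Subgroup G) : Prop := ∀ s : G, II N s → ∀ a : Ω, s • a = a → s ∈ N a

/-- the socle in case B1 -/
structure Soc (N : Ω → Subgroup G) (M : Subgroup G) : Prop where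
  normal : M.Normal
  le : ∀ c : Ω, N c ≤ M
  tr : ∀ c d : Ω, ∃ m ∈ M, m • c = d
  ab2 : Abel2.Ab2 M
  known : Abel2.IsPSLOdd M ∨ Abel2.IsJR M
  nb : ¬ BType M
  syl : ∀ (c : Ω) (T : Subgroup G), Fr (N c) T → IsSylowIn 2 T M ∧ ZZ T = T

/-- the involutions of `X` -/
def Inv (X : Subgroup G) : Set G := {s | s ∈ X ∧ s * s = 1 ∧ s ≠ 1}

end perm

end CfsgLib.FSet
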