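import Cfsg.Agent.Lib.FSet.Defs
import Cfsg.Agent.Lib.Gold.BT4
import Cfsg.Agent.Lib.Gold.Top
import Cfsg.Agent.Lib.PD.Tri

/-! Package FRA of plans/FSET1.md: the properties of `Gold.BType`, inside an ambient group. -/

set_option autoImplicit false
set_option linter.unusedSectionVars false

namespace CfsgLib.FSet

open Subgroup Cfsg CfsgLib.Tech CfsgLib.Gold

universe u v

variable {G : Type u} [Group G] [Finite G] {N T T' : Subgroup G}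

theorem Fr.le (h : Fr N T) : T ≤ N := h.syl.le

theorem Fr.two (h : Fr N T) : IsPGroup 2 T := h.syl.pgroup

/-- `T` as a Sylow subgroup of `N` -/
def Fr.S (h : Fr N T) : Sylow 2 N := h.syl.toSylow

theorem Fr.coe_S (h : Fr N T) : (h.S : Subgroup N) = T.subgroupOf N := h.syl.coe_toSylow

theorem Fr.mem_S (h : Fr N T) {x : N} : x ∈ (h.S : Subgroup N) ↔ (x : G) ∈ T := by
  rw [h.coe_S, mem_subgroupOf]

theorem Fr.mem_om (h : Fr N T) {x : N} : x ∈ omegaOne 2 (h.S : Subgroup N) ↔ (x : G) ∈ ZZ T := by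
  rw [← h.ben.center_eq h.S, mem_inf, h.mem_S, FSet.mem_ZZ, mem_centralizer_iff]
  refine and_congr_right fun _ => ⟨fun e t ht => ?_, fun e t ht => Subtype.ext (e _ (h.mem_S.1 ht))⟩
  exact congrArg Subtype.val (e ⟨t, h.le ht⟩ (h.mem_S.2 ht))

theorem Fr.om_eq (h : Fr N T) : omegaOne 2 (h.S : Subgroup N) = (ZZ T).subgroupOf N := by
  ext x
  rw [h.mem_om, mem_subgroupOf]

theorem fra_card {A : Subgroup G} (hA : A ≤ N) : Nat.card (A.subgroupOf N) = Nat.card A :=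
  Nat.card_congr (subgroupOfEquivOfLe hA).toEquiv

theorem Fr.card_S (h : Fr N T) : Nat.card (h.S : Subgroup N) = Nat.card T := by
  rw [h.coe_S, fra_card h.le]

theorem Fr.card_om (h : Fr N T) :
    Nat.card (omegaOne 2 (h.S : Subgroup N)) = Nat.card (ZZ T) := by
  rw [h.om_eq, fra_card ((ZZ_le T).trans h.le)]

theorem fra_norm {A : Subgroup G} (hA : A ≤ N) {y : N} :
    y ∈ normalizer ((A.subgroupOf N : Subgroup N) : Set N) ↔ (y : G) ∈ NN A := by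
  refine ⟨fun hy => mem_normalizer_of_forall fun x hx => ?_,
    fun hy => mem_normalizer_of_forall fun x hx => ?_⟩
  · have := conj_mem_of_mem_normalizer hy (show (⟨x, hA hx⟩ : N) ∈ A.subgroupOf N from hx)
    exact this
  · have := conj_mem_of_mem_normalizer hy (show (x : G) ∈ A from hx)
    exact this

theorem Fr.mem_norm_S (h : Fr N T) {y : N} :
    y ∈ normalizer ((h.S : Subgroup N) : Set N) ↔ (y : G) ∈ NN T := by
  rw [h.coe_S, fra_norm h.le]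

theorem Fr.S_eq_iff (h : Fr N T) (h' : Fr N T') : h.S = h'.S ↔ T = T' := by
  refine ⟨fun e => ?_, fun e => by subst e; rfl⟩
  rw [← h.syl.map_toSylow, ← h'.syl.map_toSylow]
  exact congrArg (fun P : Sylow 2 N => (P : Subgroup N).map N.subtype) e

theorem fra_of_sylow (h : BType N) (P : Sylow 2 N) :
    ∃ (S : Subgroup G) (hS : Fr N S), hS.S = P := by
  refine ⟨_, ⟨h, IsSylowIn.of_sylow_subgroup P⟩, Sylow.ext ?_⟩
  rw [Fr.coe_S, subgroupOf, comap_map_eq_self_of_injective N.subtype_injective]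

/-- the automorphism of `N` induced by `g` -/
def autN (N : Subgroup G) {g : G} (hg : g ∈ NN N) : MulAut N := N.normalizerMonoidHom ⟨g, hg⟩

theorem coe_autN {g : G} (hg : g ∈ NN N) (x : N) : (autN N hg x : G) = g * x * g⁻¹ := rfl

theorem autN_eq_conj {g : G} (hg : g ∈ NN N) {t : N} (e : autN N hg = MulAut.conj t) :
    (t : G)⁻¹ * g ∈ CC N := mem_CC.2 fun x hx => by
  have h1 := congrArg (fun φ : MulAut N => (φ ⟨x, hx⟩ : G)) e
  simp only [coe_autN, MulAut.conj_apply, coe_mul, InvMemClass.coe_inv] at h1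
  calc x * ((t : G)⁻¹ * g) = (t : G)⁻¹ * (t * x * (t : G)⁻¹) * g := by group
    _ = (t : G)⁻¹ * g * x := by rw [← h1]; group

theorem Fr.mem_ZZ (h : Fr N T) {v : G} : v ∈ ZZ T ↔ v ∈ T ∧ v * v = 1 := by
  refine ⟨fun hv => ?_, fun ⟨hv, e⟩ => ?_⟩
  · have := (h.ben.mem_omega h.S).1 ((h.mem_om (x := ⟨v, h.le hv.1⟩)).2 hv)
    exact ⟨hv.1, congrArg Subtype.val this.2⟩
  · exact (h.mem_om (x := ⟨v, h.le hv⟩)).1
      ((h.ben.mem_omega h.S).2 ⟨h.mem_S.2 hv, Subtype.ext e⟩)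

theorem Fr.four_le (h : Fr N T) : 4 ≤ Nat.card (ZZ T) := h.card_om ▸ h.ben.four_le h.S

theorem Fr.sq_mem (h : Fr N T) {t : G} (ht : t ∈ T) : t * t ∈ ZZ T :=
  (h.mem_om (x := ⟨t, h.le ht⟩ * ⟨t, h.le ht⟩)).1 (h.ben.sq_mem h.S (h.mem_S.2 ht))

theorem Fr.comm_mem (h : Fr N T) {a b : G} (ha : a ∈ T) (hb : b ∈ T) :
    a * b * a⁻¹ * b⁻¹ ∈ ZZ T :=
  (h.mem_om (x := ⟨a, h.le ha⟩ * ⟨b, h.le hb⟩ * (⟨a, h.le ha⟩ : N)⁻¹ * (⟨b, h.le hb⟩ : N)⁻¹)).1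
    (h.ben.comm_mem h.S (h.mem_S.2 ha) (h.mem_S.2 hb))

theorem Fr.eq_of_mem (h : Fr N T) (h' : Fr N T') {v : G} (hv : v ∈ T) (hv' : v ∈ T') (h1 : v ≠ 1) :
    T = T' :=
  (h.S_eq_iff h').1 (h.ben.eq_of_mem (v := ⟨v, h.le hv⟩) (h.mem_S.2 hv) (h'.mem_S.2 hv')
    fun e => h1 (congrArg Subtype.val e))

theorem Fr.mem_of_norm (h : Fr N T) {x : G} (hx : x ∈ N) (hn : x ∈ NN T) (h2 : El2 x) : x ∈ T :=
  h.syl.le_of_normalizes h2.pgroup (zpowers_le.2 hx) (zpowers_le.2 hn) (mem_zpowers x)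

theorem Fr.eq_of_norm (h : Fr N T) (h' : Fr N T') {v : G} (hv : v ∈ T) (h1 : v ≠ 1)
    (hn : v ∈ NN T') : T = T' :=
  h.eq_of_mem h' hv (h'.mem_of_norm (h.le hv) hn (El2.of_mem h.two hv)) h1

theorem Fr.cj (h : Fr N T) (g : G) : Fr (cj g N) (cj g T) :=
  ⟨h.ben.of_equiv (cjEquiv g N).symm, h.syl.cj g⟩

theorem Fr.cj_norm (h : Fr N T) {g : G} (hg : g ∈ NN N) : Fr N (Tech.cj g T) :=
  ⟨h.ben, h.syl.cj_of_mem_normalizer hg⟩

theorem Fr.norm_of_conj (h : Fr N T) {g v : G} (hg : g ∈ NN N) (hv : v ∈ T) (h1 : v ≠ 1)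
    (hc : g * v * g⁻¹ ∈ T) : g ∈ NN T :=
  mem_normalizer_iff_cj.2 ((h.cj_norm hg).eq_of_mem h (conj_mem_cj.2 hv) hc
    fun e => h1 (by simpa using e))

theorem Fr.exists_cj (h : Fr N T) (h' : Fr N T') : ∃ y ∈ N, Tech.cj y T = T' :=
  h.syl.exists_cj_eq h'.syl

theorem Fr.exists_ne (h : Fr N T) : ∃ S : Subgroup G, Fr N S ∧ S ≠ T := by
  obtain ⟨W, hW⟩ := h.ben.exists_ne h.S
  obtain ⟨S, hS, rfl⟩ := fra_of_sylow h.ben W
  exact ⟨S, hS, fun e => hW ((hS.S_eq_iff h).2 e)⟩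

theorem Fr.not_le_norm (h : Fr N T) : ¬ N ≤ NN T := fun hle => by
  obtain ⟨S, hS, hne⟩ := h.exists_ne
  obtain ⟨y, hy, rfl⟩ := h.exists_cj hS
  exact hne (mem_normalizer_iff_cj.1 (hle hy))

theorem Fr.reg (h : Fr N T) {S S' : Subgroup G} (h1 : Fr N S) (h2 : Fr N S') (e1 : S ≠ T)
    (e2 : S' ≠ T) : ∃ t ∈ T, Tech.cj t S = S' := by
  obtain ⟨v, hv, e⟩ := h.ben.exists_smul (V := h.S) (W := h1.S) (W' := h2.S)
    (fun e => e1 ((h1.S_eq_iff h).1 e)) (fun e => e2 ((h2.S_eq_iff h).1 e))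
  refine ⟨v, h.mem_S.1 hv, eq_of_le_of_card_ge (cj_le_iff.2 fun x hx => ?_) ?_⟩
  · have h3 : v * ⟨x, h1.le hx⟩ * v⁻¹ ∈ ((v • h1.S : Sylow 2 N) : Subgroup N) := by
      rw [coe_smul_sylow]
      exact conj_mem_cj.2 (h1.mem_S.2 hx)
    rw [e] at h3
    exact h2.mem_S.1 h3
  · rw [card_cj, h1.syl.card_eq h2.syl]

theorem Fr.ncard (h : Fr N T) : {S : Subgroup G | Fr N S}.ncard = Nat.card T + 1 := by
  rw [← h.card_S, ← h.ben.card h.S, ← Nat.card_coe_set_eq]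
  refine Nat.card_congr (Equiv.ofBijective (fun S => Fr.S S.2) ⟨fun S S' e => ?_, fun P => ?_⟩)
  · exact Subtype.ext ((Fr.S_eq_iff S.2 S'.2).1 e)
  · obtain ⟨S, hS, e⟩ := fra_of_sylow h.ben P
    exact ⟨⟨S, hS⟩, e⟩

theorem Fr.le_norm_or (h : Fr N T) {Y : Subgroup G} (hT : T ≤ Y) (hY : Y ≤ N) :
    Y ≤ NN T ∨ Y = N := by
  rcases h.ben.le_normalizer_or h.S (Y := Y.subgroupOf N)
    (fun x hx => hT (h.mem_S.1 hx)) with e | e
  · exact Or.inl fun y hy => (h.mem_norm_S (y := ⟨y, hY hy⟩)).1 (e hy)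
  · exact Or.inr (le_antisymm hY (subgroupOf_eq_top.1 e))

theorem Fr.card_borel (h : Fr N T) :
    Nat.card ↥(N ⊓ NN T) * (Nat.card T + 1) = Nat.card N := by
  have e : normalizer ((h.S : Subgroup N) : Set N) = (N ⊓ NN T).subgroupOf N := by
    ext y
    rw [h.mem_norm_S, mem_subgroupOf, mem_inf]
    exact ⟨fun hy => ⟨y.2, hy⟩, And.right⟩
  rw [← h.card_S, ← h.ben.card h.S, ← fra_card (A := N ⊓ NN T) inf_le_left, ← e,
    Sylow.card_eq_index_normalizer h.S]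
  exact card_mul_index _

theorem Fr.tri (h : Fr N T) : PD.Tri (Nat.card (ZZ T)) (Nat.card T) (Nat.card N) 1 := by
  rw [← h.card_om, ← h.card_S]
  exact PD.tri_of_btype h.ben h.S

theorem Fr.eight (h : Fr N T) (hne : ZZ T ≠ T) : 8 * Nat.card (ZZ T) ≤ Nat.card T := by
  obtain ⟨x, hx, hn⟩ := SetLike.exists_of_lt (lt_of_le_of_ne (ZZ_le T) hne)
  obtain ⟨W, -, h2, -, h3, -⟩ := h.ben.three h.S ⟨x, h.le hx⟩ (h.mem_S.2 hx)
    fun e => hn (h.mem_ZZ.2 ⟨hx, congrArg Subtype.val e⟩)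
  rw [← h.card_om, ← h.card_S]
  exact h3.trans (card_le_of_le h2)

theorem Fr.exists_sg (h : Fr N T) : ∃ k : G, Sg N T k := by
  obtain ⟨k, hk, hs, hle⟩ := h.ben.sing h.S
  have hk' := h.mem_norm_S.1 hk
  have hU := isPGroup_omega h.S
  have hc : ZZ T ⊓ centralizer ({(k : G)} : Set G) = ⊥ := eq_bot_iff.2 fun v hv => by
    have h1 : (⟨v, h.le hv.1.1⟩ : N) ∈ omegaOne 2 (h.S : Subgroup N) ⊓ centralizer ({k} : Set N) :=
      ⟨h.mem_om.2 hv.1, mem_centralizer_singleton_iff.2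
        (Subtype.ext (mem_centralizer_singleton_iff.1 hv.2))⟩
    rw [hs.cent] at h1
    exact congrArg Subtype.val (mem_bot.1 h1)
  have hle' : ⁅ZZ T, zpowers (k : G)⁆ ≤ ZZ T :=
    commutator_le.2 fun a ha b hb => by
      rw [commutatorElement_def, mul_assoc, mul_assoc]
      refine mul_mem ha ?_
      rw [← mul_assoc]
      exact conj_mem_of_mem_normalizer (zpowers_le.2 (NN_le_ZZ T hk') hb) (inv_mem ha)
  refine ⟨k, k.2, hk', ⟨NN_le_ZZ T hk', by rw [orderOf_coe]; exact hs.odd, hc,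
    by simpa using h.four_le, fun v hv hv1 w hw hw1 => ?_⟩, fun y hy hn => ?_⟩
  · obtain ⟨j, e⟩ := hs.bot_trans hU (v := ⟨v, h.le (hle' hv).1⟩) (w := ⟨w, h.le (hle' hw).1⟩)
      (h.mem_om.2 (hle' hv)) (fun e => hv1 (congrArg Subtype.val e)) (h.mem_om.2 (hle' hw))
      (fun e => hw1 (congrArg Subtype.val e))
    exact ⟨j, by simpa using congrArg Subtype.val e⟩
  · have h1 := hle ((h.mem_norm_S (y := ⟨y, hy⟩)).2 hn)
    rw [← SetLike.mem_coe, coe_mul_of_right_le_normalizer_left _ _ (zpowers_le.2 hk)] at h1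
    obtain ⟨t, ht, z, hz, e⟩ := h1
    obtain ⟨j, rfl⟩ := (mem_powers_iff_mem_zpowers.2 hz)
    exact ⟨t, h.mem_S.1 ht, j, by simpa using (congrArg Subtype.val e).symm⟩

theorem Fr.irr (h : Fr N T) {W : Subgroup G} (h1 : ZZ T ≤ W) (h2 : W ≤ T)
    (hn : ∀ y ∈ N, y ∈ NN T → y ∈ NN W) : W = ZZ T ∨ W = T := by
  have h3 := h2.trans h.le
  rcases h.ben.irr h.S (W.subgroupOf N) (fun x hx => h1 (h.mem_om.1 hx))
    (fun x hx => h.mem_S.2 (h2 hx))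
    (fun y hy => (fra_norm h3).2 (hn _ y.2 (h.mem_norm_S.1 hy))) with e | e
  · refine Or.inl (le_antisymm (fun x hx => ?_) h1)
    exact (h.mem_om (x := ⟨x, h3 hx⟩)).1 (e ▸ hx)
  · refine Or.inr (le_antisymm h2 fun x hx => ?_)
    have : (⟨x, h.le hx⟩ : N) ∈ W.subgroupOf N := e ▸ h.mem_S.2 hx
    exact this

theorem Fr.inner (h : Fr N T) {g : G} (hg : g ∈ NN N)
    (h1 : ∀ t ∈ T, g * t * g⁻¹ * t⁻¹ ∈ ZZ T) (h2 : ∀ v ∈ ZZ T, g * v = v * g) :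
    ∃ t ∈ T, t⁻¹ * g ∈ CC N := by
  obtain ⟨t, ht, e⟩ := h.ben.inner h.S (φ := autN N hg)
    (fun t ht => h.mem_om.2 (h1 _ (h.mem_S.1 ht))) (fun v hv => Subtype.ext (by
      rw [coe_autN, h2 _ (h.mem_om.1 hv), mul_inv_cancel_right]))
  exact ⟨t, h.mem_S.1 ht, autN_eq_conj hg e⟩

theorem Fr.cent (h : Fr N T) {g : G} (hg : g ∈ NN N) (hc : g ∈ CC T) :
    ∃ u ∈ ZZ T, u⁻¹ * g ∈ CC N := by
  obtain ⟨t, ht, e⟩ := h.inner hg (fun t ht => by
    rw [← mem_CC.1 hc t ht]; simp) fun v hv => (mem_CC.1 hc v hv.1).symm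
  refine ⟨t, ⟨ht, ?_⟩, e⟩
  have h1 : t⁻¹ * g ∈ CC T := centralizer_le h.le e
  simpa using mul_mem hc (inv_mem h1)

theorem Fr.odd_cent (h : Fr N T) {r : G} (hr : r ∈ NN N) (ho : Odd (orderOf r)) (hc : r ∈ CC T) :
    r ∈ CC N := by
  have h1 : orderOf (autN N hr) ∣ orderOf r := by
    rw [← orderOf_mk (ha := hr)]
    exact orderOf_map_dvd _ _
  have h2 := h.ben.rigid h.S (φ := autN N hr) (ho.of_dvd_nat h1) fun t ht => Subtype.ext (by
    rw [coe_autN, ← mem_CC.1 hc _ (h.mem_S.1 ht), mul_inv_cancel_right])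
  simpa using autN_eq_conj hr (t := 1) (by rw [h2, map_one])

theorem bt_eq_one (h : BType N) {x : G} (hx : x ∈ N) (hc : x ∈ CC N) : x = 1 := by
  have h1 : (⟨x, hx⟩ : N) ∈ center N := mem_center_iff.2 fun g => Subtype.ext (mem_CC.1 hc _ g.2)
  rw [h.center_eq_bot] at h1
  exact congrArg Subtype.val (mem_bot.1 h1)

theorem bt_normal (h : BType N) {X : Subgroup G} (hX : X ≤ N) (hn : N ≤ NN X) :
    X = ⊥ ∨ X = N := by
  have := h.simple
  rcases ((normal_subgroupOf_iff_le_normalizer hX).2 hn).eq_bot_or_eq_top with e | e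
  · refine Or.inl (eq_bot_iff.2 fun x hx => ?_)
    have : (⟨x, hX hx⟩ : N) ∈ X.subgroupOf N := hx
    rw [e] at this
    exact congrArg Subtype.val (mem_bot.1 this)
  · exact Or.inr (le_antisymm hX (subgroupOf_eq_top.1 e))

theorem exists_fr (h : BType N) {P : Subgroup G} (hP : IsPGroup 2 P) (hle : P ≤ N) :
    ∃ S : Subgroup G, Fr N S ∧ P ≤ S :=
  (exists_isSylowIn_ge hP hle).imp fun _ e => ⟨⟨h, e.1⟩, e.2⟩

theorem exists_fr_mem (h : BType N) {x : G} (hx : x ∈ N) (h2 : El2 x) :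
    ∃ S : Subgroup G, Fr N S ∧ x ∈ S :=
  (exists_fr h h2.pgroup (zpowers_le.2 hx)).imp fun _ e => ⟨e.1, e.2 (mem_zpowers x)⟩

theorem exists_fr_norm (h : BType N) {P : Subgroup G} (hP : IsPGroup 2 P) (hn : P ≤ NN N) :
    ∃ S : Subgroup G, Fr N S ∧ P ≤ NN S :=
  (exists_sylow_normalized hP hn).imp fun _ e => ⟨⟨h, e.1⟩, e.2⟩

theorem inv_conj (h : BType N) {s t : G} (hs : s ∈ Inv N) (ht : t ∈ Inv N) :
    ∃ y ∈ N, y * s * y⁻¹ = t := by
  have o : ∀ {x : G} (hx : x ∈ Inv N), orderOf (⟨x, hx.1⟩ : N) = 2 := fun hx =>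
    orderOf_eq_prime (by rw [pow_two]; exact Subtype.ext hx.2.1)
      fun e => hx.2.2 (congrArg Subtype.val e)
  obtain ⟨g, e⟩ := GT.exists_conj (Or.inl h) (o hs) (o ht)
  exact ⟨g, g.2, congrArg Subtype.val e⟩

theorem Fr.conj_of_ne (h : Fr N T) (h' : Fr N T') (hne : T ≠ T') {H : Subgroup G} {s t : G}
    (hs : s ∈ Inv H) (hsT : s ∈ T) (ht : t ∈ Inv H) (htT : t ∈ T') :
    ∃ y ∈ H, y * s * y⁻¹ = t := by
  rcases Nat.even_or_odd (orderOf (s * t)) with he | ho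
  · obtain ⟨h1, h2, h3⟩ := Invol.central_involution hs.2.1 ht.2.1 he
    have hz : (s * t) ^ (orderOf (s * t) / 2) ∈ N := pow_mem (mul_mem (h.le hsT) (h'.le htT)) _
    have h4 := El2.of_sq (Invol.mul_self_of_orderOf_two h1)
    refine (hne (h.eq_of_mem h' (h.mem_of_norm hz (h.norm_of_conj (le_normalizer hz) hsT hs.2.2 ?_) h4)
      (h'.mem_of_norm hz (h'.norm_of_conj (le_normalizer hz) htT ht.2.2 ?_) h4)
      (Invol.ne_one_of_orderOf_two h1))).elim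
    · rwa [h2.eq, mul_inv_cancel_right]
    · rwa [h3.eq, mul_inv_cancel_right]
  · exact Invol.exists_conj_mem_of_odd hs.2.1 ht.2.1 ho hs.1 ht.1

theorem Fr.one_class (h : Fr N T) {H : Subgroup G} (hH : H ≤ N) (hn : ¬ H ≤ NN T) {s t : G}
    (hs : s ∈ Inv H) (hsT : s ∈ T) (ht : t ∈ Inv H) : ∃ y ∈ H, y * s * y⁻¹ = t := by
  obtain ⟨S, hS, htS⟩ := exists_fr_mem h.ben (hH ht.1) (El2.of_sq ht.2.1)
  by_cases e : T = S
  · subst e
    obtain ⟨y, hy, hy'⟩ := SetLike.not_le_iff_exists.1 hn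
    obtain ⟨d, hd, e⟩ := (h.cj_norm (le_normalizer (hH hy))).conj_of_ne h
      (fun e => hy' (mem_normalizer_iff_cj.2 e)) (s := y * s * y⁻¹)
      ⟨mul_mem (mul_mem hy hs.1) (inv_mem hy), by
        calc y * s * y⁻¹ * (y * s * y⁻¹) = y * (s * s) * y⁻¹ := by group
          _ = 1 := by rw [hs.2.1]; group, fun e => hs.2.2 (by simpa using e)⟩
      (conj_mem_cj.2 hsT) ht htS
    exact ⟨d * y, mul_mem hd hy, by rw [← e]; group⟩
  · exact h.conj_of_ne hS e hs hsT ht htS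

theorem Fr.ncard_inv (h : Fr N T) :
    (Inv N).ncard = (Nat.card T + 1) * (Nat.card (ZZ T) - 1) := by
  classical
  have hc : ∀ S : {S : Subgroup G | Fr N S},
      Nat.card {v : G // v ∈ ZZ S.1 ∧ v ≠ 1} = Nat.card (ZZ T) - 1 := fun S => by
    obtain ⟨y, -, e⟩ := h.exists_cj S.2
    have h1 : Nat.card (ZZ S.1) = Nat.card (ZZ T) := by rw [← e, ← cj_ZZ, card_cj]
    rw [← h1, ← SetLike.coe_sort_coe, Nat.card_coe_set_eq,
      ← Set.ncard_sdiff_singleton_of_mem (show (1 : G) ∈ (ZZ S.1 : Set G) from one_mem _),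
      ← Nat.card_coe_set_eq]
    rfl
  have : Fintype {S : Subgroup G | Fr N S} := Fintype.ofFinite _
  rw [← h.ncard, ← Nat.card_coe_set_eq, ← Nat.card_coe_set_eq,
    ← Nat.card_congr (Equiv.ofBijective
      (fun p : Σ S : {S : Subgroup G | Fr N S}, {v : G // v ∈ ZZ S.1 ∧ v ≠ 1} =>
        (⟨p.2.1, Fr.le p.1.2 p.2.2.1.1, ((Fr.mem_ZZ p.1.2).1 p.2.2.1).2, p.2.2.2⟩ : Inv N))
      ⟨?_, ?_⟩), Nat.card_sigma, Finset.sum_congr rfl fun S _ => hc S]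
  · simp
  · rintro ⟨⟨S, hS⟩, v, hv⟩ ⟨⟨S', hS'⟩, v', hv'⟩ e
    obtain rfl : v = v' := congrArg Subtype.val e
    obtain rfl : S = S' := Fr.eq_of_mem hS hS' hv.1.1 hv'.1.1 hv.2
    rfl
  · rintro ⟨v, hv, h2, h1⟩
    obtain ⟨S, hS, hvS⟩ := exists_fr_mem h.ben hv (El2.of_sq h2)
    exact ⟨⟨⟨S, hS⟩, v, hS.mem_ZZ.2 ⟨hvS, h2⟩, h1⟩, rfl⟩

theorem Fr.mem_of_inr (h : Fr N T) {x : G} (hi : Inr N x) (hn : x ∈ NN T) (h2 : El2 x) :
    ∃ t ∈ T, t⁻¹ * x ∈ CC N := by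
  obtain ⟨y, hy, hc⟩ := hi
  refine ⟨y, h.mem_of_norm hy ?_ ?_, hc⟩
  · have h1 : y⁻¹ * x ∈ NN T := centralizer_le_normalizer _ (centralizer_le h.le hc)
    simpa using mul_mem hn (inv_mem h1)
  · obtain ⟨k, hk⟩ := h2
    have h1 : Commute y (y⁻¹ * x) := mem_CC.1 hc y hy
    have h3 : y ^ 2 ^ k * (y⁻¹ * x) ^ 2 ^ k = 1 := by rw [← h1.mul_pow, mul_inv_cancel_left, hk]
    refine ⟨k, bt_eq_one h.ben (pow_mem hy _) ?_⟩
    rw [eq_inv_of_mul_eq_one_left h3]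
    exact inv_mem (pow_mem hc _)

end CfsgLib.FSet
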