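import Cfsg.Agent.Lib.FSet.FrA
import Cfsg.Agent.Lib.FSet.Tools

/-! Package GEO of plans/FSET1.md: the family `N c`. -/

set_option autoImplicit false
set_option linter.unusedSectionVars false

namespace CfsgLib.FSet

open Subgroup Cfsg CfsgLib.Tech CfsgLib.Gold

universe u v

variable {G : Type u} {Ω : Type v} [Group G] [Finite G] [Finite Ω] [MulAction G Ω]
  {N : Ω → Subgroup G}

theorem Hyp.exists_ne (H : Hyp N) (a : Ω) : ∃ b : Ω, b ≠ a := by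
  by_contra hc
  push Not at hc
  refine (H.ben a).ncomm ⟨⟨fun x y => Subtype.ext ?_⟩⟩
  have h1 : ∀ g : G, g = 1 := fun g => H.faith g fun c => by rw [hc (g • c), hc c]
  rw [h1 (x * y : N a), h1 (y * x : N a)]

theorem Hyp.tr (H : Hyp N) (a b : Ω) : ∃ g : G, g • a = b := by
  by_cases e : a = b
  · exact ⟨1, by simp [e]⟩
  · exact (H.two a b b a e (Ne.symm e)).imp fun _ h => h.1

theorem Hyp.norm (H : Hyp N) {g : G} {c : Ω} (e : g • c = c) : g ∈ NN (N c) :=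
  mem_normalizer_iff_cj.2 (by rw [← H.conj, e])

theorem Hyp.conj_mem (H : Hyp N) {y : G} {c : Ω} (hy : y ∈ N c) (g : G) :
    g * y * g⁻¹ ∈ N (g • c) := by
  rw [H.conj]
  exact conj_mem_cj.2 hy

theorem Hyp.conj_mem_CC (H : Hyp N) {y : G} {c : Ω} (hy : y ∈ CC (N c)) (g : G) :
    g * y * g⁻¹ ∈ CC (N (g • c)) := by
  rw [H.conj, CC, ← cj_centralizer]
  exact conj_mem_cj.2 hy

theorem Hyp.fr_smul (H : Hyp N) {c : Ω} {T : Subgroup G} (h : Fr (N c) T) (g : G) :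
    Fr (N (g • c)) (cj g T) := by
  rw [H.conj]
  exact h.cj g

theorem Hyp.exists_fr (H : Hyp N) (c : Ω) : ∃ T : Subgroup G, Fr (N c) T :=
  (exists_isSylowIn 2 (N c)).imp fun _ h => ⟨H.ben c, h⟩

theorem Hyp.fix_of_fr (H : Hyp N) {c : Ω} {T : Subgroup G} (h : Fr (N c) T) {t : G} (ht : t ∈ T) :
    t • c = c := H.fix c t (h.le ht)

theorem Hyp.moves (H : Hyp N) {a b : Ω} (hab : b ≠ a) : ∃ x ∈ N a, x • b ≠ b := by
  by_contra hc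
  push Not at hc
  have h1 : ∀ x ∈ N a, x = 1 := fun x hx => H.faith x fun c => by
    by_cases e : c = a
    · rw [e, H.fix a x hx]
    obtain ⟨g, e1, e2⟩ := H.two a b a c hab.symm (Ne.symm e)
    have h2 := hc _ (conj_mem_of_mem_normalizer' (H.norm e1) hx)
    rwa [mul_smul, mul_smul, e2, inv_smul_eq_iff, e2] at h2
  exact (H.ben a).ncomm ⟨⟨fun x y => Subtype.ext (by rw [h1 _ (x * y).2, h1 _ (y * x).2])⟩⟩

theorem Hyp.fix_of_norm (H : Hyp N) {g : G} {c : Ω} (hg : g ∈ NN (N c)) : g • c = c := by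
  by_contra hc
  obtain ⟨x, hx, e⟩ := H.moves hc
  refine e (H.fix _ x ?_)
  rwa [H.conj, mem_normalizer_iff_cj.1 hg]

theorem Hyp.cent_fix (H : Hyp N) {w : G} {c : Ω} (hw : w ∈ CC (N c)) : w • c = c :=
  H.fix_of_norm (centralizer_le_normalizer _ hw)

theorem Hyp.l3 (H : Hyp N) {a b : Ω} {x y : G} (hy : y ∈ N b) (hc : y ∈ CC (N a)) (hx : x ∈ N a) :
    y ∈ N (x • b) := by
  have := H.conj_mem hy x
  rwa [mem_CC.1 hc x hx, mul_inv_cancel_right] at this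

theorem Hyp.exists_cj (H : Hyp N) {c d : Ω} {T S : Subgroup G} (h : Fr (N c) T) (h' : Fr (N d) S) :
    ∃ g : G, g • c = d ∧ cj g T = S := by
  obtain ⟨g, rfl⟩ := H.tr c d
  obtain ⟨y, hy, e⟩ := (H.fr_smul h g).exists_cj h'
  exact ⟨y * g, by rw [mul_smul, H.fix _ y hy], by rw [cj_mul, e]⟩

theorem Hyp.card_eq (H : Hyp N) {c d : Ω} {T S : Subgroup G} (h : Fr (N c) T) (h' : Fr (N d) S) :
    Nat.card T = Nat.card S ∧ Nat.card (ZZ T) = Nat.card (ZZ S) ∧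
      Nat.card (N c) = Nat.card (N d) := by
  obtain ⟨g, rfl, rfl⟩ := H.exists_cj h h'
  rw [H.conj, ← cj_ZZ, card_cj, card_cj, card_cj]
  exact ⟨rfl, rfl, rfl⟩

theorem inv_cj {X : Subgroup G} {s : G} (hs : s ∈ Inv X) (g : G) :
    g * s * g⁻¹ ∈ Inv (cj g X) := by
  refine ⟨conj_mem_cj.2 hs.1, ?_, fun e => hs.2.2 (by simpa using e)⟩
  calc g * s * g⁻¹ * (g * s * g⁻¹) = g * (s * s) * g⁻¹ := by group
    _ = 1 := by rw [hs.2.1]; group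

theorem Hyp.inv_smul (H : Hyp N) {s : G} {c : Ω} (hs : s ∈ Inv (N c)) (g : G) :
    g * s * g⁻¹ ∈ Inv (N (g • c)) := by
  rw [H.conj]
  exact inv_cj hs g

theorem Hyp.ii_conj (H : Hyp N) {s : G} (hs : II N s) (g : G) : II N (g * s * g⁻¹) := by
  obtain ⟨h2, h1, c, hc⟩ := hs
  have := inv_cj (X := N c) ⟨hc, h2, h1⟩ g
  exact ⟨this.2.1, this.2.2, g • c, H.conj_mem hc g⟩

theorem Hyp.ii_isConj (H : Hyp N) {s t : G} {c d : Ω} (hs : s ∈ Inv (N c)) (ht : t ∈ Inv (N d)) :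
    ∃ g : G, g • c = d ∧ g * s * g⁻¹ = t := by
  obtain ⟨g, rfl⟩ := H.tr c d
  obtain ⟨y, hy, e⟩ := inv_conj (H.ben _) (H.inv_smul hs g) ht
  exact ⟨y * g, by rw [mul_smul, H.fix _ y hy], by rw [← e]; group⟩

theorem Hyp.l1 (H : Hyp N) {s : G} {c d : Ω} (hc : s ∈ Inv (N c)) (hd : s ∈ N d) :
    ∃ g : G, g * s = s * g ∧ g • c = d := by
  obtain ⟨g, e1, e2⟩ := H.ii_isConj hc (⟨hd, hc.2⟩ : s ∈ Inv (N d))
  exact ⟨g, mul_inv_eq_iff_eq_mul.1 e2, e1⟩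

theorem Hyp.geo_eq (H : Hyp N) {a b c d : Ω} (hab : a ≠ b) (hcd : c ≠ d)
    (h : CC (N a) ⊓ CC (N b) ≤ CC (N c) ⊓ CC (N d)) :
    CC (N a) ⊓ CC (N b) = CC (N c) ⊓ CC (N d) := by
  obtain ⟨g, rfl, rfl⟩ := H.two a b c d hab hcd
  refine eq_of_le_of_card_ge h ?_
  rw [H.conj, H.conj, CC, CC, ← cj_centralizer, ← cj_centralizer, ← cj_inf, card_cj]

theorem Hyp.geo (H : Hyp N) {a b : Ω} (hab : a ≠ b) {w : G} (hw : w ∈ CC (N a) ⊓ CC (N b))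
    (hyp : ∀ e : Ω, ¬ CC (N a) ⊓ CC (N b) ≤ CC (N e) → ∃ (b₁ b₂ : Ω) (y₁ y₂ : G), b₁ ≠ b₂ ∧
      CC (N a) ⊓ CC (N b) ≤ CC (N b₁) ∧ CC (N a) ⊓ CC (N b) ≤ CC (N b₂) ∧ y₁ • e = e ∧ y₂ • e = e ∧
      y₁ * w⁻¹ ∈ N b₁ ∧ y₂ * w⁻¹ ∈ N b₂) : w = 1 := by
  refine H.faith w fun e => ?_
  by_cases he : CC (N a) ⊓ CC (N b) ≤ CC (N e)
  · exact H.cent_fix (he hw)
  obtain ⟨b₁, b₂, y₁, y₂, hne, h1, h2, e1, e2, m1, m2⟩ := hyp e he
  by_contra hc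
  have key : ∀ (c : Ω) (y : G), CC (N a) ⊓ CC (N b) ≤ CC (N c) → y • e = e → y * w⁻¹ ∈ N c →
      CC (N c) ⊓ CC (N e) = CC (N e) ⊓ CC (N (w • e)) := fun c y h3 e3 m => by
    have hce : c ≠ e := fun h => he (h ▸ h3)
    refine H.geo_eq hce (Ne.symm hc) (le_inf inf_le_right fun x hx => ?_)
    have h5 := H.conj_mem_CC (H.conj_mem_CC hx.2 y⁻¹) w
    rw [inv_smul_eq_iff.2 e3.symm] at h5
    have h6 := mem_CC.1 hx.1 _ m
    have h7 : w * (y⁻¹ * x * y⁻¹⁻¹) * w⁻¹ = x := by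
      calc w * (y⁻¹ * x * y⁻¹⁻¹) * w⁻¹ = (y * w⁻¹)⁻¹ * (x * (y * w⁻¹)) := by group
        _ = x := by rw [← h6]; group
    rwa [h7] at h5
  have k1 := key b₁ y₁ h1 e1 m1
  have k2 := key b₂ y₂ h2 e2 m2
  have hb : b₁ ≠ e := fun h => he (h ▸ h1)
  have k3 : CC (N b₁) ⊓ CC (N e) = CC (N b₁) ⊓ CC (N b₂) :=
    H.geo_eq hb hne (le_inf inf_le_left (by rw [k1, ← k2]; exact inf_le_left))
  refine he ?_
  rw [H.geo_eq hab hne (le_inf h1 h2), ← k3]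
  exact inf_le_right

end CfsgLib.FSet
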